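import Groth.Agent.FormalB.GrTildeSect
import Mathlib.RingTheory.Noetherian.Basic

set_option autoImplicit false
set_option linter.unusedSectionVars false

universe u

open CategoryTheory CategoryTheory.Limits AlgebraicGeometry TopologicalSpace Opposite TopCat

namespace Groth.Agent.FormalB.ProjCover

open Groth.Agent.FormalB.GrTildeSect

variable {R A : Type u} [CommRing R] [CommRing A] [Algebra R A] (𝒜 : ℕ → Submodule R A) [GradedAlgebra 𝒜]

/-- For a Noetherian graded ring, `Proj` is covered by finitely many `D_+(f_i)` with `f_i` of the same positive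
degree. -/
theorem exists_cover [IsNoetherianRing A] : ∃ (n : ℕ) (f : Fin n → A) (c : ℕ), 0 < c ∧ (∀ i, f i ∈ 𝒜 c) ∧
    ∀ x : ProjectiveSpectrum 𝒜, ∃ i, f i ∉ x.asHomogeneousIdeal := by
  classical
  let S : Set A := {a | ∃ d : ℕ, 0 < d ∧ a ∈ 𝒜 d}
  obtain ⟨T, hTS, hT⟩ := (Submodule.fg_span_iff_fg_span_finset_subset (R := A) S).mp
    ((isNoetherianRing_iff_ideal_fg A).mp inferInstance (Ideal.span S))
  have hTS' : ∀ t : T, ∃ d : ℕ, 0 < d ∧ (t : A) ∈ 𝒜 d := fun t => hTS t.2
  choose d hd ht using hTS'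
  let c := ∏ t, d t
  have hdvd : ∀ t, d t ∣ c := fun t => Finset.dvd_prod_of_mem d (Finset.mem_univ t)
  let eT : Fin (Fintype.card T) ≃ T := (Fintype.equivFin T).symm
  refine ⟨Fintype.card T, fun i => (eT i : A) ^ (c / d (eT i)), c, Finset.prod_pos fun t _ => hd t, fun i => ?_,
    fun x => ?_⟩
  · have := SetLike.pow_mem_graded (c / d (eT i)) (ht (eT i))
    rwa [smul_eq_mul, Nat.div_mul_cancel (hdvd _)] at this
  · obtain ⟨k, h, hk, hh, hhx⟩ := exists_pos_notMem 𝒜 x
    have h1 : h ∈ Ideal.span S := Ideal.subset_span ⟨k, hk, hh⟩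
    have h2 : ∃ t ∈ T, t ∉ x.asHomogeneousIdeal := by
      by_contra! H
      apply hhx
      have h3 : Ideal.span S ≤ x.asHomogeneousIdeal.toIdeal := by
        change Submodule.span A S ≤ _
        rw [hT]
        exact Submodule.span_le.mpr fun t ht => H t ht
      exact h3 h1
    obtain ⟨t, htT, htx⟩ := h2
    refine ⟨eT.symm ⟨t, htT⟩, ?_⟩
    simp only [Equiv.apply_symm_apply]
    exact pow_notMem htx _

end Groth.Agent.FormalB.ProjCover
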