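import Groth.Agent.FormalB.TildeIso

set_option autoImplicit false
set_option linter.unusedSectionVars false

universe u

open CategoryTheory CategoryTheory.Limits AlgebraicGeometry TopologicalSpace Opposite TopCat

namespace Groth.Agent.FormalB.TwistExt

open Groth.Agent.FormalB.GrTildeSect Groth.Agent.FormalB.GlueHom Groth.Agent.FormalB.TwistFrac
open Groth.Agent.FormalB.TildeOfPres Groth.Agent.FormalB.TildeIso

variable {R A : Type u} [CommRing R] [CommRing A] [Algebra R A] {𝒜 : ℕ → Submodule R A} [GradedAlgebra 𝒜]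

theorem ofrac_mul {U : (Proj 𝒜).Opens} {i j : ℕ} {a b a' b' : A} (ha : a ∈ 𝒜 i) (hb : b ∈ 𝒜 i) (hU : NV U b)
    (ha' : a' ∈ 𝒜 j) (hb' : b' ∈ 𝒜 j) (hU' : NV U b') :
    ofrac U ha hb hU * ofrac U ha' hb' hU' =
      ofrac U (SetLike.mul_mem_graded ha ha') (SetLike.mul_mem_graded hb hb') (hU.mul hU') := by
  apply oval_ext
  intro x
  rw [oval_mul, oval_ofrac, oval_ofrac, oval_ofrac, Localization.mk_mul]
  rfl

theorem ofrac_congr {U : (Proj 𝒜).Opens} {i j : ℕ} {a b a' b' : A} {ha : a ∈ 𝒜 i} {hb : b ∈ 𝒜 i} {hU : NV U b}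
    {ha' : a' ∈ 𝒜 j} {hb' : b' ∈ 𝒜 j} {hU' : NV U b'} (h : b' * a = b * a') :
    ofrac U ha hb hU = ofrac U ha' hb' hU' := by
  apply oval_ext
  intro x
  rw [oval_ofrac, oval_ofrac, Localization.mk_eq_mk_iff, Localization.r_iff_exists]
  exact ⟨1, by simpa using h⟩

theorem ofrac_eq_one {U : (Proj 𝒜).Opens} {i : ℕ} {a b : A} (ha : a ∈ 𝒜 i) (hb : b ∈ 𝒜 i) (hU : NV U b)
    (h : a = b) : ofrac U ha hb hU = 1 := by
  apply oval_ext
  intro x
  rw [oval_ofrac, oval_one, ← Localization.mk_one, Localization.mk_eq_mk_iff, Localization.r_iff_exists]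
  exact ⟨1, by simp [h]⟩

theorem basicOpen_ofrac {U : (Proj 𝒜).Opens} {i : ℕ} {a b : A} (ha : a ∈ 𝒜 i) (hb : b ∈ 𝒜 i)
    (hU : NV U b) : (Proj 𝒜).basicOpen (ofrac U ha hb hU) = U ⊓ Proj.basicOpen 𝒜 a := by
  apply le_antisymm
  · exact le_inf ((Proj 𝒜).basicOpen_le _) (basicOpen_ofrac_le ha hb hU)
  · rintro x ⟨hxU, hxa⟩
    rw [Scheme.mem_basicOpen (Proj 𝒜) (ofrac U ha hb hU) x hxU]
    have hle : U ⊓ Proj.basicOpen 𝒜 a ≤ U := inf_le_left
    have hNa : NV (U ⊓ Proj.basicOpen 𝒜 a) a := NV.of_le inf_le_right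
    have h1 : ofrac (U ⊓ Proj.basicOpen 𝒜 a) ha hb (hU.mono hle) * ofrac (U ⊓ Proj.basicOpen 𝒜 a) hb ha hNa = 1 := by
      rw [ofrac_mul]
      exact ofrac_eq_one _ _ _ (mul_comm _ _)
    have h2 : IsUnit (ofrac (U ⊓ Proj.basicOpen 𝒜 a) ha hb (hU.mono hle)) := IsUnit.of_mul_eq_one _ h1
    have h3 : (Proj 𝒜).presheaf.germ U x hxU (ofrac U ha hb hU) =
        (Proj 𝒜).presheaf.germ (U ⊓ Proj.basicOpen 𝒜 a) x ⟨hxU, hxa⟩ (ofrac _ ha hb (hU.mono hle)) := by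
      rw [← map_ofrac hle ha hb hU]
      exact (TopCat.Presheaf.germ_res_apply _ _ _ _ _).symm
    rw [h3]
    exact h2.map _

section Hom

variable {F : (Proj 𝒜).Modules} {ι : Type} {c : ℕ} {f : ι → A} (hf : ∀ i, f i ∈ 𝒜 c)
  (hcov : ∀ x : ProjectiveSpectrum 𝒜, ∃ i, f i ∉ x.asHomogeneousIdeal)

include hcov in
/-- A compatible family of sections of `F` over the `D_+(f_l)` gives a morphism `O(-Nc) ⟶ F`. -/
theorem exists_hom (N : ℕ) (z : ∀ l, Γ(F, Proj.basicOpen 𝒜 (f l)))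
    (hz : ∀ l k, GlueHom.res F (inf_le_right : Proj.basicOpen 𝒜 (f l) ⊓ Proj.basicOpen 𝒜 (f k) ≤ _) (z k) =
      ofrac (Proj.basicOpen 𝒜 (f l) ⊓ Proj.basicOpen 𝒜 (f k)) (mem_pow (hf l) N) (mem_pow (hf k) N)
        ((NV.of_le inf_le_right).pow N) • GlueHom.res F inf_le_left (z l)) :
    ∃ φ : Twist.twist 𝒜 (-((N * c : ℕ) : ℤ)) ⟶ F, ∀ (l : ι) (U : (Proj 𝒜).Opens) (hU : U ≤ Proj.basicOpen 𝒜 (f l))
      (t : Γ(Twist.twist 𝒜 (-((N * c : ℕ) : ℤ)), U)) (a : Γ(Proj 𝒜, U)),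
      (∀ x : U, oval a x = algebraMap A (Twist.Loc 𝒜 x.1) (f l ^ N) * tval t x) →
        φ.app U t = a • GlueHom.res F hU (z l) := by
  have hz' : ∀ (l k : ι) (U : (Proj 𝒜).Opens) (hl : U ≤ Proj.basicOpen 𝒜 (f l)) (hk : U ≤ Proj.basicOpen 𝒜 (f k)),
      GlueHom.res F hk (z k) = ofrac U (mem_pow (hf l) N) (mem_pow (hf k) N) ((NV.of_le hk).pow N) •
        GlueHom.res F hl (z l) := by
    intro l k U hl hk
    have h := congrArg (GlueHom.res F (le_inf hl hk)) (hz l k)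
    rw [GlueHom.res_smul, GlueHom.res_res, GlueHom.res_res, map_ofrac] at h
    exact h
  have hval : ∀ (l k : ι) (U : (Proj 𝒜).Opens) (hk : U ≤ Proj.basicOpen 𝒜 (f k))
      (t : Γ(Twist.twist 𝒜 (-((N * c : ℕ) : ℤ)), U)) (a a' : Γ(Proj 𝒜, U)),
      (∀ x : U, oval a x = algebraMap A (Twist.Loc 𝒜 x.1) (f l ^ N) * tval t x) →
      (∀ x : U, oval a' x = algebraMap A (Twist.Loc 𝒜 x.1) (f k ^ N) * tval t x) →
      a = a' * ofrac U (mem_pow (hf l) N) (mem_pow (hf k) N) ((NV.of_le hk).pow N) := by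
    intro l k U hk t a a' h1 h2
    apply oval_ext
    intro x
    rw [oval_mul, oval_ofrac, h1, h2]
    have h3 : algebraMap A (Twist.Loc 𝒜 x.1) (f k ^ N) * Localization.mk (f l ^ N)
        ⟨f k ^ N, ((NV.of_le hk).pow N) x.1 x.2⟩ = algebraMap A (Twist.Loc 𝒜 x.1) (f l ^ N) := by
      rw [← Localization.mk_one_eq_algebraMap, ← Localization.mk_one_eq_algebraMap, Localization.mk_mul,
        Localization.mk_eq_mk_iff, Localization.r_iff_exists]
      exact ⟨1, by simp⟩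
    rw [← h3]
    ring
  have main := exists_hom_of_rel (Twist.twist 𝒜 (-((N * c : ℕ) : ℤ))) F
    (fun U t y => ∃ (l : ι) (hl : U ≤ Proj.basicOpen 𝒜 (f l)) (a : Γ(Proj 𝒜, U)),
      (∀ x : U, oval a x = algebraMap A (Twist.Loc 𝒜 x.1) (f l ^ N) * tval t x) ∧ y = a • GlueHom.res F hl (z l))
    ?_ ?_ ?_ ?_ ?_
  · obtain ⟨φ, hφ⟩ := main
    exact ⟨φ, fun l U hU t a ha => hφ U t _ ⟨l, hU, a, ha, rfl⟩⟩
  · intro U t x hx
    obtain ⟨l, hl⟩ := hcov x
    obtain ⟨V, h, j, s, a, hs, hV, ha, hxV, heq⟩ := exists_tfrac t x hx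
    have ha' : f l ^ N * a ∈ 𝒜 j := mem_of_mem_zdeg (ℳ := 𝒜) (k := (j : ℤ)) rfl
      (smul_mem_zdeg_of_eq 𝒜 (mem_pow (hf l) N) ha (by ring))
    refine ⟨V ⊓ Proj.basicOpen 𝒜 (f l), inf_le_left.trans h,
      ofrac (V ⊓ Proj.basicOpen 𝒜 (f l)) ha' hs (hV.mono inf_le_left) • GlueHom.res F inf_le_right (z l), ⟨hxV, hl⟩,
      l, inf_le_right, _, fun y => ?_, rfl⟩
    rw [← GlueHom.res_res _ h inf_le_left, heq, res_tfrac, oval_ofrac, tval_tfrac,
      ← Localization.mk_one_eq_algebraMap, Localization.mk_mul, one_mul]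
  · rintro U t y y' ⟨l, hl, a, ha, rfl⟩ ⟨k, hk, a', ha', rfl⟩
    rw [hz' l k U hl hk, smul_smul, ← hval l k U hk t a a' ha ha']
  · rintro U V h t y ⟨l, hl, a, ha, rfl⟩
    refine ⟨l, h.trans hl, (Proj 𝒜).presheaf.map (homOfLE h).op a, fun x => ?_, ?_⟩
    · exact ha ⟨x.1, h x.2⟩
    · rw [GlueHom.res_smul, GlueHom.res_res]
  · rintro U t t' y y' ⟨l, hl, a, ha, rfl⟩ ⟨k, hk, a', ha', rfl⟩
    refine ⟨l, hl, a + a' * ofrac U (mem_pow (hf l) N) (mem_pow (hf k) N) ((NV.of_le hk).pow N), fun x => ?_, ?_⟩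
    · have h1 : oval (a' * ofrac U (mem_pow (hf l) N) (mem_pow (hf k) N) ((NV.of_le hk).pow N)) x =
          algebraMap A (Twist.Loc 𝒜 x.1) (f l ^ N) * tval t' x := by
        rw [oval_mul, oval_ofrac, ha', mul_right_comm, ← Localization.mk_one_eq_algebraMap, Localization.mk_mul,
          ← Localization.mk_one_eq_algebraMap]
        congr 1
        rw [Localization.mk_eq_mk_iff, Localization.r_iff_exists]
        exact ⟨1, by simp⟩
      have h2 : oval (a + a' * ofrac U (mem_pow (hf l) N) (mem_pow (hf k) N) ((NV.of_le hk).pow N)) x =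
          oval a x + oval (a' * ofrac U (mem_pow (hf l) N) (mem_pow (hf k) N) ((NV.of_le hk).pow N)) x :=
        HomogeneousLocalization.val_add _ _
      rw [h2, h1, ha, tval_add, mul_add]
    · rw [hz' l k U hl hk, smul_smul, add_smul]
  · rintro U r t y ⟨l, hl, a, ha, rfl⟩ x hx
    refine ⟨U, le_rfl, hx, l, hl, r * a, fun x => ?_, ?_⟩
    · rw [GlueHom.res_self, oval_mul, ha, tval_smul]
      ring
    · rw [GlueHom.res_self, smul_smul]

variable [Fintype ι] (hc : 0 < c)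

include hc hf in
/-- Extension of a section over `D_+(f_i)` to the other charts after multiplication by `(f_i/f_l)^N`. -/
theorem exists_ext (hF : SheafOfModules.IsQuasicoherent (R := (Proj 𝒜).ringCatSheaf) F) (i : ι)
    (y : Γ(F, Proj.basicOpen 𝒜 (f i))) :
    ∃ (N : ℕ) (t : ∀ l, Γ(F, Proj.basicOpen 𝒜 (f l))), ∀ l,
      GlueHom.res F (inf_le_left : Proj.basicOpen 𝒜 (f l) ⊓ Proj.basicOpen 𝒜 (f i) ≤ _) (t l) =
        ofrac (Proj.basicOpen 𝒜 (f l) ⊓ Proj.basicOpen 𝒜 (f i)) (mem_pow (hf i) N) (mem_pow (hf l) N)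
          ((NV.of_le inf_le_left).pow N) • GlueHom.res F inf_le_right y := by
  have key : ∀ l, ∃ n : ℕ, ∀ m, n ≤ m → ∃ t : Γ(F, Proj.basicOpen 𝒜 (f l)),
      GlueHom.res F (inf_le_left : Proj.basicOpen 𝒜 (f l) ⊓ Proj.basicOpen 𝒜 (f i) ≤ _) t =
        ofrac (Proj.basicOpen 𝒜 (f l) ⊓ Proj.basicOpen 𝒜 (f i)) (mem_pow (hf i) m) (mem_pow (hf l) m)
          ((NV.of_le inf_le_left).pow m) • GlueHom.res F inf_le_right y := by
    intro l
    have hloc := CohqB.QC2.loc_of_isQuasicoherent F (Proj.isAffineOpen_basicOpen 𝒜 (f l) (hf l) hc)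
    set h := ofrac (Proj.basicOpen 𝒜 (f l)) (hf i) (hf l) (NV.basicOpen (f l)) with hh
    have hle : (Proj 𝒜).basicOpen h ≤ Proj.basicOpen 𝒜 (f i) := basicOpen_ofrac_le _ _ _
    have hle' : Proj.basicOpen 𝒜 (f l) ⊓ Proj.basicOpen 𝒜 (f i) ≤ (Proj 𝒜).basicOpen h := by
      rw [hh, basicOpen_ofrac]
    obtain ⟨n, t, ht⟩ := hloc.exists_lift h (GlueHom.res F hle y)
    refine ⟨n, fun m hm => ?_⟩
    obtain ⟨d, rfl⟩ := Nat.exists_eq_add_of_le hm
    refine ⟨ofrac (Proj.basicOpen 𝒜 (f l)) (mem_pow (hf i) d) (mem_pow (hf l) d) ((NV.basicOpen (f l)).pow d) • t, ?_⟩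
    have ht' : GlueHom.res F ((Proj 𝒜).basicOpen_le h) t =
      ((Proj 𝒜).presheaf.map (homOfLE ((Proj 𝒜).basicOpen_le h)).op h) ^ n • GlueHom.res F hle y := ht
    have h1 := congrArg (GlueHom.res F hle') ht'
    have hmap : (Proj 𝒜).presheaf.map (homOfLE hle').op
        (((Proj 𝒜).presheaf.map (homOfLE ((Proj 𝒜).basicOpen_le h)).op h) ^ n) =
        ofrac (Proj.basicOpen 𝒜 (f l) ⊓ Proj.basicOpen 𝒜 (f i)) (mem_pow (hf i) n) (mem_pow (hf l) n)
          ((NV.of_le inf_le_left).pow n) := by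
      rw [map_pow, ← ofrac_pow (hf i) (hf l) (NV.of_le inf_le_left)]
      rfl
    rw [GlueHom.res_res, GlueHom.res_smul, GlueHom.res_res, hmap] at h1
    rw [GlueHom.res_smul, h1, map_ofrac, smul_smul, ofrac_mul]
    congr 1
    exact ofrac_congr (by rw [pow_add, pow_add]; ring)
  choose n hn using key
  refine ⟨Finset.univ.sup n, ?_⟩
  choose t ht using fun l => hn l (Finset.univ.sup n) (Finset.le_sup (Finset.mem_univ l))
  exact ⟨t, ht⟩

include hc hf hcov in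
/-- Every section of a quasi-coherent module over `D_+(f_i)` comes from a morphism `O(-Nc) ⟶ F`. -/
theorem exists_hom_of_section (hF : SheafOfModules.IsQuasicoherent (R := (Proj 𝒜).ringCatSheaf) F) (i : ι)
    (y : Γ(F, Proj.basicOpen 𝒜 (f i))) :
    ∃ (N : ℕ) (φ : Twist.twist 𝒜 (-((N * c : ℕ) : ℤ)) ⟶ F) (t : Γ(Twist.twist 𝒜 (-((N * c : ℕ) : ℤ)), Proj.basicOpen 𝒜 (f i))),
      φ.app _ t = y := by
  obtain ⟨N, t, ht⟩ := exists_ext hf hc hF i y
  -- compatibility up to a power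
  have key : ∀ l k, ∃ m : ℕ, ∀ M, m ≤ M →
      ofrac (Proj.basicOpen 𝒜 (f l) ⊓ Proj.basicOpen 𝒜 (f k)) (mem_pow (hf i) M) (mem_pow (hf k) M)
        ((NV.of_le inf_le_right).pow M) •
      (GlueHom.res F (inf_le_right : Proj.basicOpen 𝒜 (f l) ⊓ Proj.basicOpen 𝒜 (f k) ≤ _) (t k) -
        ofrac (Proj.basicOpen 𝒜 (f l) ⊓ Proj.basicOpen 𝒜 (f k)) (mem_pow (hf l) N) (mem_pow (hf k) N)
          ((NV.of_le inf_le_right).pow N) • GlueHom.res F inf_le_left (t l)) = 0 := by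
    intro l k
    have haff : IsAffineOpen (Proj.basicOpen 𝒜 (f l) ⊓ Proj.basicOpen 𝒜 (f k)) := by
      rw [← Proj.basicOpen_mul]
      exact Proj.isAffineOpen_basicOpen 𝒜 (f l * f k) (SetLike.mul_mem_graded (hf l) (hf k)) (by omega)
    have hloc := CohqB.QC2.loc_of_isQuasicoherent F haff
    set h := ofrac (Proj.basicOpen 𝒜 (f l) ⊓ Proj.basicOpen 𝒜 (f k)) (hf i) (hf k) (NV.of_le inf_le_right) with hh
    set δ := (GlueHom.res F (inf_le_right : Proj.basicOpen 𝒜 (f l) ⊓ Proj.basicOpen 𝒜 (f k) ≤ _) (t k) -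
        ofrac (Proj.basicOpen 𝒜 (f l) ⊓ Proj.basicOpen 𝒜 (f k)) (mem_pow (hf l) N) (mem_pow (hf k) N)
          ((NV.of_le inf_le_right).pow N) • GlueHom.res F inf_le_left (t l)) with hδ
    have hle : (Proj 𝒜).basicOpen h ≤ Proj.basicOpen 𝒜 (f i) := basicOpen_ofrac_le _ _ _
    have hle0 : (Proj 𝒜).basicOpen h ≤ Proj.basicOpen 𝒜 (f l) ⊓ Proj.basicOpen 𝒜 (f k) := (Proj 𝒜).basicOpen_le h
    have h0 : GlueHom.res F ((Proj 𝒜).basicOpen_le h) δ = 0 := by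
      have hk := congrArg (GlueHom.res F (le_inf (hle0.trans inf_le_right) hle)) (ht k)
      have hl := congrArg (GlueHom.res F (le_inf (hle0.trans inf_le_left) hle)) (ht l)
      rw [GlueHom.res_res, GlueHom.res_smul, GlueHom.res_res, map_ofrac] at hk hl
      rw [hδ, GlueHom.res_sub, GlueHom.res_res, GlueHom.res_smul, GlueHom.res_res, map_ofrac, hk, hl, smul_smul,
        ofrac_mul, sub_eq_zero]
      congr 1
      exact ofrac_congr (by ring)
    obtain ⟨m, hm⟩ := hloc.eq_zero h δ h0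
    refine ⟨m, fun M hM => ?_⟩
    obtain ⟨d, rfl⟩ := Nat.exists_eq_add_of_le hM
    rw [← ofrac_pow (hf i) (hf k) (NV.of_le inf_le_right), ← hh, add_comm, pow_add, mul_smul, hm, smul_zero]
  choose m hm using key
  let M := Finset.univ.sup (fun l => Finset.univ.sup (m l))
  have hM : ∀ l k, m l k ≤ M := fun l k =>
    (Finset.le_sup (f := m l) (Finset.mem_univ k)).trans (Finset.le_sup (f := fun l => Finset.univ.sup (m l)) (Finset.mem_univ l))
  let z : ∀ l, Γ(F, Proj.basicOpen 𝒜 (f l)) := fun l =>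
    ofrac (Proj.basicOpen 𝒜 (f l)) (mem_pow (hf i) M) (mem_pow (hf l) M) ((NV.basicOpen (f l)).pow M) • t l
  have hz : ∀ l k, GlueHom.res F (inf_le_right : Proj.basicOpen 𝒜 (f l) ⊓ Proj.basicOpen 𝒜 (f k) ≤ _) (z k) =
      ofrac (Proj.basicOpen 𝒜 (f l) ⊓ Proj.basicOpen 𝒜 (f k)) (mem_pow (hf l) (N + M)) (mem_pow (hf k) (N + M))
        ((NV.of_le inf_le_right).pow (N + M)) • GlueHom.res F inf_le_left (z l) := by
    intro l k
    have h1 := hm l k M (hM l k)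
    rw [smul_sub, sub_eq_zero] at h1
    simp only [z]
    rw [GlueHom.res_smul, GlueHom.res_smul, map_ofrac, map_ofrac, h1, smul_smul, smul_smul, ofrac_mul, ofrac_mul]
    congr 1
    exact ofrac_congr (by rw [pow_add, pow_add]; ring)
  obtain ⟨φ, hφ⟩ := exists_hom hf hcov (N + M) z hz
  have h1 : (1 : A) ∈ zdeg 𝒜 ((((N + M) * c : ℕ) : ℤ) + (-(((N + M) * c : ℕ) : ℤ))) :=
    mem_zdeg_of_eq (i := 0) (by simp) SetLike.GradedOne.one_mem
  refine ⟨N + M, φ, tfrac _ _ (mem_pow (hf i) (N + M)) ((NV.basicOpen (f i)).pow (N + M)) h1, ?_⟩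
  rw [hφ i _ le_rfl _ 1 (fun x => ?_), one_smul, GlueHom.res_self]
  · refine eq_of_local F fun x hx => ⟨Proj.basicOpen 𝒜 (f i) ⊓ Proj.basicOpen 𝒜 (f i), inf_le_left, ⟨hx, hx⟩, ?_⟩
    simp only [z]
    rw [GlueHom.res_smul, ht i, map_ofrac, smul_smul, ofrac_mul, ofrac_eq_one _ _ _ rfl, one_smul]
  · rw [oval_one, tval_tfrac, ← Localization.mk_one_eq_algebraMap, Localization.mk_mul, ← Localization.mk_one,
      Localization.mk_eq_mk_iff, Localization.r_iff_exists]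
    exact ⟨1, by simp⟩

end Hom

end Groth.Agent.FormalB.TwistExt
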