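import Groth.Agent.FormalB.PrincLin2

/-!
# Cohomology of O_X-modules as a functor to `A`-modules (`X` over `Spec A`), sealed for speed

`Coh.HH` unfolds to a very large term, which makes the kernel slow. This file packages it as a functor
`HM A X n : X.Modules ⥤ ModuleCat A` with connecting maps `dm`, so that later files never unfold it.
-/

set_option autoImplicit false
universe u

open CategoryTheory CategoryTheory.Limits AlgebraicGeometry Opposite

namespace Groth.Agent.FormalB.HMod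

open Groth.Agent.CohqB.HSeqMod Groth.Agent.FormalB.ModPow Groth.Agent.FormalB.PrincLin
  Groth.Agent.FormalB.PrincLin2

variable (A : Type u) [CommRing A] (X : Scheme.{u}) [X.Over (Spec (CommRingCat.of A))]

/-- `H^n(X, -)` as a functor from O_X-modules to `A`-modules. -/
noncomputable def HM (n : ℕ) : X.Modules ⥤ ModuleCat.{u} A where
  obj M := ModuleCat.of A (Coh.HH X M n)
  map φ := ModuleCat.ofHom (hmapL A φ n)
  map_id M := by
    ext x
    exact hmap_id_apply n x
  map_comp φ ψ := by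
    ext x
    exact hmap_comp_apply φ ψ n x

/-- The carrier of `HM` is `Coh.HH`. -/
noncomputable def hmEquiv (M : X.Modules) (n : ℕ) : (HM A X n).obj M ≃ₗ[A] Coh.HH X M n :=
  LinearEquiv.refl A _

theorem hmEquiv_map {M N : X.Modules} (φ : M ⟶ N) (n : ℕ) (x : (HM A X n).obj M) :
    hmEquiv A X N n ((HM A X n).map φ x) = hmap φ n (hmEquiv A X M n x) := rfl

theorem hmEquiv_symm_map {M N : X.Modules} (φ : M ⟶ N) (n : ℕ) (x : Coh.HH X M n) :
    (HM A X n).map φ ((hmEquiv A X M n).symm x) = (hmEquiv A X N n).symm (hmap φ n x) := rfl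

instance additive_HM (n : ℕ) : (HM A X n).Additive where
  map_add {M N φ ψ} := by
    ext x
    exact hmap_add_apply φ ψ n x

theorem map_smulMod (M : X.Modules) (a : A) (n : ℕ) (x : (HM A X n).obj M) :
    (HM A X n).map (Formal.smulMod A M a) x = a • x := rfl

variable {X} {M N P : X.Modules} (φ : M ⟶ N) (ψ : N ⟶ P) (w : φ ≫ ψ = 0)
  (hS : (ShortComplex.mk φ ψ w).ShortExact)

/-- The connecting map. -/
noncomputable def dm (n : ℕ) : (HM A X n).obj P ⟶ (HM A X (n + 1)).obj M :=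
  ModuleCat.ofHom (δ3 A φ ψ w hS n)

theorem exact_P (n : ℕ) (x : (HM A X n).obj P)
    (hx : dm A φ ψ w hS n x = 0) : ∃ y : (HM A X n).obj N, (HM A X n).map ψ y = x :=
  PrincLin2.exact_P A φ ψ w hS n x hx

theorem exact_M (n : ℕ) (x : (HM A X (n + 1)).obj M)
    (hx : (HM A X (n + 1)).map φ x = 0) : ∃ y : (HM A X n).obj P, dm A φ ψ w hS n y = x :=
  PrincLin2.exact_M A φ ψ w hS n x hx

include w hS in
theorem exact_N (n : ℕ) (x : (HM A X n).obj N)
    (hx : (HM A X n).map ψ x = 0) : ∃ y : (HM A X n).obj M, (HM A X n).map φ y = x :=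
  PrincLin2.exact_N A φ ψ w hS n x hx

theorem dm_map (n : ℕ) (x : (HM A X n).obj N) :
    dm A φ ψ w hS n ((HM A X n).map ψ x) = 0 :=
  PrincLin2.δ3_hmapL A φ ψ w hS n x

theorem map_dm (n : ℕ) (x : (HM A X n).obj P) :
    (HM A X (n + 1)).map φ (dm A φ ψ w hS n x) = 0 :=
  PrincLin2.hmapL_δ3 A φ ψ w hS n x

theorem map_zero_injective [Mono φ] : Function.Injective ((HM A X 0).map φ) :=
  PrincLin2.hmapL_zero_injective A φ

theorem dm_naturality {M' N' P' : X.Modules} (φ' : M' ⟶ N') (ψ' : N' ⟶ P') (w' : φ' ≫ ψ' = 0)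
    (hS : (ShortComplex.mk φ ψ w).ShortExact) (hS' : (ShortComplex.mk φ' ψ' w').ShortExact)
    (a : M ⟶ M') (b : N ⟶ N') (c : P ⟶ P') (h1 : a ≫ φ' = φ ≫ b) (h2 : b ≫ ψ' = ψ ≫ c)
    (n : ℕ) :
    dm A φ ψ w hS n ≫ (HM A X (n + 1)).map a = (HM A X n).map c ≫ dm A φ' ψ' w' hS' n := by
  ext x
  exact (PrincLin2.δ3_naturality A φ ψ w φ' ψ' w' hS hS' a b c h1 h2 n x).symm

end Groth.Agent.FormalB.HMod
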