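import Groth.Agent.FormalB.ModPow
import Groth.Agent.CohqB.HSeqMod

/-!
# `A`-linear structure on the long exact sequence of cohomology of O_X-modules, `X` over `Spec A`
-/

set_option autoImplicit false
universe u

open CategoryTheory CategoryTheory.Limits AlgebraicGeometry Opposite

namespace Groth.Agent.FormalB.PrincLin

open Groth.Agent.CohqB.HSeqMod Groth.Agent.FormalB.ModPow

section Linear

variable (A : Type u) [CommRing A] {X : Scheme.{u}} [X.Over (Spec (CommRingCat.of A))]

theorem hmap_smulMod (M : X.Modules) (a : A) (n : ℕ) (x : Coh.HH X M n) :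
    hmap (Formal.smulMod A M a) n x = a • x := rfl

/-- The `A`-linear map on cohomology induced by a map of O_X-modules. -/
noncomputable def hmapL {M N : X.Modules} (φ : M ⟶ N) (n : ℕ) : Coh.HH X M n →ₗ[A] Coh.HH X N n :=
  { hmap φ n with
    map_smul' := fun a x => by
      change hmap φ n (a • x) = a • hmap φ n x
      rw [← hmap_smulMod, ← hmap_comp_apply, smulMod_naturality, hmap_comp_apply, hmap_smulMod] }

@[simp]
theorem hmapL_apply {M N : X.Modules} (φ : M ⟶ N) (n : ℕ) (x : Coh.HH X M n) :
    hmapL A φ n x = hmap φ n x := rfl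

variable {S : ShortComplex X.Modules}

/-- Multiplication by `a` as an endomorphism of a short complex. -/
noncomputable def smulSC (S : ShortComplex X.Modules) (a : A) : S ⟶ S where
  τ₁ := Formal.smulMod A S.X₁ a
  τ₂ := Formal.smulMod A S.X₂ a
  τ₃ := Formal.smulMod A S.X₃ a
  comm₁₂ := smulMod_naturality _ _
  comm₂₃ := smulMod_naturality _ _

/-- The `A`-linear connecting map. -/
noncomputable def δL (hS : S.ShortExact) (n : ℕ) : Coh.HH X S.X₃ n →ₗ[A] Coh.HH X S.X₁ (n + 1) :=
  { δ hS n with
    map_smul' := fun a x => by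
      change δ hS n (a • x) = a • δ hS n x
      exact δ_naturality hS hS (smulSC A S a) n x }

@[simp]
theorem δL_apply (hS : S.ShortExact) (n : ℕ) (x : Coh.HH X S.X₃ n) :
    δL A hS n x = δ hS n x := rfl

end Linear

end Groth.Agent.FormalB.PrincLin
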