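import Groth.Agent.Ega1.QcqsPush
import Groth.Agent.CohqB.AffIso

/-!
# Modules on an open `V` of `Spec R`: the adjunction between `M ↦ M~|_V` and sections over `V`
-/

set_option autoImplicit false
universe u

open CategoryTheory CategoryTheory.Limits AlgebraicGeometry Opposite TopologicalSpace

namespace Groth.Agent.FormalB.TildeOpen

theorem eq_zero_of_pow_smul {R : Type*} [CommRing R] (k : R) {L L' : Type*} [AddCommGroup L]
    [AddCommGroup L'] [Module R L] [Module R L'] (l : L →ₗ[R] L')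
    [IsLocalizedModule (Submonoid.powers k) l] (n : ℕ) (x : L') (hx : k ^ n • x = 0) : x = 0 := by
  have := (IsLocalizedModule.map_units l (⟨k ^ n, n, rfl⟩ : Submonoid.powers k))
  apply ((Module.End.isUnit_iff _).1 this).1
  rw [map_zero]
  exact hx

/-- Localized maps at one element are bijective when kernel and cokernel are torsion for that element. -/
theorem bijective_of_torsion {R : Type*} [CommRing R] {M N M' N' : Type*} [AddCommGroup M] [AddCommGroup N]
    [AddCommGroup M'] [AddCommGroup N'] [Module R M] [Module R N] [Module R M'] [Module R N'] (k : R)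
    (i : M →ₗ[R] M') (j : N →ₗ[R] N') [IsLocalizedModule (Submonoid.powers k) i]
    [IsLocalizedModule (Submonoid.powers k) j] (φ : M →ₗ[R] N) (φ' : M' →ₗ[R] N')
    (h : ∀ x, φ' (i x) = j (φ x)) (hker : ∀ x, φ x = 0 → ∃ n : ℕ, k ^ n • x = 0)
    (hcoker : ∀ y, ∃ (n : ℕ) (x : M), φ x = k ^ n • y) : Function.Bijective φ' := by
  constructor
  · rw [injective_iff_map_eq_zero]
    intro x hx
    obtain ⟨⟨m, ⟨_, n, rfl⟩⟩, hm⟩ := IsLocalizedModule.surj (Submonoid.powers k) i x
    have hm' : k ^ n • x = i m := hm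
    have h1 : j (φ m) = 0 := by rw [← h, ← hm', map_smul, hx, smul_zero]
    obtain ⟨⟨_, a, rfl⟩, ha⟩ := (IsLocalizedModule.eq_zero_iff (Submonoid.powers k) j).1 h1
    have ha' : k ^ a • φ m = 0 := ha
    rw [← map_smul] at ha'
    obtain ⟨b, hb⟩ := hker _ ha'
    have h2 : k ^ (b + a) • i m = 0 := by
      rw [pow_add, mul_smul, ← map_smul, ← map_smul, hb, map_zero]
    have h3 : i m = 0 := eq_zero_of_pow_smul k i _ _ h2
    rw [h3] at hm'
    exact eq_zero_of_pow_smul k i _ _ hm'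
  · intro y
    obtain ⟨⟨m, ⟨_, n, rfl⟩⟩, hm⟩ := IsLocalizedModule.surj (Submonoid.powers k) j y
    have hm' : k ^ n • y = j m := hm
    obtain ⟨a, x, hx⟩ := hcoker m
    obtain ⟨z, hz⟩ : ∃ z : M', k ^ (a + n) • z = i x := by
      have := (IsLocalizedModule.map_units i (⟨k ^ (a + n), a + n, rfl⟩ : Submonoid.powers k))
      obtain ⟨z, hz⟩ := ((Module.End.isUnit_iff _).1 this).2 (i x)
      exact ⟨z, hz⟩
    refine ⟨z, ?_⟩
    have h1 : k ^ (a + n) • (φ' z - y) = 0 := by
      rw [smul_sub, ← map_smul, hz, h, hx, map_smul, ← hm', smul_smul, ← pow_add, sub_self]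
    exact sub_eq_zero.1 (eq_zero_of_pow_smul k j _ _ h1)

variable {R : CommRingCat.{u}} (V : (Spec R).Opens)

/-- `M ↦ M~|_V`. -/
noncomputable def tV : ModuleCat.{u} R ⥤ (V : Scheme.{u}).Modules :=
  tilde.functor R ⋙ Scheme.Modules.restrictFunctor V.ι

/-- Sections over `V` as an `R`-module. -/
noncomputable def sV : (V : Scheme.{u}).Modules ⥤ ModuleCat.{u} R :=
  Scheme.Modules.pushforward V.ι ⋙ moduleSpecΓFunctor

/-- The adjunction. -/
noncomputable def adjV : tV V ⊣ sV V :=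
  tilde.adjunction.comp (Scheme.Modules.restrictAdjunction V.ι)

theorem isQCoh_tV (M : ModuleCat.{u} R) : Coh.IsQCoh ((tV V).obj M) :=
  (inferInstance : Coh.IsQCoh ((tilde M).restrict V.ι))

theorem isIso_counit (hV : IsCompact (V : Set (Spec R))) (G : (V : Scheme.{u}).Modules)
    (hG : Coh.IsQCoh G) : IsIso ((adjV V).counit.app G) := by
  have : CompactSpace V := isCompact_iff_compactSpace.mp hV
  have : QuasiCompact V.ι := inferInstance
  have hq : Coh.IsQCoh ((Scheme.Modules.pushforward V.ι).obj G) :=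
    Groth.Agent.Ega1.QcqsPush.isQCoh_pushforward V.ι G hG
  have h1 : IsIso (Scheme.Modules.fromTildeΓ ((Scheme.Modules.pushforward V.ι).obj G)) :=
    Scheme.Modules.isIso_fromTildeΓ_of_isQuasicoherent _
  have h2 : (adjV V).counit.app G = (Scheme.Modules.restrictFunctor V.ι).map
      (Scheme.Modules.fromTildeΓ ((Scheme.Modules.pushforward V.ι).obj G)) ≫
      (Scheme.Modules.restrictAdjunction V.ι).counit.app G := by
    simp [adjV, Adjunction.comp]
    rfl
  rw [h2]
  let e1 := (Scheme.Modules.restrictFunctor V.ι).mapIso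
      (@asIso _ _ _ _ (Scheme.Modules.fromTildeΓ ((Scheme.Modules.pushforward V.ι).obj G)) h1)
  let e2 := asIso ((Scheme.Modules.restrictAdjunction V.ι).counit.app G)
  exact (e1 ≪≫ e2).isIso_hom

theorem bijective_tilde_map_app {M N : ModuleCat.{u} R} (φ : M ⟶ N) (k : R)
    (hker : ∀ x, φ x = 0 → ∃ n : ℕ, k ^ n • x = 0)
    (hcoker : ∀ y, ∃ (n : ℕ) (x : M), φ x = k ^ n • y) :
    Function.Bijective ((tilde.map φ).app (PrimeSpectrum.basicOpen k)) := by
  refine bijective_of_torsion k (tilde.toOpen M (PrimeSpectrum.basicOpen k)).hom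
    (tilde.toOpen N (PrimeSpectrum.basicOpen k)).hom φ.hom
    ((modulesSpecToSheaf.map (tilde.map φ)).1.app (op (PrimeSpectrum.basicOpen k))).hom ?_ hker hcoker
  intro x
  exact congr($(tilde.toOpen_map_app φ (PrimeSpectrum.basicOpen k)).hom x)

/-- `M~|_V → N~|_V` is an isomorphism when the kernel and cokernel of `M → N` are torsion for an ideal
without zeros on `V`. -/
theorem isIso_tV_map {M N : ModuleCat.{u} R} (φ : M ⟶ N) (𝔞 : Ideal R)
    (hV : ∀ x ∈ V, ¬ 𝔞 ≤ x.asIdeal)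
    (hker : ∀ x, φ x = 0 → ∀ k ∈ 𝔞, ∃ n : ℕ, k ^ n • x = 0)
    (hcoker : ∀ y, ∀ k ∈ 𝔞, ∃ (n : ℕ) (x : M), φ x = k ^ n • y) :
    IsIso ((tV V).map φ) := by
  have := isQCoh_tV V M
  have := isQCoh_tV V N
  refine CohqB.AffIso.isIso_of_affine_cover _ (fun x => ?_)
  obtain ⟨h, h𝔞, hx⟩ := SetLike.not_le_iff_exists.1 (hV x.1 x.2)
  obtain ⟨_, ⟨_, ⟨g, rfl⟩, rfl⟩, hxg, hgV⟩ :=
    PrimeSpectrum.isBasis_basic_opens.exists_subset_of_mem_open (show x.1 ∈ (V : Set (Spec R)) from x.2) V.2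
  have hle : PrimeSpectrum.basicOpen (g * h) ≤ V := by
    rw [PrimeSpectrum.basicOpen_mul]
    exact inf_le_left.trans hgV
  have himg : V.ι ''ᵁ (V.ι ⁻¹ᵁ (PrimeSpectrum.basicOpen (g * h))) = PrimeSpectrum.basicOpen (g * h) := by
    rw [Scheme.Hom.image_preimage_eq_opensRange_inf, Scheme.Opens.opensRange_ι]
    exact inf_eq_right.2 hle
  refine ⟨V.ι ⁻¹ᵁ (PrimeSpectrum.basicOpen (g * h)), ?_, ?_, ?_⟩
  · change x.1 ∈ PrimeSpectrum.basicOpen (g * h)
    rw [PrimeSpectrum.basicOpen_mul]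
    exact ⟨hxg, hx⟩
  · refine IsAffineOpen.preimage_of_isOpenImmersion ?_ V.ι ?_
    · exact IsAffineOpen.Spec_basicOpen _
    · rw [Scheme.Opens.opensRange_ι]
      exact hle
  · change Function.Bijective ((tilde.map φ).app (V.ι ''ᵁ (V.ι ⁻¹ᵁ (PrimeSpectrum.basicOpen (g * h)))))
    rw [himg]
    exact bijective_tilde_map_app φ (g * h)
      (fun x hx => hker x hx _ (Ideal.mul_mem_left _ _ h𝔞))
      (fun y => hcoker y _ (Ideal.mul_mem_left _ _ h𝔞))

end Groth.Agent.FormalB.TildeOpen
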