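import Mathlib.RingTheory.Filtration
import Mathlib.RingTheory.Noetherian.Basic

/-!
# Artin–Rees for finitely many multiplication operators
-/

set_option autoImplicit false
universe u v

namespace Groth.Agent.FormalB.ArtinReesAlg

variable {B : Type u} [CommRing B] [IsNoetherianRing B] {M : Type v} [AddCommGroup M] [Module B M]
  [Module.Finite B M]

omit [IsNoetherianRing B] [Module.Finite B M] in
/-- Elements of `J • ⊤` in `ι → M`. -/
theorem mem_smul_pi {ι : Type*} [Finite ι] (J : Ideal B) (v : ι → M)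
    (hv : ∀ i, v i ∈ J • (⊤ : Submodule B M)) : v ∈ J • (⊤ : Submodule B (ι → M)) := by
  classical
  cases nonempty_fintype ι
  have h : v = ∑ i, LinearMap.single B (fun _ : ι => M) i (v i) := by
    ext j
    simp [Finset.sum_apply, Pi.single_apply]
  rw [h]
  refine Submodule.sum_mem _ fun i _ => ?_
  have h2 : Submodule.map (LinearMap.single B (fun _ : ι => M) i) (J • (⊤ : Submodule B M)) ≤
      J • (⊤ : Submodule B (ι → M)) := by
    rw [Submodule.map_smul'']
    exact Submodule.smul_mono le_rfl le_top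
  exact h2 ⟨v i, hv i, rfl⟩

omit [Module.Finite B M] in
/-- Artin–Rees for a linear map `μ : M → P`: for `n ≥ k`, if `μ q ∈ J^n P` then `q` is congruent to an element
of the kernel modulo `J^(n-k) M`. -/
theorem exists_sub_mem {P : Type*} [AddCommGroup P] [Module B P] [Module.Finite B P] (J : Ideal B)
    (μ : M →ₗ[B] P) : ∃ k : ℕ, ∀ n, k ≤ n → ∀ q : M, μ q ∈ J ^ n • (⊤ : Submodule B P) →
      ∃ q' ∈ J ^ (n - k) • (⊤ : Submodule B M), μ (q - q') = 0 := by
  obtain ⟨k, hk⟩ := Ideal.exists_pow_inf_eq_pow_smul J (LinearMap.range μ)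
  refine ⟨k, fun n hn q hq => ?_⟩
  have h1 : μ q ∈ J ^ n • (⊤ : Submodule B P) ⊓ LinearMap.range μ := ⟨hq, ⟨q, rfl⟩⟩
  rw [hk n hn] at h1
  have h2 : J ^ (n - k) • (J ^ k • (⊤ : Submodule B P) ⊓ LinearMap.range μ) ≤
      Submodule.map μ (J ^ (n - k) • (⊤ : Submodule B M)) := by
    rw [Submodule.map_smul'', Submodule.map_top]
    exact Submodule.smul_mono le_rfl inf_le_right
  obtain ⟨q', hq', h3⟩ := h2 h1
  exact ⟨q', hq', by rw [map_sub, h3, sub_self]⟩

/-- A submodule killed by a power of `J` meets `J^n M` trivially for large `n`. -/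
theorem exists_inf_eq_bot (J : Ideal B) (T : Submodule B M) (c : ℕ)
    (hT : J ^ c • T = ⊥) : ∃ k : ℕ, ∀ n, k ≤ n → J ^ n • (⊤ : Submodule B M) ⊓ T = ⊥ := by
  obtain ⟨k, hk⟩ := Ideal.exists_pow_inf_eq_pow_smul J T
  refine ⟨k + c, fun n hn => ?_⟩
  rw [hk n (by omega), eq_bot_iff]
  refine le_trans (Submodule.smul_mono le_rfl inf_le_right) ?_
  rw [← hT]
  exact Submodule.smul_mono (Ideal.pow_le_pow_right (by omega)) le_rfl

/-- Artin–Rees for finitely many scalars `a i`: for `n ≥ k`, if `a i q ∈ J^n M` for all `i` then `q` is congruent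
modulo `J^(n-k) M` to an element killed by all `a i`. -/
theorem exists_sub_mem_of_smul {ι : Type*} [Finite ι] (J : Ideal B) (a : ι → B) :
    ∃ k : ℕ, ∀ n, k ≤ n → ∀ q : M, (∀ i, a i • q ∈ J ^ n • (⊤ : Submodule B M)) →
      ∃ q' ∈ J ^ (n - k) • (⊤ : Submodule B M), ∀ i, a i • (q - q') = 0 := by
  obtain ⟨k, hk⟩ := exists_sub_mem J (LinearMap.pi fun i => a i • (LinearMap.id : M →ₗ[B] M))
  refine ⟨k, fun n hn q hq => ?_⟩
  obtain ⟨q', hq', h⟩ := hk n hn q (mem_smul_pi (J ^ n) _ hq)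
  exact ⟨q', hq', fun i => congrFun h i⟩

/-- Elements killed by generators `a i` of `J^c` meet `J^n M` trivially for large `n`. -/
theorem exists_eq_zero_of_smul {ι : Type*} (J : Ideal B) (a : ι → B) (c : ℕ)
    (ha : J ^ c ≤ Ideal.span (Set.range a)) :
    ∃ k : ℕ, ∀ n, k ≤ n → ∀ q : M, (∀ i, a i • q = 0) → q ∈ J ^ n • (⊤ : Submodule B M) → q = 0 := by
  let T : Submodule B M := ⨅ i, LinearMap.ker (a i • (LinearMap.id : M →ₗ[B] M))
  have hT : J ^ c • T = ⊥ := by
    rw [eq_bot_iff]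
    refine le_trans (Submodule.smul_mono ha le_rfl) ?_
    rw [Submodule.smul_le]
    intro r hr n hn
    rw [Submodule.mem_bot]
    have hn' : ∀ i, a i • n = 0 := fun i => (Submodule.mem_iInf _).1 hn i
    induction hr using Submodule.span_induction with
    | mem x hx => obtain ⟨i, rfl⟩ := hx; exact hn' i
    | zero => rw [zero_smul]
    | add x y _ _ hx hy => rw [add_smul, hx, hy, add_zero]
    | smul b x _ hx => rw [smul_assoc, hx, smul_zero]
  obtain ⟨k, hk⟩ := exists_inf_eq_bot J T c hT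
  refine ⟨k, fun n hn q hq hq' => ?_⟩
  have : q ∈ J ^ n • (⊤ : Submodule B M) ⊓ T := ⟨hq', (Submodule.mem_iInf _).2 hq⟩
  rwa [hk n hn, Submodule.mem_bot] at this

end Groth.Agent.FormalB.ArtinReesAlg
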