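import Groth.Agent.FormalB.ModPowAff2
import Groth.Agent.FormalB.ArtinReesAlg
import Groth.Agent.CohqB.QC5
import Groth.Agent.CohqB.FiniteType2

/-!
# Artin–Rees type statements for coherent modules on a Noetherian scheme over `Spec A`
-/

set_option autoImplicit false
universe u

open CategoryTheory CategoryTheory.Limits AlgebraicGeometry Opposite TopologicalSpace

namespace Groth.Agent.FormalB.ArtinReesMod

open CohqB.QC2 CohqB.QC3 CohqB.QC4 CohqB.QC5 ModPowAff ModPowAff2 ModPow ArtinReesAlg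

variable {X : Scheme.{u}}

/-- A Noetherian scheme has a finite affine open cover by spectra of Noetherian rings. -/
theorem exists_finite_affine_cover (X : Scheme.{u}) [IsNoetherian X] :
    ∃ (n : ℕ) (V : Fin n → X.Opens), (∀ i, IsAffineOpen (V i)) ∧ (∀ x : X, ∃ i, x ∈ V i) ∧
      ∀ i, IsNoetherianRing Γ(X, V i) := by
  have hc : CompactSpace X := inferInstance
  let 𝒰 := X.affineCover.finiteSubcover
  obtain ⟨n, ⟨e⟩⟩ := Finite.exists_equiv_fin 𝒰.I₀
  refine ⟨n, fun i => (𝒰.f (e.symm i)).opensRange, fun i => ?_, fun x => ?_, fun i => ?_⟩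
  · have : IsAffine (𝒰.X (e.symm i)) := by
      dsimp [𝒰]; infer_instance
    exact isAffineOpen_opensRange _
  · refine ⟨e (𝒰.idx x), ?_⟩
    change x ∈ (𝒰.f (e.symm (e (𝒰.idx x)))).opensRange
    rw [Equiv.symm_apply_apply]
    exact 𝒰.covers x
  · have : IsAffine (𝒰.X (e.symm i)) := by
      dsimp [𝒰]; infer_instance
    exact IsLocallyNoetherian.component_noetherian ⟨_, isAffineOpen_opensRange (𝒰.f (e.symm i))⟩

section Over

variable {A : Type u} [CommRing A] [X.Over (Spec (CommRingCat.of A))]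

/-- On a Noetherian scheme an ideal `J` of the base ring becomes generated by finitely many elements of `J`,
over finitely many given affine opens. -/
theorem exists_finite_generators (J : Ideal A) {n : ℕ} (V : Fin n → X.Opens)
    (hV : ∀ i, IsNoetherianRing Γ(X, V i)) :
    ∃ l : Finset A, (∀ a ∈ l, a ∈ J) ∧
      ∀ i, J.map (toΓ A X (V i)) ≤ Ideal.span (Set.range fun a : l => toΓ A X (V i) a) := by
  classical
  have key : ∀ i, ∃ l : Finset A, (∀ a ∈ l, a ∈ J) ∧
      J.map (toΓ A X (V i)) = Ideal.span ((toΓ A X (V i)) '' (l : Set A)) := by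
    intro i
    have hfg : (Ideal.span ((toΓ A X (V i)) '' (J : Set A))).FG := (hV i).noetherian _
    obtain ⟨s, hs, hs'⟩ := (Submodule.fg_span_iff_fg_span_finset_subset _).1 hfg
    have hs2 : ∀ x ∈ s, ∃ a : A, a ∈ J ∧ toΓ A X (V i) a = x := fun x hx => hs hx
    choose! g hg hg' using hs2
    refine ⟨s.image g, ?_, ?_⟩
    · intro a ha
      obtain ⟨b, hb, rfl⟩ := Finset.mem_image.1 ha
      exact hg b hb
    · rw [Ideal.map]
      refine hs'.trans ?_
      congr 1
      ext x
      simp only [Finset.coe_image, Set.mem_image, Finset.mem_coe]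
      constructor
      · intro hx; exact ⟨g x, ⟨x, hx, rfl⟩, hg' x hx⟩
      · rintro ⟨_, ⟨y, hy, rfl⟩, rfl⟩; rw [hg' y hy]; exact hy
  choose l hl hl' using key
  refine ⟨Finset.univ.biUnion l, ?_, fun i => ?_⟩
  · intro a ha
    obtain ⟨i, -, hi⟩ := Finset.mem_biUnion.1 ha
    exact hl i a hi
  · rw [hl' i]
    refine Ideal.span_mono ?_
    rintro _ ⟨a, ha, rfl⟩
    exact ⟨⟨a, Finset.mem_biUnion.2 ⟨i, Finset.mem_univ _, ha⟩⟩, rfl⟩

/-- The submodule of sections killed by finitely many scalars. -/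
theorem exists_annihilated (M : X.Modules) (hM : Coh.IsQCoh M) (l : List A) :
    ∃ (T : X.Modules) (ι : T ⟶ M), Coh.IsQCoh T ∧ Mono ι ∧
      (∀ a ∈ l, ι ≫ Formal.smulMod A M a = 0) ∧
      ∀ (U : X.Opens) (s : Γ(M, U)), (∀ a ∈ l, toΓ A X U a • s = 0) → ∃ t : Γ(T, U), ι.app U t = s := by
  induction l with
  | nil => exact ⟨M, 𝟙 M, hM, inferInstance, by simp, fun U s _ => ⟨s, rfl⟩⟩
  | cons a l ih =>
    obtain ⟨T, ι, hT, hι, h1, h2⟩ := ih
    refine ⟨kernel (ι ≫ Formal.smulMod A M a), kernel.ι _ ≫ ι,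
      isQuasicoherent_kernel _ hT hM, mono_comp _ _, ?_, ?_⟩
    · intro b hb
      rcases List.mem_cons.1 hb with rfl | hb
      · rw [Category.assoc, kernel.condition]
      · rw [Category.assoc, h1 b hb, comp_zero]
    · intro U s hs
      obtain ⟨t, rfl⟩ := h2 U s (fun b hb => hs b (List.mem_cons_of_mem _ hb))
      have h3 : (ι ≫ Formal.smulMod A M a).app U t = 0 := hs a List.mem_cons_self
      obtain ⟨t', rfl⟩ := exists_of_exact (S := ShortComplex.mk (kernel.ι (ι ≫ Formal.smulMod A M a))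
        (ι ≫ Formal.smulMod A M a) (kernel.condition _)) (ShortComplex.exact_kernel _) U t h3
      exact ⟨t', rfl⟩

/-- The finite sections of a coherent module over an affine open. -/
theorem finite_sections {M : X.Modules} (hM : Coh.IsCoh M) {V : X.Opens} (hV : IsAffineOpen V) :
    Module.Finite Γ(X, V) Γ(M, V) :=
  haveI : Coh.IsQCoh M := hM.1
  CohqB.FiniteType2.finite_sections_of_isFT M hM.2 hV

variable [IsNoetherian X]

/-- If a quasi-coherent `T` has a mono to a coherent `G`, and is killed by a power of `I`, then `T ⟶ G/I^n G` is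
mono for large `n`. -/
theorem exists_mono (I : Ideal A) {T G : X.Modules} (hT : Coh.IsQCoh T) (hG : Coh.IsCoh G)
    (ι : T ⟶ G) [Mono ι] (c : ℕ) (hc : Formal.KilledBy (I ^ c) T) :
    ∃ n0 : ℕ, ∀ n, n0 ≤ n → ∀ {N : X.Modules} (p : G ⟶ N), IsModPow (I ^ n) p → Mono (ι ≫ p) := by
  obtain ⟨m, V, hV, hcov, hN⟩ := exists_finite_affine_cover X
  have key : ∀ i, ∃ k : ℕ, ∀ n, k ≤ n → ∀ t : Γ(T, V i),
      ι.app (V i) t ∈ (I.map (toΓ A X (V i))) ^ n • (⊤ : Submodule Γ(X, V i) Γ(G, V i)) → t = 0 := by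
    intro i
    have := hN i
    have := finite_sections hG (hV i)
    obtain ⟨k, hk⟩ := exists_eq_zero_of_smul (M := Γ(G, V i)) (I.map (toΓ A X (V i)))
      (fun a : (I ^ c : Ideal A) => toΓ A X (V i) a) c (by
        rw [← Ideal.map_pow, Ideal.map]
        refine Ideal.span_mono ?_
        rintro _ ⟨a, ha, rfl⟩
        exact ⟨⟨a, ha⟩, rfl⟩)
    refine ⟨k, fun n hn t ht => ?_⟩
    refine app_injective_of_mono ι (V i) ?_
    rw [map_zero]
    refine hk n hn _ (fun a => ?_) ht
    rw [← Scheme.Modules.Hom.app_smul]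
    have h1 : toΓ A X (V i) a • t = 0 := by
      have := hc a a.2
      have h2 : (Formal.smulMod A T (a : A)).app (V i) t = (0 : T ⟶ T).app (V i) t := by rw [this]
      exact h2
    rw [h1, map_zero]
  choose k hk using key
  obtain ⟨K, hK⟩ := (Set.finite_range k).bddAbove
  refine ⟨K, fun n hn N p hp => ?_⟩
  have hQ := IsModPow.isQCoh hG.1 hp
  have hker : Coh.IsQCoh (kernel (ι ≫ p)) := isQuasicoherent_kernel _ hT hQ
  refine Preadditive.mono_of_isZero_kernel _ (isZero_of_affine_cover hker fun x => ?_)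
  obtain ⟨i, hi⟩ := hcov x
  refine ⟨V i, hi, hV i, fun s => ?_⟩
  refine app_injective_of_mono (kernel.ι (ι ≫ p)) (V i) ?_
  rw [map_zero]
  refine hk i n ((hK ⟨i, rfl⟩).trans hn) _ ?_
  rw [← IsModPow.pow_app_eq_zero_iff hG.1 hp (hV i)]
  have h3 : (kernel.ι (ι ≫ p) ≫ ι ≫ p).app (V i) s = 0 := by
    rw [kernel.condition]; rfl
  exact h3

/-- A compatible family of maps `g n : F ⟶ G/I^(n+1)G` with `F` killed by a power of `I`, `G` coherent, comes
from a unique map `F ⟶ G`. -/
theorem exists_lift_of_killed (I : Ideal A) {F G : X.Modules} (hF : Coh.IsQCoh F) (hG : Coh.IsCoh G)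
    (c : ℕ) (hc : Formal.KilledBy (I ^ c) F) (g : ∀ n : ℕ, F ⟶ (Formal.completion I G).obj (op n))
    (hg : ∀ n, g (n + 1) ≫ (Formal.completion I G).map (homOfLE (Nat.le_succ n)).op = g n) :
    ∃! φ : F ⟶ G, ∀ n, φ ≫ cπ I G n = g n := by
  obtain ⟨m, V, hV, hcov, hN⟩ := exists_finite_affine_cover X
  obtain ⟨l, hl, hl'⟩ := exists_finite_generators (X := X) (I ^ c) V hN
  obtain ⟨T, ι, hT, hι, hT1, hT2⟩ := exists_annihilated G hG.1 l.toList
  have hgm : ∀ {a b : ℕ} (h : a ≤ b), g b ≫ (Formal.completion I G).map (homOfLE h).op = g a :=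
    fun h => compat_of_succ g hg h
  -- elements killed by `l` are killed by `I^c`
  have hTk : ∀ (a : A), a ∈ l → ∀ (i : Fin m) (t : Γ(T, V i)), toΓ A X (V i) a • t = 0 := by
    intro a ha i t
    refine app_injective_of_mono ι (V i) ?_
    rw [map_zero, Scheme.Modules.Hom.app_smul]
    have h2 : (ι ≫ Formal.smulMod A G a).app (V i) t = 0 := by
      rw [hT1 a (Finset.mem_toList.2 ha)]; rfl
    exact h2
  have hTc : Formal.KilledBy (I ^ c) T := by
    intro a ha
    refine eq_zero_of_affine_cover hT _ fun x => ?_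
    obtain ⟨i, hi⟩ := hcov x
    refine ⟨V i, hi, hV i, fun t => ?_⟩
    change toΓ A X (V i) a • t = 0
    have h1 : toΓ A X (V i) a ∈ Ideal.span (Set.range fun a : l => toΓ A X (V i) a) :=
      hl' i (Ideal.mem_map_of_mem _ ha)
    generalize toΓ A X (V i) a = b at h1 ⊢
    induction h1 using Submodule.span_induction with
    | mem x hx => obtain ⟨b, rfl⟩ := hx; exact hTk b b.2 i t
    | zero => rw [zero_smul]
    | add x y _ _ hx hy => rw [add_smul, hx, hy, add_zero]
    | smul b x _ hx => rw [smul_assoc, hx, smul_zero]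
  obtain ⟨n0, hn0⟩ := exists_mono I hT hG ι c hTc
  -- Claim B
  have keyB : ∀ i, ∃ k : ℕ, ∀ n, ∀ s : Γ(F, V i), k ≤ n + k + 1 → ∃ t : Γ(T, V i),
      (g n).app (V i) s = (ι ≫ cπ I G n).app (V i) t := by
    intro i
    have := hN i
    have := finite_sections hG (hV i)
    obtain ⟨k, hk⟩ := exists_sub_mem_of_smul (M := Γ(G, V i)) (I.map (toΓ A X (V i)))
      (fun a : l => toΓ A X (V i) a)
    refine ⟨k, fun n s hn => ?_⟩
    obtain ⟨q, hq⟩ := IsModPow.app_surjective hG.1 (isModPow_cπ I G (n + k)) (hV i) ((g (n + k)).app (V i) s)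
    obtain ⟨q', hq', h0⟩ := hk (n + k + 1) hn q (fun a => by
      rw [← IsModPow.pow_app_eq_zero_iff hG.1 (isModPow_cπ I G (n + k)) (hV i),
        Scheme.Modules.Hom.app_smul, hq, ← Scheme.Modules.Hom.app_smul]
      have h1 : toΓ A X (V i) (a : A) • s = 0 := by
        have := hc a (hl a a.2)
        have h2 : (Formal.smulMod A F (a : A)).app (V i) s = (0 : F ⟶ F).app (V i) s := by rw [this]
        exact h2
      rw [h1, map_zero])
    obtain ⟨t, ht⟩ := hT2 (V i) (q - q') (fun a ha => h0 ⟨a, Finset.mem_toList.1 ha⟩)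
    refine ⟨t, ?_⟩
    have h3 : (cπ I G n).app (V i) q' = 0 := by
      rw [IsModPow.pow_app_eq_zero_iff hG.1 (isModPow_cπ I G n) (hV i)]
      refine Submodule.smul_mono (Ideal.pow_le_pow_right ?_) le_rfl hq'
      omega
    have h4 : (g n).app (V i) s = ((Formal.completion I G).map (homOfLE (Nat.le_add_right n k)).op).app (V i)
        ((g (n + k)).app (V i) s) := by
      conv_lhs => rw [← hgm (Nat.le_add_right n k)]
      rfl
    have h5 : (cπ I G n).app (V i) q = ((Formal.completion I G).map (homOfLE (Nat.le_add_right n k)).op).app (V i)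
        ((cπ I G (n + k)).app (V i) q) := by
      conv_lhs => rw [← cπ_map I G (Nat.le_add_right n k)]
      rfl
    rw [h4, ← hq, ← h5]
    change _ = (cπ I G n).app (V i) (ι.app (V i) t)
    rw [ht, map_sub, h3, sub_zero]
  -- the lifts
  have keyC : ∀ n, n0 ≤ n → ∃ χ : F ⟶ T, χ ≫ ι ≫ cπ I G n = g n := by
    intro n hn
    have hmono : Mono (ι ≫ cπ I G n) := hn0 (n + 1) (by omega) (cπ I G n) (isModPow_cπ I G n)
    have h0 : g n ≫ cokernel.π (ι ≫ cπ I G n) = 0 := by
      refine eq_zero_of_affine_cover hF _ fun x => ?_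
      obtain ⟨i, hi⟩ := hcov x
      refine ⟨V i, hi, hV i, fun s => ?_⟩
      obtain ⟨k, hk⟩ := keyB i
      obtain ⟨t, ht⟩ := hk n s (by omega)
      change (cokernel.π (ι ≫ cπ I G n)).app (V i) ((g n).app (V i) s) = 0
      rw [ht]
      have h1 : ((ι ≫ cπ I G n) ≫ cokernel.π (ι ≫ cπ I G n)).app (V i) t = 0 := by
        rw [cokernel.condition]; rfl
      exact h1
    exact ⟨Abelian.monoLift _ (g n) h0, Abelian.monoLift_comp _ _ h0⟩
  obtain ⟨χ, hχ⟩ := keyC n0 le_rfl
  refine ⟨χ ≫ ι, fun n => ?_, fun φ' hφ' => ?_⟩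
  · rcases le_total n n0 with h | h
    · rw [← hgm h, ← hχ]
      simp only [Category.assoc]
      rw [cπ_map]
    · obtain ⟨χ', hχ'⟩ := keyC n h
      have h1 : χ' = χ := by
        have hmono : Mono (ι ≫ cπ I G n0) := hn0 (n0 + 1) (by omega) (cπ I G n0) (isModPow_cπ I G n0)
        rw [← cancel_mono (ι ≫ cπ I G n0), hχ, ← hgm h, ← hχ']
        simp only [Category.assoc]
        rw [cπ_map]
      rw [← hχ', h1, Category.assoc]
  · -- uniqueness: the difference `δ : F ⟶ G` lands in `T` and vanishes modulo `I^n`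
    have h0 : (φ' - χ ≫ ι) ≫ cokernel.π ι = 0 := by
      refine eq_zero_of_affine_cover hF _ fun x => ?_
      obtain ⟨i, hi⟩ := hcov x
      refine ⟨V i, hi, hV i, fun s => ?_⟩
      obtain ⟨t, ht⟩ := hT2 (V i) ((φ' - χ ≫ ι).app (V i) s) (fun a ha => by
        rw [← Scheme.Modules.Hom.app_smul]
        have h1 : toΓ A X (V i) (a : A) • s = 0 := by
          have := hc a (hl a (Finset.mem_toList.1 ha))
          have h2 : (Formal.smulMod A F (a : A)).app (V i) s = (0 : F ⟶ F).app (V i) s := by rw [this]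
          exact h2
        rw [h1, map_zero])
      change (cokernel.π ι).app (V i) ((φ' - χ ≫ ι).app (V i) s) = 0
      rw [← ht]
      have h1 : (ι ≫ cokernel.π ι).app (V i) t = 0 := by
        rw [cokernel.condition]; rfl
      exact h1
    have h1 : Abelian.monoLift ι _ h0 ≫ ι = φ' - χ ≫ ι := Abelian.monoLift_comp _ _ h0
    have hmono : Mono (ι ≫ cπ I G n0) := hn0 (n0 + 1) (by omega) (cπ I G n0) (isModPow_cπ I G n0)
    have h2 : Abelian.monoLift ι _ h0 = 0 := by
      rw [← cancel_mono (ι ≫ cπ I G n0), ← Category.assoc, h1, zero_comp, Preadditive.sub_comp,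
        hφ', Category.assoc, hχ, sub_self]
    rw [h2, zero_comp] at h1
    exact (sub_eq_zero.1 h1.symm)

end Over

end Groth.Agent.FormalB.ArtinReesMod
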