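import Mathlib.CategoryTheory.Abelian.Injective.Resolution
import Mathlib.CategoryTheory.Abelian.CommSq
import Mathlib.Algebra.Homology.HomologySequenceLemmas
import Mathlib.Algebra.Homology.HomologicalComplexAbelian
import Mathlib.Algebra.Homology.HomologicalComplexLimits

/-!
# Resolutions, comparison maps, quasi-isomorphisms and pull-back squares of complexes

* `Aug A K` : `0 ⟶ A ⟶ K⁰ ⟶ K¹ ⟶ ⋯` is exact (`K : CochainComplex C ℕ`).
* `Aug.exists_desc` : lifting along an augmented exact complex into an injective resolution.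
* `quasiIso_of_aug` : a map between augmented exact complexes over an isomorphism is a quasi-iso.
* `quasiIso_τ₁` : five lemma for short exact sequences of complexes.
* `quasiIso_of_isPullback` : Mayer-Vietoris form.
-/

set_option autoImplicit false
universe v u v' u'

open CategoryTheory CategoryTheory.Limits ComposableArrows

namespace Groth.Agent.FormalB.BCAbs

variable {C : Type u} [Category.{v} C] [Abelian C] {D : Type u'} [Category.{v'} D] [Abelian D]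

/-- `0 ⟶ A ⟶ K⁰ ⟶ K¹ ⟶ ⋯` is exact. -/
structure Aug (A : C) (K : CochainComplex C ℕ) where
  /-- the augmentation -/
  a : A ⟶ K.X 0
  w : a ≫ K.d 0 1 = 0
  mono : Mono a
  exact₀ : (ShortComplex.mk a (K.d 0 1) w).Exact
  exact_succ : ∀ n, (ShortComplex.mk (K.d n (n + 1)) (K.d (n + 1) (n + 2))
    (K.d_comp_d n (n + 1) (n + 2))).Exact

namespace Aug

/-- an injective resolution is an augmented exact complex. -/
noncomputable def ofInj {A : C} (I : InjectiveResolution A) : Aug A I.cocomplex where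
  a := I.ι.f 0
  w := I.ι_f_zero_comp_complex_d
  mono := mono_of_isLimit_fork I.isLimitKernelFork
  exact₀ := I.exact₀
  exact_succ := I.exact_succ

/-- image under a functor which preserves homology. -/
noncomputable def map {A : C} {K : CochainComplex C ℕ} (e : Aug A K) (F : C ⥤ D) [F.Additive]
    [F.PreservesHomology] : Aug (F.obj A) ((F.mapHomologicalComplex _).obj K) where
  a := F.map e.a
  w := by
    have := congrArg F.map e.w
    rw [F.map_comp, F.map_zero] at this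
    exact this
  mono := by
    have := e.mono
    exact inferInstanceAs (Mono (F.map e.a))
  exact₀ := e.exact₀.map F
  exact_succ n := (e.exact_succ n).map F

variable {A : C} {K : CochainComplex C ℕ} (e : Aug A K)

/-- the map from the single complex. -/
noncomputable def ι : (CochainComplex.single₀ C).obj A ⟶ K :=
  (CochainComplex.fromSingle₀Equiv _ _).symm ⟨e.a, e.w⟩

theorem ι_f_zero : e.ι.f 0 = e.a := by
  have h := (CochainComplex.fromSingle₀Equiv K A).apply_symm_apply ⟨e.a, e.w⟩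
  exact congrArg Subtype.val h

include e in
theorem exactAt_succ (n : ℕ) : K.ExactAt (n + 1) := by
  rw [HomologicalComplex.exactAt_iff' _ n (n + 1) (n + 1 + 1) (by simp) (by simp)]
  exact e.exact_succ n

set_option backward.isDefEq.respectTransparency false in
theorem quasiIso_ι : QuasiIso e.ι := ⟨fun n => by
    cases n
    · rw [CochainComplex.quasiIsoAt₀_iff, ShortComplex.quasiIso_iff_of_zeros]
      · refine (ShortComplex.exact_and_mono_f_iff_of_iso ?_).2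
          ⟨e.exact₀, by dsimp; exact e.mono⟩
        exact ShortComplex.isoMk (Iso.refl _) (Iso.refl _) (Iso.refl _) (by simp [ι])
          (by simp)
      · rfl
      · rfl
      · exact K.shape _ _ (by simp)
    · rw [quasiIsoAt_iff_exactAt]
      · apply e.exactAt_succ
      · apply CochainComplex.exactAt_succ_single_obj⟩

end Aug

/-- a map between augmented exact complexes over an isomorphism is a quasi-isomorphism. -/
theorem quasiIso_of_aug {A A' : C} {K K' : CochainComplex C ℕ} (e : Aug A K) (e' : Aug A' K')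
    (φ : K ⟶ K') (α : A ⟶ A') [IsIso α] (h : e.a ≫ φ.f 0 = α ≫ e'.a) : QuasiIso φ := by
  have h1 := e.quasiIso_ι
  have h2 := e'.quasiIso_ι
  have h3 : e.ι ≫ φ = (CochainComplex.single₀ C).map α ≫ e'.ι := by
    apply (CochainComplex.fromSingle₀Equiv K' A).injective
    apply Subtype.ext
    have h4 : (e.ι ≫ φ).f 0 = α ≫ e'.a := by
      rw [HomologicalComplex.comp_f, Aug.ι_f_zero]
      exact h
    have h5 : ((CochainComplex.single₀ C).map α ≫ e'.ι).f 0 = α ≫ e'.a := by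
      rw [HomologicalComplex.comp_f, Aug.ι_f_zero, CochainComplex.single₀_map_f_zero]
      rfl
    exact h4.trans h5.symm
  have h6 : QuasiIso (e.ι ≫ φ) := by
    rw [h3]
    infer_instance
  exact (quasiIso_iff_comp_left e.ι φ).1 h6

/-- lifting along an augmented exact complex. -/
theorem Aug.exists_desc {A B : C} {K : CochainComplex C ℕ} (e : Aug A K)
    (I : InjectiveResolution B) (f : A ⟶ B) :
    ∃ φ : K ⟶ I.cocomplex, e.a ≫ φ.f 0 = f ≫ I.ι.f 0 := by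
  have := e.mono
  let f0 : K.X 0 ⟶ I.cocomplex.X 0 := Injective.factorThru (f ≫ I.ι.f 0) e.a
  have h0 : e.a ≫ f0 = f ≫ I.ι.f 0 := Injective.comp_factorThru _ _
  have w1 : e.a ≫ f0 ≫ I.cocomplex.d 0 1 = 0 := by
    rw [← Category.assoc, h0]
    exact (Category.assoc _ _ _).trans
      ((congrArg (fun t => f ≫ t) I.ι_f_zero_comp_complex_d).trans comp_zero)
  let f1 : K.X 1 ⟶ I.cocomplex.X 1 := e.exact₀.descToInjective (f0 ≫ I.cocomplex.d 0 1) w1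
  have h1 : K.d 0 1 ≫ f1 = f0 ≫ I.cocomplex.d 0 1 := e.exact₀.comp_descToInjective _ _
  refine ⟨CochainComplex.mkHom _ _ f0 f1 h1.symm (fun n p =>
    ⟨(e.exact_succ n).descToInjective (p.2.1 ≫ I.cocomplex.d (n + 1) (n + 2)) ?_, ?_⟩), ?_⟩
  · dsimp
    rw [← Category.assoc, ← p.2.2, Category.assoc, I.cocomplex.d_comp_d, comp_zero]
  · exact ((e.exact_succ n).comp_descToInjective _ _).symm
  · exact h0

section FiveLemma

open HomologicalComplex HomologicalComplex.HomologySequence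

variable {ι : Type*} {c : ComplexShape ι}
  {S₁ S₂ : ShortComplex (HomologicalComplex C c)} (φ : S₁ ⟶ S₂)
  (hS₁ : S₁.ShortExact) (hS₂ : S₂.ShortExact)

include hS₁ hS₂

lemma mono_homologyMap_τ₁ (j : ι)
    (h₁ : ∀ i, c.Rel i j → Epi (homologyMap φ.τ₂ i))
    (h₂ : ∀ i, c.Rel i j → Mono (homologyMap φ.τ₃ i))
    (h₃ : Mono (homologyMap φ.τ₂ j)) :
    Mono (homologyMap φ.τ₁ j) := by
  by_cases hj : ∃ i, c.Rel i j
  · obtain ⟨i, hij⟩ := hj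
    apply Abelian.mono_of_epi_of_mono_of_mono
      ((δ₀Functor ⋙ δlastFunctor).map (mapComposableArrows₅ φ hS₁ hS₂ i j hij))
    · exact (composableArrows₅_exact hS₁ i j hij).δ₀.δlast
    · exact (composableArrows₅_exact hS₂ i j hij).δ₀.δlast
    · exact h₁ i hij
    · exact h₂ i hij
    · exact h₃
  · have := hS₁.mono_f
    have := hS₂.mono_f
    have eq : homologyMap φ.τ₁ j ≫ homologyMap S₂.f j = homologyMap S₁.f j ≫ homologyMap φ.τ₂ j := by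
      rw [← homologyMap_comp, ← homologyMap_comp, φ.comm₁₂]
    have := mono_homologyMap_of_mono_of_not_rel S₁.f j (by simpa using hj)
    exact mono_of_mono_fac eq

lemma epi_homologyMap_τ₁ (j : ι)
    (h₁ : ∀ i, c.Rel i j → Epi (homologyMap φ.τ₃ i))
    (h₂ : Epi (homologyMap φ.τ₂ j))
    (h₃ : Mono (homologyMap φ.τ₃ j)) :
    Epi (homologyMap φ.τ₁ j) := by
  by_cases hj : ∃ i, c.Rel i j
  · obtain ⟨i, hij⟩ := hj
    apply Abelian.epi_of_epi_of_epi_of_mono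
      ((δ₀Functor ⋙ δ₀Functor).map (mapComposableArrows₅ φ hS₁ hS₂ i j hij))
    · exact (composableArrows₅_exact hS₁ i j hij).δ₀.δ₀
    · exact (composableArrows₅_exact hS₂ i j hij).δ₀.δ₀
    · exact h₁ i hij
    · exact h₂
    · exact h₃
  · have := hS₁.mono_f
    have := hS₂.mono_f
    have := mono_homologyMap_of_mono_of_not_rel S₂.f j (by simpa using hj)
    exact Abelian.epi_of_mono_of_epi_of_mono (mapComposableArrows₂ φ j)
      (composableArrows₂_exact hS₁ j) (composableArrows₂_exact hS₂ j) this h₂ h₃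

lemma quasiIso_τ₁ (h₂ : QuasiIso φ.τ₂) (h₃ : QuasiIso φ.τ₃) : QuasiIso φ.τ₁ := by
  rw [quasiIso_iff]
  intro j
  rw [quasiIsoAt_iff_isIso_homologyMap]
  have h₂' : ∀ j, IsIso (homologyMap φ.τ₂ j) := fun j => by
    rw [← quasiIsoAt_iff_isIso_homologyMap]; infer_instance
  have h₃' : ∀ j, IsIso (homologyMap φ.τ₃ j) := fun j => by
    rw [← quasiIsoAt_iff_isIso_homologyMap]; infer_instance
  have := mono_homologyMap_τ₁ φ hS₁ hS₂ j (fun _ _ => inferInstance) (fun _ _ => inferInstance)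
    inferInstance
  have := epi_homologyMap_τ₁ φ hS₁ hS₂ j (fun _ _ => inferInstance) inferInstance inferInstance
  exact isIso_of_mono_of_epi _

end FiveLemma


section Generic

variable {E : Type*} [Category* E] [Abelian E] {X₁ X₂ X₃ X₄ Y₁ Y₂ Y₃ Y₄ : E}
    {t : X₁ ⟶ X₂} {l : X₁ ⟶ X₃} {r : X₂ ⟶ X₄} {b : X₃ ⟶ X₄}
    {t' : Y₁ ⟶ Y₂} {l' : Y₁ ⟶ Y₃} {r' : Y₂ ⟶ Y₄} {b' : Y₃ ⟶ Y₄}

/-- the short exact sequence of a pull-back square with one leg epi. -/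
theorem shortExact_sq (h : IsPullback t l r b) (hr : Epi r) : h.shortComplex'.ShortExact :=
  { exact := h.exact_shortComplex'
    mono_f := h.mono_shortComplex'_f
    epi_g := by
      have h1 : biprod.inl ≫ biprod.desc r (-b) = r := by simp
      have h2 : Epi (biprod.desc r (-b)) := epi_of_epi_fac h1
      exact h2 }

/-- functoriality of the short complex of a pull-back square. -/
noncomputable def mapSq (h : IsPullback t l r b) (h' : IsPullback t' l' r' b')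
    (φ₁ : X₁ ⟶ Y₁) (φ₂ : X₂ ⟶ Y₂) (φ₃ : X₃ ⟶ Y₃) (φ₄ : X₄ ⟶ Y₄)
    (ht : t ≫ φ₂ = φ₁ ≫ t') (hl : l ≫ φ₃ = φ₁ ≫ l') (hr : r ≫ φ₄ = φ₂ ≫ r')
    (hb : b ≫ φ₄ = φ₃ ≫ b') : h.shortComplex' ⟶ h'.shortComplex' where
  τ₁ := φ₁
  τ₂ := biprod.map φ₂ φ₃
  τ₃ := φ₄
  comm₁₂ := by
    change φ₁ ≫ biprod.lift t' l' = biprod.lift t l ≫ biprod.map φ₂ φ₃
    apply biprod.hom_ext
    · simp [ht]
    · simp [hl]
  comm₂₃ := by
    change biprod.map φ₂ φ₃ ≫ biprod.desc r' (-b') = biprod.desc r (-b) ≫ φ₄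
    apply biprod.hom_ext'
    · simp [hr]
    · simp [hb]

end Generic

section Square

variable {ι : Type*} {c : ComplexShape ι}

/-- additive functors send the sum of two maps which become invertible to an invertible map. -/
theorem isIso_map_biprod_map (F : C ⥤ D) [F.Additive] {A A' B B' : C} (f : A ⟶ A') (g : B ⟶ B')
    [hf : IsIso (F.map f)] [hg : IsIso (F.map g)] : IsIso (F.map (biprod.map f g)) := by
  refine ⟨F.map biprod.fst ≫ inv (F.map f) ≫ F.map biprod.inl +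
    F.map biprod.snd ≫ inv (F.map g) ≫ F.map biprod.inr, ?_, ?_⟩
  · have h1 : F.map (biprod.map f g) ≫ F.map biprod.fst = F.map biprod.fst ≫ F.map f := by
      rw [← F.map_comp, ← F.map_comp, biprod.map_fst]
    have h2 : F.map (biprod.map f g) ≫ F.map biprod.snd = F.map biprod.snd ≫ F.map g := by
      rw [← F.map_comp, ← F.map_comp, biprod.map_snd]
    rw [Preadditive.comp_add, reassoc_of% h1, reassoc_of% h2,
      IsIso.hom_inv_id_assoc, IsIso.hom_inv_id_assoc, ← F.map_comp, ← F.map_comp, ← F.map_add,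
      biprod.total, F.map_id]
  · rw [Preadditive.add_comp, Category.assoc, Category.assoc, Category.assoc, Category.assoc,
      ← F.map_comp, ← F.map_comp, biprod.inl_map, biprod.inr_map, F.map_comp, F.map_comp,
      IsIso.inv_hom_id_assoc, IsIso.inv_hom_id_assoc, ← F.map_comp, ← F.map_comp, ← F.map_add,
      biprod.total, F.map_id]

theorem quasiIso_biprod_map {K K' L L' : HomologicalComplex C c} (f : K ⟶ K') (g : L ⟶ L')
    [QuasiIso f] [QuasiIso g] : QuasiIso (biprod.map f g) := by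
  rw [quasiIso_iff]
  intro j
  rw [quasiIsoAt_iff_isIso_homologyMap]
  have h1 : IsIso ((HomologicalComplex.homologyFunctor C c j).map f) :=
    inferInstanceAs (IsIso (HomologicalComplex.homologyMap f j))
  have h2 : IsIso ((HomologicalComplex.homologyFunctor C c j).map g) :=
    inferInstanceAs (IsIso (HomologicalComplex.homologyMap g j))
  exact isIso_map_biprod_map (HomologicalComplex.homologyFunctor C c j) f g

/-- Mayer-Vietoris form of the five lemma. -/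
theorem quasiIso_of_isPullback {X₁ X₂ X₃ X₄ Y₁ Y₂ Y₃ Y₄ : HomologicalComplex C c}
    {t : X₁ ⟶ X₂} {l : X₁ ⟶ X₃} {r : X₂ ⟶ X₄} {b : X₃ ⟶ X₄}
    {t' : Y₁ ⟶ Y₂} {l' : Y₁ ⟶ Y₃} {r' : Y₂ ⟶ Y₄} {b' : Y₃ ⟶ Y₄}
    (h : IsPullback t l r b) (h' : IsPullback t' l' r' b') (hr₀ : Epi r) (hr₀' : Epi r')
    (φ₁ : X₁ ⟶ Y₁) (φ₂ : X₂ ⟶ Y₂) (φ₃ : X₃ ⟶ Y₃) (φ₄ : X₄ ⟶ Y₄)
    (ht : t ≫ φ₂ = φ₁ ≫ t') (hl : l ≫ φ₃ = φ₁ ≫ l') (hr : r ≫ φ₄ = φ₂ ≫ r')
    (hb : b ≫ φ₄ = φ₃ ≫ b') [QuasiIso φ₂] [QuasiIso φ₃] [QuasiIso φ₄] : QuasiIso φ₁ :=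
  quasiIso_τ₁ (mapSq h h' φ₁ φ₂ φ₃ φ₄ ht hl hr hb) (shortExact_sq h hr₀) (shortExact_sq h' hr₀')
    (quasiIso_biprod_map φ₂ φ₃) ‹QuasiIso φ₄›

/-- degreewise pull-back squares of complexes are pull-back squares. -/
theorem isPullback_of_eval {X₁ X₂ X₃ X₄ : HomologicalComplex C c}
    {t : X₁ ⟶ X₂} {l : X₁ ⟶ X₃} {r : X₂ ⟶ X₄} {b : X₃ ⟶ X₄}
    (h : ∀ i, IsPullback (t.f i) (l.f i) (r.f i) (b.f i)) : IsPullback t l r b := by
  have w : t ≫ r = l ≫ b := by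
    ext i
    exact (h i).w
  refine ⟨⟨w⟩, ⟨HomologicalComplex.isLimitOfEval _ _ fun i => ?_⟩⟩
  refine (isLimitMapConePullbackConeEquiv (HomologicalComplex.eval C c i) w).symm ?_
  exact (h i).isLimit

end Square

section Functors

universe v₁ u₁ v₂ u₂ v₃ u₃

variable {𝒳 : Type u₁} [Category.{v₁} 𝒳] [Abelian 𝒳] {𝒳' : Type u₂} [Category.{v₂} 𝒳'] [Abelian 𝒳']
  {𝒜 : Type u₃} [Category.{v₃} 𝒜] [Abelian 𝒜] {P : 𝒳 ⥤ 𝒳'} [P.Additive]
  {ι : Type*} {c : ComplexShape ι}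
  {J : HomologicalComplex 𝒳 c} {K : HomologicalComplex 𝒳' c}

omit [Abelian 𝒳] [Abelian 𝒳'] [Abelian 𝒜] [P.Additive] in
theorem theta_aux {Φ : 𝒳 ⥤ 𝒜} {Ψ : 𝒳' ⥤ 𝒜} (ϕ : Φ ⟶ P ⋙ Ψ) {A B : 𝒳} {A' B' : 𝒳'}
    (d : A ⟶ B) (d' : A' ⟶ B') (k : P.obj A ⟶ A') (k' : P.obj B ⟶ B')
    (h : k ≫ d' = P.map d ≫ k') :
    (ϕ.app A ≫ Ψ.map k) ≫ Ψ.map d' = Φ.map d ≫ ϕ.app B ≫ Ψ.map k' := by
  have h2 : Φ.map d ≫ ϕ.app B = ϕ.app A ≫ Ψ.map (P.map d) := ϕ.naturality d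
  have h3 : Ψ.map k ≫ Ψ.map d' = Ψ.map (P.map d) ≫ Ψ.map k' := by
    rw [← Ψ.map_comp, h, Ψ.map_comp]
  exact (Category.assoc _ _ _).trans ((congrArg (fun t => ϕ.app A ≫ t) h3).trans
    ((Category.assoc _ _ _).symm.trans ((congrArg (· ≫ Ψ.map k') h2.symm).trans
      (Category.assoc _ _ _))))

/-- the map of complexes attached to `ϕ : Φ ⟶ P ⋙ Ψ` and `κ : P J ⟶ K`. -/
noncomputable def theta {Φ : 𝒳 ⥤ 𝒜} {Ψ : 𝒳' ⥤ 𝒜} [Φ.Additive] [Ψ.Additive] (ϕ : Φ ⟶ P ⋙ Ψ)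
    (κ : (P.mapHomologicalComplex c).obj J ⟶ K) :
    (Φ.mapHomologicalComplex c).obj J ⟶ (Ψ.mapHomologicalComplex c).obj K where
  f n := ϕ.app (J.X n) ≫ Ψ.map (κ.f n)
  comm' i j _ := by
    exact theta_aux ϕ (J.d i j) (K.d i j) (κ.f i) (κ.f j) (κ.comm i j)

theorem theta_f {Φ : 𝒳 ⥤ 𝒜} {Ψ : 𝒳' ⥤ 𝒜} [Φ.Additive] [Ψ.Additive] (ϕ : Φ ⟶ P ⋙ Ψ)
    (κ : (P.mapHomologicalComplex c).obj J ⟶ K) (n : ι) :
    (theta ϕ κ).f n = ϕ.app (J.X n) ≫ Ψ.map (κ.f n) := rfl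

variable (κ : (P.mapHomologicalComplex c).obj J ⟶ K)

/-- `theta` is natural in the natural transformation. -/
theorem theta_comm {Φ₁ Φ₂ : 𝒳 ⥤ 𝒜} {Ψ₁ Ψ₂ : 𝒳' ⥤ 𝒜} [Φ₁.Additive] [Φ₂.Additive]
    [Ψ₁.Additive] [Ψ₂.Additive] (ϕ₁ : Φ₁ ⟶ P ⋙ Ψ₁) (ϕ₂ : Φ₂ ⟶ P ⋙ Ψ₂)
    (t : Φ₁ ⟶ Φ₂) (t' : Ψ₁ ⟶ Ψ₂)
    (h : ∀ M, t.app M ≫ ϕ₂.app M = ϕ₁.app M ≫ t'.app (P.obj M)) :
    (NatTrans.mapHomologicalComplex t c).app J ≫ theta ϕ₂ κ =
      theta ϕ₁ κ ≫ (NatTrans.mapHomologicalComplex t' c).app K := by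
  ext n
  change t.app (J.X n) ≫ ϕ₂.app (J.X n) ≫ Ψ₂.map (κ.f n) =
    (ϕ₁.app (J.X n) ≫ Ψ₁.map (κ.f n)) ≫ t'.app (K.X n)
  rw [Category.assoc, t'.naturality, reassoc_of% (h (J.X n))]

/-- Mayer-Vietoris. -/
theorem quasiIso_theta_of_isPullback {Φ₁ Φ₂ Φ₃ Φ₄ : 𝒳 ⥤ 𝒜} {Ψ₁ Ψ₂ Ψ₃ Ψ₄ : 𝒳' ⥤ 𝒜}
    [Φ₁.Additive] [Φ₂.Additive] [Φ₃.Additive] [Φ₄.Additive]
    [Ψ₁.Additive] [Ψ₂.Additive] [Ψ₃.Additive] [Ψ₄.Additive]
    (ϕ₁ : Φ₁ ⟶ P ⋙ Ψ₁) (ϕ₂ : Φ₂ ⟶ P ⋙ Ψ₂) (ϕ₃ : Φ₃ ⟶ P ⋙ Ψ₃) (ϕ₄ : Φ₄ ⟶ P ⋙ Ψ₄)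
    (t : Φ₁ ⟶ Φ₂) (l : Φ₁ ⟶ Φ₃) (r : Φ₂ ⟶ Φ₄) (b : Φ₃ ⟶ Φ₄)
    (t' : Ψ₁ ⟶ Ψ₂) (l' : Ψ₁ ⟶ Ψ₃) (r' : Ψ₂ ⟶ Ψ₄) (b' : Ψ₃ ⟶ Ψ₄)
    (ht : ∀ M, t.app M ≫ ϕ₂.app M = ϕ₁.app M ≫ t'.app (P.obj M))
    (hl : ∀ M, l.app M ≫ ϕ₃.app M = ϕ₁.app M ≫ l'.app (P.obj M))
    (hr : ∀ M, r.app M ≫ ϕ₄.app M = ϕ₂.app M ≫ r'.app (P.obj M))
    (hb : ∀ M, b.app M ≫ ϕ₄.app M = ϕ₃.app M ≫ b'.app (P.obj M))
    (h : ∀ n, IsPullback (t.app (J.X n)) (l.app (J.X n)) (r.app (J.X n)) (b.app (J.X n)))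
    (he : ∀ n, Epi (r.app (J.X n)))
    (h' : ∀ n, IsPullback (t'.app (K.X n)) (l'.app (K.X n)) (r'.app (K.X n)) (b'.app (K.X n)))
    (he' : ∀ n, Epi (r'.app (K.X n)))
    (h₂ : QuasiIso (theta ϕ₂ κ)) (h₃ : QuasiIso (theta ϕ₃ κ)) (h₄ : QuasiIso (theta ϕ₄ κ)) :
    QuasiIso (theta ϕ₁ κ) := by
  refine quasiIso_of_isPullback
    (t := (NatTrans.mapHomologicalComplex t c).app J) (l := (NatTrans.mapHomologicalComplex l c).app J)
    (r := (NatTrans.mapHomologicalComplex r c).app J) (b := (NatTrans.mapHomologicalComplex b c).app J)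
    (t' := (NatTrans.mapHomologicalComplex t' c).app K)
    (l' := (NatTrans.mapHomologicalComplex l' c).app K)
    (r' := (NatTrans.mapHomologicalComplex r' c).app K)
    (b' := (NatTrans.mapHomologicalComplex b' c).app K)
    (isPullback_of_eval fun n => h n) (isPullback_of_eval fun n => h' n) ?_ ?_
    (theta ϕ₁ κ) (theta ϕ₂ κ) (theta ϕ₃ κ) (theta ϕ₄ κ)
    (theta_comm κ _ _ _ _ ht) (theta_comm κ _ _ _ _ hl) (theta_comm κ _ _ _ _ hr)
    (theta_comm κ _ _ _ _ hb)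
  · exact HomologicalComplex.epi_of_epi_f _ he
  · exact HomologicalComplex.epi_of_epi_f _ he'

/-- comparison along isomorphisms. -/
theorem quasiIso_theta_of_isIso {Φ₁ Φ₂ : 𝒳 ⥤ 𝒜} {Ψ₁ Ψ₂ : 𝒳' ⥤ 𝒜} [Φ₁.Additive] [Φ₂.Additive]
    [Ψ₁.Additive] [Ψ₂.Additive] (ϕ₁ : Φ₁ ⟶ P ⋙ Ψ₁) (ϕ₂ : Φ₂ ⟶ P ⋙ Ψ₂)
    (t : Φ₁ ⟶ Φ₂) (t' : Ψ₁ ⟶ Ψ₂)
    (h : ∀ M, t.app M ≫ ϕ₂.app M = ϕ₁.app M ≫ t'.app (P.obj M))
    (ht : ∀ n, IsIso (t.app (J.X n))) (ht' : ∀ n, IsIso (t'.app (K.X n)))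
    (h₂ : QuasiIso (theta ϕ₂ κ)) : QuasiIso (theta ϕ₁ κ) := by
  have h1 : IsIso ((NatTrans.mapHomologicalComplex t c).app J) :=
    @HomologicalComplex.Hom.isIso_of_components _ _ _ _ _ _ _ _ ht
  have h2 : IsIso ((NatTrans.mapHomologicalComplex t' c).app K) :=
    @HomologicalComplex.Hom.isIso_of_components _ _ _ _ _ _ _ _ ht'
  have h3 : QuasiIso (theta ϕ₁ κ ≫ (NatTrans.mapHomologicalComplex t' c).app K) := by
    rw [← theta_comm κ ϕ₁ ϕ₂ t t' h]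
    infer_instance
  exact (quasiIso_iff_comp_right (theta ϕ₁ κ) ((NatTrans.mapHomologicalComplex t' c).app K)).1 h3

end Functors

section Base

universe v₁ u₁ v₂ u₂ v₃ u₃

variable {𝒳 : Type u₁} [Category.{v₁} 𝒳] [Abelian 𝒳] {𝒳' : Type u₂} [Category.{v₂} 𝒳'] [Abelian 𝒳']
  {𝒜 : Type u₃} [Category.{v₃} 𝒜] [Abelian 𝒜] {P : 𝒳 ⥤ 𝒳'} [P.Additive]
  {J : CochainComplex 𝒳 ℕ} {K : CochainComplex 𝒳' ℕ}

/-- the case where both sides are resolutions. -/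
theorem quasiIso_theta_of_aug {Φ : 𝒳 ⥤ 𝒜} {Ψ : 𝒳' ⥤ 𝒜} [Φ.Additive] [Ψ.Additive] (ϕ : Φ ⟶ P ⋙ Ψ)
    (κ : (P.mapHomologicalComplex _).obj J ⟶ K) {A : 𝒳} (a : A ⟶ J.X 0) (a' : P.obj A ⟶ K.X 0)
    (hκ : P.map a ≫ κ.f 0 = a') (e : Aug (Φ.obj A) ((Φ.mapHomologicalComplex _).obj J))
    (he : e.a = Φ.map a) (e' : Aug (Ψ.obj (P.obj A)) ((Ψ.mapHomologicalComplex _).obj K))
    (he' : e'.a = Ψ.map a') [IsIso (ϕ.app A)] : QuasiIso (theta ϕ κ) := by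
  refine quasiIso_of_aug e e' (theta ϕ κ) (ϕ.app A) ?_
  rw [he, he', ← hκ, theta_f, Ψ.map_comp]
  exact (Category.assoc _ _ _).symm.trans ((congrArg (· ≫ _) (ϕ.naturality a)).trans
    (Category.assoc _ _ _))

end Base

end Groth.Agent.FormalB.BCAbs
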