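import Groth.Agent.FormalB.BCSec

/-!
# Stalks of `h_* (K_W)` for an injective resolution `K`
-/

set_option autoImplicit false
set_option linter.style.haveILetI false
universe u

open CategoryTheory CategoryTheory.Limits AlgebraicGeometry Opposite TopologicalSpace MonoidalCategory
open Groth.Agent.Dcoh.Stalk

namespace Groth.Agent.FormalB.BC

variable {X Y : Scheme.{u}}

theorem exact_stalk_of_sections {A B C : Y.Modules} (φ : A ⟶ B) (ψ : B ⟶ C) (w : φ ≫ ψ = 0)
    (y : Y) (H : ∀ O : Y.Opens, y ∈ O → ∃ O' ≤ O, y ∈ O' ∧ ∀ b : Γ(B, O'), ψ.app O' b = 0 →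
      ∃ a, φ.app O' a = b) :
    Function.Exact ((stalkF y).map φ) ((stalkF y).map ψ) := by
  intro z
  constructor
  · intro hz
    obtain ⟨O, hO, s, rfl⟩ := TopCat.Presheaf.exists_germ_eq B.presheaf z
    have hz' := (map_germ ψ O y hO s).symm.trans hz
    obtain ⟨V, hV, hyV, h0⟩ := exists_rs_eq_zero C hO _ hz'
    obtain ⟨O', hO', hy', h1⟩ := H V hyV
    have h2 : ψ.app O' (rs B (hO'.trans hV) s) = 0 := by
      rw [app_rs, ← rs_rs C hV hO', h0, map_zero]
    obtain ⟨a, ha⟩ := h1 _ h2
    refine ⟨A.presheaf.germ O' y hy' a, ?_⟩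
    refine (map_germ φ O' y hy' a).trans ?_
    rw [ha]
    exact germ_rs B (hO'.trans hV) y hy' s
  · rintro ⟨a, rfl⟩
    have h1 : (stalkF y).map φ ≫ (stalkF y).map ψ = 0 := by
      rw [← (stalkF y).map_comp, w, Functor.map_zero]
    exact congr($h1 a)

theorem injective_stalk_of_sections {A B : Y.Modules} (φ : A ⟶ B)
    (y : Y) (H : ∀ O : Y.Opens, y ∈ O → ∃ O' ≤ O, y ∈ O' ∧ Function.Injective (φ.app O')) :
    Function.Injective ((stalkF y).map φ) := by
  rw [injective_iff_map_eq_zero]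
  intro z hz
  obtain ⟨O, hO, s, rfl⟩ := TopCat.Presheaf.exists_germ_eq A.presheaf z
  have hz' := (map_germ φ O y hO s).symm.trans hz
  obtain ⟨V, hV, hyV, h0⟩ := exists_rs_eq_zero B hO _ hz'
  obtain ⟨O', hO', hy', h1⟩ := H V hyV
  have h2 : φ.app O' (rs A (hO'.trans hV) s) = 0 := by
    rw [app_rs, ← rs_rs B hV hO', h0, map_zero]
  have h3 : rs A (hO'.trans hV) s = 0 := h1 (h2.trans (map_zero _).symm)
  exact (germ_rs A (hO'.trans hV) y hy' s).symm.trans
    ((congrArg (A.presheaf.germ O' y hy') h3).trans (map_zero _))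

/-- cofinality of the opens on which the module is acyclic. -/
def Cof (h : X ⟶ Y) (W : X.Opens) (y : Y) (N : X.Modules) : Prop :=
  ∀ O : Y.Opens, y ∈ O → ∃ O' ≤ O, y ∈ O' ∧ Acy (lo W (h ⁻¹ᵁ O')) N

section

variable (h : X ⟶ Y) (W : X.Opens) (y : Y) {N : X.Modules} (K : InjectiveResolution N)
  (hN : Cof h W y N)

/-- the functor `M ↦ h_* (M_W)`. -/
noncomputable abbrev pl : X.Modules ⥤ Y.Modules := locF W ⋙ Scheme.Modules.pushforward h

include hN in
theorem exact_pl_succ (n : ℕ) : Function.Exact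
    ((stalkF y).map ((pl h W).map (K.cocomplex.d n (n + 1))))
    ((stalkF y).map ((pl h W).map (K.cocomplex.d (n + 1) (n + 2)))) := by
  apply exact_stalk_of_sections
  · rw [← (pl h W).map_comp, K.cocomplex.d_comp_d, Functor.map_zero]
  · intro O hO
    obtain ⟨O', hO', hy', hA⟩ := hN O hO
    exact ⟨O', hO', hy', fun b hb => exists_d_eq K (lo W (h ⁻¹ᵁ O')) hA n b hb⟩

theorem exact_pl_zero : Function.Exact
    ((stalkF y).map ((pl h W).map (K.ι.f 0)))
    ((stalkF y).map ((pl h W).map (K.cocomplex.d 0 1))) := by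
  apply exact_stalk_of_sections
  · have h1 := K.ι_f_zero_comp_complex_d
    refine ((pl h W).map_comp _ _).symm.trans ?_
    exact (congrArg (pl h W).map h1).trans (Functor.map_zero _ _ _)
  · intro O hO
    exact ⟨O, le_rfl, hO, fun b hb => exists_ι_eq K (lo W (h ⁻¹ᵁ O)) b hb⟩

theorem injective_pl_ι : Function.Injective ((stalkF y).map ((pl h W).map (K.ι.f 0))) := by
  apply injective_stalk_of_sections
  intro O hO
  exact ⟨O, le_rfl, hO, injective_ι K (lo W (h ⁻¹ᵁ O))⟩

end

section

variable (g : X ⟶ Y) (G : X.Modules) (hG : FlatMod.IsFlatOver g G)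

include hG in
theorem exact_stalk_T {A B C : Y.Modules} (φ : A ⟶ B) (ψ : B ⟶ C) (x : X)
    (h : Function.Exact ((stalkF (g.base x)).map φ) ((stalkF (g.base x)).map ψ)) :
    Function.Exact ((stalkF x).map ((T g G).map φ)) ((stalkF x).map ((T g G).map ψ)) := by
  letI := FlatMod.moduleStalkOver g G x
  have hflat : Module.Flat (Y.presheaf.stalk (g.base x)) (G.presheaf.stalk x) := hG x
  have h1 : Function.Exact (mapSt g G x φ) (mapSt g G x ψ) :=
    Module.Flat.lTensor_exact (G.presheaf.stalk x) (f := ((stalkF (g.base x)).map φ).hom)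
      (g := ((stalkF (g.base x)).map ψ).hom) h
  intro z
  obtain ⟨t, rfl⟩ := (stalkEquiv g G B x).surjective z
  rw [stalkEquiv_naturality, map_eq_zero_iff _ (stalkEquiv g G C x).injective, h1 t]
  constructor
  · rintro ⟨a, rfl⟩
    exact ⟨stalkEquiv g G A x a, stalkEquiv_naturality g G x φ a⟩
  · rintro ⟨a, ha⟩
    obtain ⟨a, rfl⟩ := (stalkEquiv g G A x).surjective a
    rw [stalkEquiv_naturality] at ha
    exact ⟨a, (stalkEquiv g G B x).injective ha⟩

include hG in
theorem injective_stalk_T {A B : Y.Modules} (φ : A ⟶ B) (x : X)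
    (h : Function.Injective ((stalkF (g.base x)).map φ)) :
    Function.Injective ((stalkF x).map ((T g G).map φ)) := by
  letI := FlatMod.moduleStalkOver g G x
  have hflat : Module.Flat (Y.presheaf.stalk (g.base x)) (G.presheaf.stalk x) := hG x
  have h2 : Function.Injective (mapSt g G x φ) :=
    Module.Flat.lTensor_preserves_injective_linearMap (M := G.presheaf.stalk x)
      ((stalkF (g.base x)).map φ).hom h
  intro a b hab
  obtain ⟨a, rfl⟩ := (stalkEquiv g G A x).surjective a
  obtain ⟨b, rfl⟩ := (stalkEquiv g G A x).surjective b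
  rw [stalkEquiv_naturality, stalkEquiv_naturality] at hab
  rw [h2 ((stalkEquiv g G B x).injective hab)]

end

end Groth.Agent.FormalB.BC
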