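import Groth.Agent.FormalB.BCAlg
import Groth.Agent.FormalB.BCStalkEx
import Groth.Agent.Ega1.TensorRestrict
import Mathlib.AlgebraicGeometry.Morphisms.Flat

/-!
# The affine case of the base change isomorphism on sections
-/

set_option autoImplicit false
set_option linter.style.haveILetI false
universe u

open CategoryTheory CategoryTheory.Limits AlgebraicGeometry Opposite TopologicalSpace MonoidalCategory
open TensorProduct
open Groth.Agent.Dcoh.Stalk Groth.Agent.Ega2.Tens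
open Groth.Agent.VarietyB.PullSec

namespace Groth.Agent.FormalB.BC

variable {X S X' S' : Scheme.{u}} {f : X ⟶ S} {g : S' ⟶ S} {g' : X' ⟶ X} {f' : X' ⟶ S'}
  (H : IsPullback g' f' f g)
  {V : S.Opens} {V' : S'.Opens} {W : X.Opens} (e : V' ≤ g ⁻¹ᵁ V) (hW : W ≤ f ⁻¹ᵁ V)

/-- the open `W ×_V V'`. -/
abbrev Qo (g' : X' ⟶ X) (f' : X' ⟶ S') (W : X.Opens) (V' : S'.Opens) : X'.Opens :=
  g' ⁻¹ᵁ W ⊓ f' ⁻¹ᵁ V'

include H e hW in
theorem isAffineOpen_Qo (hV : IsAffineOpen V) (hV' : IsAffineOpen V') (hWa : IsAffineOpen W) :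
    IsAffineOpen (Qo g' f' W V') := by
  have : IsAffine _ := hV
  have : IsAffine _ := hV'
  have : IsAffine _ := hWa
  exact .of_isIso (Scheme.Hom.isPullback_resLE H e hW (UY := Qo g' f' W V') rfl).isoPullback.hom

include H in
/-- The affine case of the base change isomorphism. -/
theorem exists_theta (hV : IsAffineOpen V) (hV' : IsAffineOpen V') (hWa : IsAffineOpen W)
    (G : S'.Modules) (hG : Coh.IsQCoh G) (F : X.Modules) (hF : Coh.IsQCoh F) :
    letI : Module Γ(S, V) Γ(G, V') := Module.compHom Γ(G, V') (g.appLE V V' e).hom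
    letI : Module Γ(S, V) Γ(F, W) := Module.compHom Γ(F, W) (f.appLE V W hW).hom
    ∃ θ : Γ(G, V') ⊗[Γ(S, V)] Γ(F, W) ≃+ Γ((PF g' f' G).obj F, Qo g' f' W V'),
      ∀ y m, θ (y ⊗ₜ m) = tmul (M := (Scheme.Modules.pullback f').obj G)
        (N := (Scheme.Modules.pullback g').obj F) (U := Qo g' f' W V')
        (sec f' G inf_le_right y) (sec g' F inf_le_left m) := by
  letI a1 : Algebra Γ(S, V) Γ(S', V') := (g.appLE V V' e).hom.toAlgebra
  letI a2 : Algebra Γ(S, V) Γ(X, W) := (f.appLE V W hW).hom.toAlgebra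
  letI a3 : Algebra Γ(S', V') Γ(X', Qo g' f' W V') :=
    (f'.appLE V' (Qo g' f' W V') inf_le_right).hom.toAlgebra
  letI a4 : Algebra Γ(X, W) Γ(X', Qo g' f' W V') :=
    (g'.appLE W (Qo g' f' W V') inf_le_left).hom.toAlgebra
  letI a5 : Algebra Γ(S, V) Γ(X', Qo g' f' W V') :=
    (g.appLE V V' e ≫ f'.appLE V' (Qo g' f' W V') inf_le_right).hom.toAlgebra
  have t1 : IsScalarTower Γ(S, V) Γ(S', V') Γ(X', Qo g' f' W V') :=
    IsScalarTower.of_algebraMap_eq (fun _ => rfl)
  have hcomm : f.appLE V W hW ≫ g'.appLE W (Qo g' f' W V') inf_le_left =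
      g.appLE V V' e ≫ f'.appLE V' (Qo g' f' W V') inf_le_right := by
    rw [Scheme.Hom.appLE_comp_appLE, Scheme.Hom.appLE_comp_appLE]
    simp only [H.w]
  have t2 : IsScalarTower Γ(S, V) Γ(X, W) Γ(X', Qo g' f' W V') :=
    IsScalarTower.of_algebraMap_eq (fun r => congr($hcomm.symm r))
  letI m1 : Module Γ(S, V) Γ(G, V') := Module.compHom Γ(G, V') (g.appLE V V' e).hom
  letI m2 : Module Γ(S, V) Γ(F, W) := Module.compHom Γ(F, W) (f.appLE V W hW).hom
  have t3 : IsScalarTower Γ(S, V) Γ(S', V') Γ(G, V') :=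
    ⟨fun a b c => by rw [Algebra.smul_def, mul_smul]; rfl⟩
  have t4 : IsScalarTower Γ(S, V) Γ(X, W) Γ(F, W) :=
    ⟨fun a b c => by rw [Algebra.smul_def, mul_smul]; rfl⟩
  letI m3 := secModule f' G (U := V') (V := Qo g' f' W V') inf_le_right
  have t5 : IsScalarTower Γ(S', V') Γ(X', Qo g' f' W V')
      Γ((Scheme.Modules.pullback f').obj G, Qo g' f' W V') :=
    ⟨fun a b c => by rw [Algebra.smul_def, mul_smul]; rfl⟩
  letI m4 := secModule g' F (U := W) (V := Qo g' f' W V') inf_le_left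
  have t6 : IsScalarTower Γ(X, W) Γ(X', Qo g' f' W V')
      Γ((Scheme.Modules.pullback g').obj F, Qo g' f' W V') :=
    ⟨fun a b c => by rw [Algebra.smul_def, mul_smul]; rfl⟩
  have hQ := isAffineOpen_Qo H e hW hV hV' hWa
  have b1 : IsBaseChange Γ(X', Qo g' f' W V') (secₗ f' G (U := V') (V := Qo g' f' W V')
      inf_le_right) := isBaseChange_secₗ f' G inf_le_right hG hV' hQ
  have b2 : IsBaseChange Γ(X', Qo g' f' W V') (secₗ g' F (U := W) (V := Qo g' f' W V')
      inf_le_left) := isBaseChange_secₗ g' F inf_le_left hF hWa hQ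
  have hpo := (isIso_pushoutSection_iff H e hW (UY := Qo g' f' W V') rfl).1
    (isIso_pushoutSection_of_isAffineOpen H e hW (UY := Qo g' f' W V') rfl hV hV' hWa)
  have hpo' : Algebra.IsPushout Γ(S, V) Γ(S', V') Γ(X, W) Γ(X', Qo g' f' W V') :=
    CommRingCat.isPushout_iff_isPushout.mp hpo.flip
  obtain ⟨θ, hθ⟩ := BCAlg.exists_equiv (A := Γ(S, V)) (A' := Γ(S', V')) (B := Γ(X, W))
    (B' := Γ(X', Qo g' f' W V')) (secₗ f' G (U := V') (V := Qo g' f' W V') inf_le_right) b1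
    (secₗ g' F (U := W) (V := Qo g' f' W V') inf_le_left) b2
  have h2 := Ega1.TensorRestrict.bijective_toT ((Scheme.Modules.pullback f').obj G)
    ((Scheme.Modules.pullback g').obj F) (isQCoh_pullback f' G hG) (isQCoh_pullback g' F hF) hQ
  refine ⟨θ.trans (AddEquiv.ofBijective (Ega1.TensorRestrict.toT _ _ _) h2), fun y m => ?_⟩
  refine (congrArg (Ega1.TensorRestrict.toT _ _ _) (hθ y m)).trans ?_
  rfl

end Groth.Agent.FormalB.BC
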