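import Groth.Agent.Flat2B.BCTools
import Mathlib.RingTheory.TensorProduct.IsBaseChangePi
import Mathlib.Algebra.Category.Ring.Under.Basic

/-!
# Algebra: tensor products of modules over a push-out of rings

For a push-out square `A → A'`, `A → B`, `A' → B'`, `B → B'` and modules `N` over `A'`, `M` over `B`,
`N ⊗[A] M ≃ (B' ⊗[A'] N) ⊗[B'] (B' ⊗[B] M)`.
-/

set_option autoImplicit false
universe u

open TensorProduct

namespace Groth.Agent.FormalB.BCAlg

variable {A A' B B' : Type u} [CommRing A] [CommRing A'] [CommRing B] [CommRing B']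
  [Algebra A A'] [Algebra A B] [Algebra B B'] [Algebra A' B'] [Algebra A B']
  [IsScalarTower A A' B'] [IsScalarTower A B B'] [Algebra.IsPushout A A' B B']
  {N N₁ M M₁ : Type u} [AddCommGroup N] [Module A' N] [Module A N] [IsScalarTower A A' N]
  [AddCommGroup N₁] [Module B' N₁] [Module A' N₁] [IsScalarTower A' B' N₁]
  [AddCommGroup M] [Module B M] [Module A M] [IsScalarTower A B M]
  [AddCommGroup M₁] [Module B' M₁] [Module B M₁] [IsScalarTower B B' M₁]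

theorem exists_equiv (i : N →ₗ[A'] N₁) (hi : IsBaseChange B' i) (j : M →ₗ[B] M₁)
    (hj : IsBaseChange B' j) :
    ∃ e : N ⊗[A] M ≃+ N₁ ⊗[B'] M₁, ∀ n m, e (n ⊗ₜ m) = i n ⊗ₜ j m := by
  let _ : Module B N₁ := Module.compHom N₁ (algebraMap B B')
  let _ : Module A N₁ := Module.compHom N₁ (algebraMap A B')
  have : IsScalarTower B B' N₁ := ⟨fun x y z => by
    rw [Algebra.smul_def, mul_smul]; rfl⟩
  have : IsScalarTower A B' N₁ := ⟨fun x y z => by
    rw [Algebra.smul_def, mul_smul]; rfl⟩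
  have : IsScalarTower A A' N₁ := ⟨fun x y z => by
    have h1 : x • (y • z) = algebraMap A B' x • (y • z) := rfl
    rw [h1, ← algebraMap_smul B' (x • y) z, ← algebraMap_smul B' y z, smul_smul,
      Algebra.smul_def, map_mul, ← IsScalarTower.algebraMap_apply A A' B']⟩
  have : IsScalarTower A B N₁ := ⟨fun x y z => by
    have h1 : x • (y • z) = algebraMap A B' x • (y • z) := rfl
    rw [h1, ← algebraMap_smul B' (x • y) z, ← algebraMap_smul B' y z, smul_smul,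
      Algebra.smul_def, map_mul, ← IsScalarTower.algebraMap_apply A B B']⟩
  have hi' : IsBaseChange B (i.restrictScalars A) :=
    Flat2B.BCTools.isBaseChange_of_isPushout i hi
  let e1 : N₁ ⊗[B'] M₁ ≃+ N₁ ⊗[B'] (B' ⊗[B] M) :=
    (TensorProduct.congr (LinearEquiv.refl B' N₁) hj.equiv.symm).toAddEquiv
  let e2 : N₁ ⊗[B'] (B' ⊗[B] M) ≃+ N₁ ⊗[B] M :=
    (AlgebraTensorModule.cancelBaseChange B B' B' N₁ M).toAddEquiv
  let e3 : N₁ ⊗[B] M ≃+ M ⊗[B] N₁ := (TensorProduct.comm B N₁ M).toAddEquiv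
  let e4 : M ⊗[B] N₁ ≃+ M ⊗[B] (B ⊗[A] N) :=
    (TensorProduct.congr (LinearEquiv.refl B M) hi'.equiv.symm).toAddEquiv
  let e5 : M ⊗[B] (B ⊗[A] N) ≃+ M ⊗[A] N :=
    (AlgebraTensorModule.cancelBaseChange A B B M N).toAddEquiv
  let e6 : M ⊗[A] N ≃+ N ⊗[A] M := (TensorProduct.comm A M N).toAddEquiv
  let e := (((((e1.trans e2).trans e3).trans e4).trans e5).trans e6)
  refine ⟨e.symm, fun n m => ?_⟩
  rw [AddEquiv.symm_apply_eq]
  have h1 : e1 (i n ⊗ₜ j m) = i n ⊗ₜ (1 ⊗ₜ m) := by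
    change (TensorProduct.congr (LinearEquiv.refl B' N₁) hj.equiv.symm) (i n ⊗ₜ j m) = _
    rw [TensorProduct.congr_tmul, hj.equiv_symm_apply, LinearEquiv.refl_apply]
  have h2 : e2 (i n ⊗ₜ (1 ⊗ₜ m)) = i n ⊗ₜ m := by
    change (AlgebraTensorModule.cancelBaseChange B B' B' N₁ M) (i n ⊗ₜ (1 ⊗ₜ m)) = _
    rw [AlgebraTensorModule.cancelBaseChange_tmul, one_smul]
  have h3 : e3 (i n ⊗ₜ m) = m ⊗ₜ i n := rfl
  have h4 : e4 (m ⊗ₜ i n) = m ⊗ₜ (1 ⊗ₜ n) := by
    change (TensorProduct.congr (LinearEquiv.refl B M) hi'.equiv.symm) (m ⊗ₜ i n) = _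
    rw [TensorProduct.congr_tmul, LinearEquiv.refl_apply]
    exact congrArg _ (hi'.equiv_symm_apply n)
  have h5 : e5 (m ⊗ₜ (1 ⊗ₜ n)) = m ⊗ₜ n := by
    change (AlgebraTensorModule.cancelBaseChange A B B M N) (m ⊗ₜ (1 ⊗ₜ n)) = _
    rw [AlgebraTensorModule.cancelBaseChange_tmul, one_smul]
  change n ⊗ₜ m = e6 (e5 (e4 (e3 (e2 (e1 (i n ⊗ₜ j m))))))
  rw [h1, h2, h3, h4, h5]
  rfl

end Groth.Agent.FormalB.BCAlg
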