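import Groth.Agent.FormalB.BCGerm

/-!
# The affine case of the base change isomorphism on stalks
-/

set_option autoImplicit false
set_option linter.style.haveILetI false
universe u

open CategoryTheory CategoryTheory.Limits AlgebraicGeometry Opposite TopologicalSpace MonoidalCategory
open TensorProduct
open Groth.Agent.Dcoh.Stalk
open Groth.Agent.VarietyB.PullSec

namespace Groth.Agent.FormalB.BC

/-- sections of `G` over `V'`, as a module over the functions on `V`, for `V' ≤ g⁻¹ V`. -/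
def GV {S' S : Scheme.{u}} (g : S' ⟶ S) (G : S'.Modules) {V : S.Opens} {V' : S'.Opens}
    (_e : V' ≤ g ⁻¹ᵁ V) : Type u := Γ(G, V')

section GV

variable {S' S : Scheme.{u}} (g : S' ⟶ S) (G : S'.Modules) {V : S.Opens} {V' V'' : S'.Opens}
    (e : V' ≤ g ⁻¹ᵁ V)

noncomputable instance : AddCommGroup (GV g G e) := inferInstanceAs (AddCommGroup Γ(G, V'))

noncomputable instance : Module Γ(S, V) (GV g G e) :=
  Module.compHom Γ(G, V') (g.appLE V V' e).hom

/-- the tautological identification. -/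
noncomputable def toGV : Γ(G, V') ≃+ GV g G e := AddEquiv.refl _

theorem toGV_smul (a : Γ(S, V)) (y : Γ(G, V')) :
    a • toGV g G e y = toGV g G e (g.appLE V V' e a • y) := rfl

theorem toGV_symm_smul (a : Γ(S, V)) (y : GV g G e) :
    (toGV g G e).symm (a • y) = g.appLE V V' e a • (toGV g G e).symm y := rfl

/-- restriction. -/
noncomputable def resGV (h : V'' ≤ V') : GV g G e →ₗ[Γ(S, V)] GV g G (h.trans e) where
  toFun y := toGV g G _ (rs G h ((toGV g G e).symm y))
  map_add' x y := by rw [map_add, map_add, map_add]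
  map_smul' a y := by
    rw [toGV_symm_smul, rs_smul, RingHom.id_apply, toGV_smul]
    congr 2
    rw [← ConcreteCategory.comp_apply, Scheme.Hom.appLE_map]

theorem resGV_toGV (h : V'' ≤ V') (y : Γ(G, V')) :
    resGV g G e h (toGV g G e y) = toGV g G _ (rs G h y) := rfl

end GV

section TP

variable {X S X' S' : Scheme.{u}} {f : X ⟶ S} {g : S' ⟶ S} {g' : X' ⟶ X} {f' : X' ⟶ S'}
  (H : IsPullback g' f' f g) (G : S'.Modules) (F : X.Modules)
  {V : S.Opens} {V' V'' : S'.Opens} {W : X.Opens} (e : V' ≤ g ⁻¹ᵁ V) (hW : W ≤ f ⁻¹ᵁ V)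

/-- `G(V') ⊗_{O(V)} F(W)`. -/
abbrev TP : Type u := GV g G e ⊗[Γ(S, V)] GV f F hW

/-- restriction. -/
noncomputable def resTP (h : V'' ≤ V') : TP G F e hW →+ TP G F (h.trans e) hW :=
  (TensorProduct.map (resGV g G e h) LinearMap.id).toAddMonoidHom

theorem resTP_tmul (h : V'' ≤ V') (y : Γ(G, V')) (m : Γ(F, W)) :
    resTP G F e hW h (toGV g G e y ⊗ₜ toGV f F hW m) =
      toGV g G _ (rs G h y) ⊗ₜ toGV f F hW m := rfl

theorem TP_induction {p : TP G F e hW → Prop} (t : TP G F e hW) (h0 : p 0)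
    (h1 : ∀ (y : Γ(G, V')) (m : Γ(F, W)), p (toGV g G e y ⊗ₜ toGV f F hW m))
    (h2 : ∀ a b, p a → p b → p (a + b)) : p t := by
  induction t using TensorProduct.induction_on with
  | zero => exact h0
  | tmul y m => exact h1 _ _
  | add a b ha hb => exact h2 a b ha hb

include H in
/-- The affine case of the base change isomorphism. -/
theorem exists_theta' (hV : IsAffineOpen V) (hV' : IsAffineOpen V') (hWa : IsAffineOpen W)
    (hG : Coh.IsQCoh G) (hF : Coh.IsQCoh F) :
    ∃ θ : TP G F e hW ≃+ Γ((PF g' f' G).obj F, Qo g' f' W V'),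
      ∀ y m, θ (toGV g G e y ⊗ₜ toGV f F hW m) = Ega2.Tens.tmul (M := (Scheme.Modules.pullback f').obj G)
        (N := (Scheme.Modules.pullback g').obj F) (U := Qo g' f' W V')
        (sec f' G inf_le_right y) (sec g' F inf_le_left m) :=
  exists_theta H e hW hV hV' hWa G hG F hF

theorem lo_eq_self {W U : X.Opens} (h : W ≤ U) : lo W U = W := by
  rw [lo_eq]; exact inf_eq_left.2 h

/-- a section over `W` seen as a section of `f_* F_W` over `V`. -/
noncomputable def upW (m : Γ(F, W)) :
    Γ((Scheme.Modules.pushforward f).obj ((locF W).obj F), V) :=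
  rs F (lo_le_left W (f ⁻¹ᵁ V)) m

theorem upW_add (m m' : Γ(F, W)) : upW (f := f) F (V := V) (m + m') =
    upW (f := f) F (V := V) m + upW (f := f) F (V := V) m' :=
  map_add (rs F (lo_le_left W (f ⁻¹ᵁ V))) m m'

theorem upW_zero : upW (f := f) F (V := V) (0 : Γ(F, W)) = 0 :=
  map_zero (rs F (lo_le_left W (f ⁻¹ᵁ V)))

theorem upW_smul (a : Γ(S, V)) (m : Γ(F, W)) :
    upW (f := f) F (V := V) (f.appLE V W hW a • m) = a • upW (f := f) F (V := V) m := by
  refine (rs_smul F (lo_le_left W (f ⁻¹ᵁ V)) _ m).trans ?_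
  refine Eq.trans ?_ (locF_smul W F (f ⁻¹ᵁ V) (f.app V a) (rs F (lo_le_left W (f ⁻¹ᵁ V)) m)).symm
  congr 1
  rw [Scheme.Hom.app_eq_appLE, ← ConcreteCategory.comp_apply, ← ConcreteCategory.comp_apply,
    Scheme.Hom.appLE_map, Scheme.Hom.appLE_map]

/-- the map on pure tensors. -/
noncomputable def alphaFun {hW : W ≤ f ⁻¹ᵁ V} (y : GV g G e) (m : GV f F hW) :
    Γ((Phi f g G W).obj F, V') :=
  Ega2.Tens.tmul (M := G) (N := (Scheme.Modules.pullback g).obj
    ((Scheme.Modules.pushforward f).obj ((locF W).obj F))) (U := V') ((toGV g G e).symm y)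
    (sec g ((Scheme.Modules.pushforward f).obj ((locF W).obj F)) e
      (upW (f := f) F (V := V) ((toGV f F hW).symm m)))

theorem alphaFun_add_right {hW : W ≤ f ⁻¹ᵁ V} (y : GV g G e) (m m' : GV f F hW) :
    alphaFun G F e y (m + m') = alphaFun G F e y m + alphaFun G F e y m' := by
  unfold alphaFun
  refine Eq.trans ?_ (Ega2.Tens.tmul_add _ _ _)
  congr 1
  rw [map_add, upW_add, map_add]

theorem alphaFun_add_left {hW : W ≤ f ⁻¹ᵁ V} (y y' : GV g G e) (m : GV f F hW) :
    alphaFun G F e (y + y') m = alphaFun G F e y m + alphaFun G F e y' m := by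
  unfold alphaFun
  refine Eq.trans ?_ (Ega2.Tens.add_tmul _ _ _)
  congr 1

theorem alphaFun_smul (a : Γ(S, V)) (y : GV g G e) (m : GV f F hW) :
    alphaFun G F e (a • y) m = alphaFun G F e y (a • m) := by
  unfold alphaFun
  rw [toGV_symm_smul, toGV_symm_smul, upW_smul, Ega2.Tens.smul_tmul, sec_smul,
    Ega2.Tens.tmul_smul]

/-- the map `G(V') ⊗_{O(V)} F(W) ⟶ (G ⊗ g^* f_* F_W)(V')`. -/
noncomputable def alpha : TP G F e hW →+ Γ((Phi f g G W).obj F, V') :=
  TensorProduct.liftAddHom (R := Γ(S, V)) (M := GV g G e) (N := GV f F hW)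
    (AddMonoidHom.mk' (fun y => AddMonoidHom.mk' (fun m => alphaFun G F e y m)
        (fun m m' => alphaFun_add_right G F e y m m'))
      (fun y y' => AddMonoidHom.ext fun m => alphaFun_add_left G F e y y' m))
    (fun a y m => alphaFun_smul G F e hW a y m)

theorem alpha_tmul (y : Γ(G, V')) (m : Γ(F, W)) :
    alpha G F e hW (toGV g G e y ⊗ₜ toGV f F hW m) = Ega2.Tens.tmul (M := G)
      (N := (Scheme.Modules.pullback g).obj
        ((Scheme.Modules.pushforward f).obj ((locF W).obj F))) (U := V') y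
      (sec g ((Scheme.Modules.pushforward f).obj ((locF W).obj F)) e
        (upW (f := f) F (V := V) m)) := rfl

end TP

end Groth.Agent.FormalB.BC
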