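import Groth.Agent.Dcoh.StalkT
import Groth.Agent.Fdesc.FlatBC
import Groth.Agent.Fdesc.PullbackStalk
import Mathlib.LinearAlgebra.TensorProduct.Tower

/-!
# The functor `E ↦ G ⊗ h^* E` for `G` flat over the base

For `h : X ⟶ Y` and `G : X.Modules`, `T h G : Y.Modules ⥤ X.Modules` is the functor `E ↦ G ⊗ h^* E`.

* `stalkEquiv h G E x : G_x ⊗[O_{Y, h x}] E_{h x} ≃+ (G ⊗ h^* E)_x`, natural in `E`;
* `T h G` is exact when `G` is flat over `Y`.
-/

set_option autoImplicit false
set_option linter.style.haveILetI false
universe u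

open CategoryTheory CategoryTheory.Limits AlgebraicGeometry Opposite TopologicalSpace MonoidalCategory
open TensorProduct
open Groth.Agent.Dcoh.Stalk

namespace Groth.Agent.FormalB.BC

variable {X Y : Scheme.{u}}

/-- a morphism of `O_X`-modules with injective stalk maps is a monomorphism. -/
theorem mono_of_stalk {M N : X.Modules} (φ : M ⟶ N)
    (h : ∀ x : X, Function.Injective ((stalkF x).map φ)) : Mono φ := by
  have key : ∀ U : X.Opens, Function.Injective (φ.app U) := by
    intro U
    rw [injective_iff_map_eq_zero]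
    intro s hs
    refine TopCat.Presheaf.section_ext ⟨M.presheaf, M.isSheaf⟩ U s 0 fun x hx => ?_
    have h1 : (stalkF x).map φ (M.presheaf.germ U x hx s) = N.presheaf.germ U x hx (φ.app U s) :=
      Dcoh.StalkP.stalkMap_germ _ _ _ _ _
    have h2 : M.presheaf.germ U x hx s = 0 :=
      h x (h1.trans ((congrArg _ hs).trans ((map_zero _).trans (map_zero _).symm)))
    exact h2.trans (map_zero _).symm
  apply (Scheme.Modules.toPresheaf X).mono_of_mono_map
  have : ∀ U, Mono (((Scheme.Modules.toPresheaf X).map φ).app U) := fun U => by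
    rw [AddCommGrpCat.mono_iff_injective]
    exact key U.unop
  exact NatTrans.mono_of_mono_app _

theorem stalk_injective_of_mono {M N : X.Modules} (φ : M ⟶ N) [Mono φ] (x : X) :
    Function.Injective ((stalkF x).map φ) := by
  have : Mono ((stalkF x).map φ) := inferInstance
  rwa [ModuleCat.mono_iff_injective] at this

variable (h : X ⟶ Y) (G : X.Modules)

/-- `E ↦ G ⊗ h^* E`. -/
noncomputable def T : Y.Modules ⥤ X.Modules :=
  Scheme.Modules.pullback h ⋙ DCoh.tensorBi.obj G

theorem T_obj (E : Y.Modules) : (T h G).obj E =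
    CohB1.tensorMod G ((Scheme.Modules.pullback h).obj E) := rfl

instance : PreservesFiniteColimits (T h G) := by
  have : PreservesFiniteColimits (Scheme.Modules.pullback h) := inferInstance
  exact comp_preservesFiniteColimits _ _

instance : (T h G).Additive := by
  have := preservesBinaryBiproducts_of_preservesBinaryCoproducts (T h G)
  exact Functor.additive_of_preservesBinaryBiproducts _

section Stalk

variable (E : Y.Modules) (x : X)

/-- the underlying additive group of `G_x ⊗[O_{Y, h x}] E_{h x}`. -/
abbrev StT : Type u :=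
  letI := FlatMod.moduleStalkOver h G x
  G.presheaf.stalk x ⊗[Y.presheaf.stalk (h.base x)] E.presheaf.stalk (h.base x)

/-- the stalk of `G ⊗ h^* E`, seen over the base. -/
noncomputable def stalkEquiv : StT h G E x ≃+ (stalkF x).obj ((T h G).obj E) :=
  letI := Fdesc.PullbackStalk.stalkAlg h x
  letI := FlatMod.moduleStalkOver h G x
  haveI := Fdesc.PullbackStalk.isScalarTower h G x
  ((AlgebraTensorModule.cancelBaseChange (Y.presheaf.stalk (h.base x)) (X.presheaf.stalk x)
    (X.presheaf.stalk x) (G.presheaf.stalk x) (E.presheaf.stalk (h.base x))).symm ≪≫ₗ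
  TensorProduct.congr (LinearEquiv.refl _ _) (Fdesc.PullbackStalk.stalkPullbackEquiv h E x)
    ≪≫ₗ (tensorStalkIso G ((Scheme.Modules.pullback h).obj E) x).symm.toLinearEquiv).toAddEquiv

/-- pure tensors. -/
noncomputable def pure (y : G.presheaf.stalk x) (e : E.presheaf.stalk (h.base x)) :
    StT h G E x :=
  letI := FlatMod.moduleStalkOver h G x
  y ⊗ₜ e

theorem stalkEquiv_pure (y : G.presheaf.stalk x) (e : E.presheaf.stalk (h.base x)) :
    stalkEquiv h G E x (pure h G E x y e) =
      (tensorStalkIso G ((Scheme.Modules.pullback h).obj E) x).inv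
        (y ⊗ₜ[X.presheaf.stalk x] Fdesc.PullbackStalk.canAdd h E x e) := by
  letI := Fdesc.PullbackStalk.stalkAlg h x
  letI := FlatMod.moduleStalkOver h G x
  haveI := Fdesc.PullbackStalk.isScalarTower h G x
  have h1 := Fdesc.PullbackStalk.stalkPullbackEquiv_tmul h E x 1 e
  rw [one_smul] at h1
  change (tensorStalkIso G ((Scheme.Modules.pullback h).obj E) x).inv
    (y ⊗ₜ[X.presheaf.stalk x] (Fdesc.PullbackStalk.stalkPullbackEquiv h E x (1 ⊗ₜ e))) = _
  rw [h1]

variable {E}

/-- functoriality of the source. -/
noncomputable def mapSt {E' : Y.Modules} (φ : E ⟶ E') : StT h G E x →+ StT h G E' x :=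
  letI := FlatMod.moduleStalkOver h G x
  (LinearMap.lTensor (G.presheaf.stalk x) ((stalkF (h.base x)).map φ).hom).toAddMonoidHom

theorem mapSt_pure {E' : Y.Modules} (φ : E ⟶ E') (y : G.presheaf.stalk x)
    (e : E.presheaf.stalk (h.base x)) :
    mapSt h G x φ (pure h G E x y e) = pure h G E' x y ((stalkF (h.base x)).map φ e) := rfl

theorem st_induction {p : StT h G E x → Prop} (t : StT h G E x) (h0 : p 0)
    (h1 : ∀ y e, p (pure h G E x y e)) (h2 : ∀ a b, p a → p b → p (a + b)) : p t :=
  letI := FlatMod.moduleStalkOver h G x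
  TensorProduct.induction_on t h0 h1 h2

theorem stalkEquiv_naturality {E' : Y.Modules} (φ : E ⟶ E') (t : StT h G E x) :
    (stalkF x).map ((T h G).map φ) (stalkEquiv h G E x t) =
      stalkEquiv h G E' x (mapSt h G x φ t) := by
  induction t using st_induction with
  | h0 => rw [map_zero, map_zero, map_zero, map_zero]
  | h2 a b ha hb => rw [map_add, map_add, ha, hb, map_add, map_add]
  | h1 y e =>
    rw [mapSt_pure, stalkEquiv_pure, stalkEquiv_pure]
    have h2 := tensorStalkIso_naturality_right (M := G) ((Scheme.Modules.pullback h).map φ) x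
    have h3 : (tensorStalkIso G _ x).inv ≫
        (stalkF x).map ((DCoh.tensorBi.obj G).map ((Scheme.Modules.pullback h).map φ)) =
      ((stalkF x).obj G ◁ (stalkF x).map ((Scheme.Modules.pullback h).map φ)) ≫
        (tensorStalkIso G _ x).inv := by
      rw [Iso.inv_comp_eq, ← Category.assoc, Iso.eq_comp_inv]
      exact h2
    refine (congr($h3 (y ⊗ₜ[X.presheaf.stalk x] Fdesc.PullbackStalk.canAdd h E x e))).trans ?_
    have h4 := Fdesc.PullbackStalk.stalkMap_pullback_canAdd h φ x e
    exact congrArg (fun z => (tensorStalkIso G ((Scheme.Modules.pullback h).obj E') x).inv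
        (y ⊗ₜ[X.presheaf.stalk x] z)) h4

theorem T_map_mono {E E' : Y.Modules} (φ : E ⟶ E') [Mono φ] (hG : FlatMod.IsFlatOver h G) :
    Mono ((T h G).map φ) := by
  apply mono_of_stalk
  intro x
  letI := FlatMod.moduleStalkOver h G x
  have hflat : Module.Flat (Y.presheaf.stalk (h.base x)) (G.presheaf.stalk x) := hG x
  have h1 := stalk_injective_of_mono φ (h.base x)
  have h2 : Function.Injective (mapSt h G x φ) :=
    Module.Flat.lTensor_preserves_injective_linearMap (M := G.presheaf.stalk x)
      ((stalkF (h.base x)).map φ).hom h1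
  intro a b hab
  obtain ⟨a, rfl⟩ := (stalkEquiv h G E x).surjective a
  obtain ⟨b, rfl⟩ := (stalkEquiv h G E x).surjective b
  rw [stalkEquiv_naturality, stalkEquiv_naturality] at hab
  rw [h2 ((stalkEquiv h G E' x).injective hab)]

theorem T_preservesHomology (hG : FlatMod.IsFlatOver h G) : (T h G).PreservesHomology := by
  have key : ∀ S : ShortComplex Y.Modules, S.ShortExact → (S.map (T h G)).ShortExact := by
    intro S hS
    have := hS.mono_f
    have := T_map_mono h G S.f hG
    have h1 := ((Functor.preservesFiniteColimits_tfae (T h G)).out 0 3 rfl rfl).2 inferInstance S hS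
    exact { exact := h1.1, mono_f := this, epi_g := h1.2 }
  exact ((Functor.exact_tfae (T h G)).out 0 2 rfl rfl).1 key

theorem T_preservesFiniteLimits (hG : FlatMod.IsFlatOver h G) : PreservesFiniteLimits (T h G) := by
  have := T_preservesHomology h G hG
  exact Functor.preservesFiniteLimits_of_preservesHomology _

end Stalk

/-- the pull-back of a sheaf flat over the base is flat over the base. -/
theorem isFlatOver_pullback {P X Y' Y : Scheme.{u}} {p : P ⟶ X} {q : P ⟶ Y'} {f : X ⟶ Y}
    {g : Y' ⟶ Y} (H : IsPullback p q f g) (M : X.Modules) (hM : FlatMod.IsFlatOver f M) :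
    FlatMod.IsFlatOver q ((Scheme.Modules.pullback p).obj M) :=
  fun z => Fdesc.FlatBC.isFlatOverAt_pullback H M z (hM _)

end Groth.Agent.FormalB.BC
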