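import Groth.Agent.FormalB.BCTheta

/-!
# Flat base change with coefficients, [Stacks, 0GN5]
-/

set_option autoImplicit false
set_option linter.style.haveILetI false
universe u

open CategoryTheory CategoryTheory.Limits AlgebraicGeometry Opposite TopologicalSpace MonoidalCategory
open Groth.Agent.Dcoh.Stalk Groth.Agent.VarietyB.PullSec

namespace Groth.Agent.FormalB.BC

open BCAbs

section Qi

variable {Y : Scheme.{u}}

/-- quasi-isomorphisms of complexes of `O_Y`-modules can be checked on stalks. -/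
theorem quasiIso_of_stalk {ι : Type*} {c : ComplexShape ι} {K L : HomologicalComplex Y.Modules c}
    (φ : K ⟶ L) (h : ∀ y : Y, QuasiIso (((stalkF y).mapHomologicalComplex _).map φ)) :
    QuasiIso φ := by
  rw [quasiIso_iff]
  intro i
  rw [quasiIsoAt_iff_isIso_homologyMap]
  have key : ∀ y : Y, IsIso ((stalkF y).map (HomologicalComplex.homologyMap φ i)) := by
    intro y
    have h0 := h y
    have h1 : IsIso (HomologicalComplex.homologyMap
        (((stalkF y).mapHomologicalComplex _).map φ) i) := by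
      rw [← quasiIsoAt_iff_isIso_homologyMap]
      infer_instance
    have h2 := ShortComplex.mapHomologyIso_hom_naturality
      ((HomologicalComplex.shortComplexFunctor _ c i).map φ) (stalkF y)
    have h3 : (stalkF y).map (ShortComplex.homologyMap
        ((HomologicalComplex.shortComplexFunctor _ c i).map φ)) =
        ((K.sc i).mapHomologyIso (stalkF y)).inv ≫ HomologicalComplex.homologyMap
          (((stalkF y).mapHomologicalComplex _).map φ) i ≫
          ((L.sc i).mapHomologyIso (stalkF y)).hom := by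
      rw [Iso.eq_inv_comp]
      exact h2.symm
    change IsIso ((stalkF y).map (ShortComplex.homologyMap
        ((HomologicalComplex.shortComplexFunctor _ c i).map φ)))
    rw [h3]
    exact @IsIso.comp_isIso _ _ _ _ _ _ _ inferInstance
      (@IsIso.comp_isIso _ _ _ _ _ _ _ h1 inferInstance)
  exact (jointlyReflectIsos Y).isIso _

end Qi

section Base

variable {X S X' S' : Scheme.{u}} {f : X ⟶ S} {g : S' ⟶ S} {g' : X' ⟶ X} {f' : X' ⟶ S'}
  (H : IsPullback g' f' f g)

theorem cof_X {V : S.Opens} {W : X.Opens} (hV : IsAffineOpen V) (hWa : IsAffineOpen W)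
    (hW : W ≤ f ⁻¹ᵁ V) (F : X.Modules) (hF : Coh.IsQCoh F) (s : S) (hs : s ∈ V) :
    Cof f W s F := by
  intro O hO
  obtain ⟨a, haO, hsa⟩ := hV.exists_basicOpen_le ⟨s, hO⟩ hs
  have hb : X.basicOpen (f.appLE V W hW a) = W ⊓ f ⁻¹ᵁ (S.basicOpen a) := by
    rw [Scheme.Hom.appLE, CommRingCat.comp_apply, Scheme.basicOpen_res,
      Scheme.preimage_basicOpen]
  refine ⟨S.basicOpen a, haO, hsa, acy_of_isQCoh F hF _ ?_⟩
  rw [lo_eq, ← hb]
  exact hWa.basicOpen _

include H in
theorem cof_X' {V : S.Opens} {W : X.Opens} (hV : IsAffineOpen V) (hWa : IsAffineOpen W)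
    (hW : W ≤ f ⁻¹ᵁ V) (N : X'.Modules) (hN : Coh.IsQCoh N) (s' : S') (hs : g.base s' ∈ V) :
    Cof f' (g' ⁻¹ᵁ W) s' N := by
  intro O hO
  obtain ⟨V', hV', hsV', hle⟩ := exists_isAffineOpen_mem_and_subset
    (show s' ∈ O ⊓ g ⁻¹ᵁ V from ⟨hO, hs⟩)
  have hle' : V' ≤ O ⊓ g ⁻¹ᵁ V := hle
  refine ⟨V', hle'.trans inf_le_left, hsV', acy_of_isQCoh N hN _ ?_⟩
  rw [lo_eq]
  exact isAffineOpen_Qo H (hle'.trans inf_le_right) hW hV hV' hWa

variable (G : S'.Modules) (F : X.Modules) (J : InjectiveResolution F)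
  (K : InjectiveResolution ((PF g' f' G).obj F))
  (κ : ((PF g' f' G).mapHomologicalComplex (ComplexShape.up ℕ)).obj J.cocomplex ⟶ K.cocomplex)
  (hκ : (PF g' f' G).map (J.ι.f 0) ≫ κ.f 0 = K.ι.f 0)

theorem isQCoh_PF (hG : Coh.IsQCoh G) (hF : Coh.IsQCoh F) :
    Coh.IsQCoh ((PF g' f' G).obj F) :=
  Ega1.TensorRestrict.isQCoh_tensorMod _ _ (isQCoh_pullback f' G hG) (isQCoh_pullback g' F hF)

include hκ in
theorem quasiIso_base (hG : Coh.IsQCoh G) (hGf : FlatMod.IsFlatOver g G) (hF : Coh.IsQCoh F)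
    {V : S.Opens} {W : X.Opens} (hV : IsAffineOpen V) (hWa : IsAffineOpen W)
    (hW : W ≤ f ⁻¹ᵁ V) (s' : S') (hs : g.base s' ∈ V) :
    QuasiIso (theta (phiS H.w G W s') κ) := by
  have h1 : IsIso ((phiS H.w G W s').app F) := by
    rw [ConcreteCategory.isIso_iff_bijective]
    exact bijective_stalk_phiApp H G F hV hWa hG hF s' hs hW
  exact quasiIso_theta_of_aug (phiS H.w G W s') κ (A := F) (J.ι.f 0 :) (K.ι.f 0 :) hκ
    (augPhi G s' J hGf W (cof_X hV hWa hW F hF _ hs)) rfl
    (augPsi s' K W (cof_X' H hV hWa hW _ (isQCoh_PF G F hG hF) s' hs)) rfl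

include hκ in
theorem quasiIso_preim [QuasiCompact f] [QuasiSeparated f] (hG : Coh.IsQCoh G)
    (hGf : FlatMod.IsFlatOver g G) (hF : Coh.IsQCoh F)
    {V : S.Opens} (hV : IsAffineOpen V) (s' : S') (hs : g.base s' ∈ V) :
    QuasiIso (theta (phiS H.w G (f ⁻¹ᵁ V) s') κ) := by
  have h1 : CompactSpace (f ⁻¹ᵁ V : Scheme.{u}) :=
    isCompact_iff_compactSpace.1 (f.isCompact_preimage hV.isCompact)
  have h2 : QuasiSeparatedSpace (f ⁻¹ᵁ V : Scheme.{u}) :=
    (isQuasiSeparated_iff_quasiSeparatedSpace _ (f ⁻¹ᵁ V).2).1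
      (f.isQuasiSeparated_preimage hV.isQuasiSeparated)
  have key := S0015.result (f ⁻¹ᵁ V : Scheme.{u})
    (fun U => QuasiIso (theta (phiS H.w G ((f ⁻¹ᵁ V).ι ''ᵁ U) s') κ)) ?_ ?_ ⊤ isCompact_univ
  · have h3 : (f ⁻¹ᵁ V).ι ''ᵁ ⊤ = f ⁻¹ᵁ V := by
      rw [Scheme.Hom.image_top_eq_opensRange, Scheme.Opens.opensRange_ι]
    rwa [h3] at key
  · intro U hU
    refine quasiIso_base H G F J K κ hκ hG hGf hF hV
      (hU.image_of_isOpenImmersion (f ⁻¹ᵁ V).ι) ?_ s' hs
    refine ((f ⁻¹ᵁ V).ι.image_mono le_top).trans ?_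
    rw [Scheme.Hom.image_top_eq_opensRange, Scheme.Opens.opensRange_ι]
  · intro U U' _ _ h1 h2 h3
    refine quasiIso_mv H.w G s' J K κ hGf ?_ ?_ h1 h2 h3
    · apply Opens.ext
      exact Set.image_union _ _ _
    · apply Opens.ext
      exact Set.image_inter (f ⁻¹ᵁ V).ι.isOpenEmbedding.injective

/-- the comparison on stalks, over the whole of `X`. -/
noncomputable def bS (w : g' ≫ f = f' ≫ g) (G : S'.Modules) (s' : S') :
    (Scheme.Modules.pushforward f ⋙ T g G) ⋙ stalkF s' ⟶
      PF g' f' G ⋙ Scheme.Modules.pushforward f' ⋙ stalkF s' where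
  app M := (stalkF s').map ((b w G).app M)
  naturality M N φ := by
    have h := congrArg (stalkF s').map (b_nat w G φ)
    rw [Functor.map_comp, Functor.map_comp] at h
    exact h

include hκ in
theorem quasiIso_global [QuasiCompact f] [QuasiSeparated f] (hG : Coh.IsQCoh G)
    (hGf : FlatMod.IsFlatOver g G) (hF : Coh.IsQCoh F) :
    QuasiIso (theta (b H.w G) κ) := by
  apply quasiIso_of_stalk
  intro s'
  obtain ⟨V, hV, hsV, -⟩ := exists_isAffineOpen_mem_and_subset
    (show g.base s' ∈ (⊤ : S.Opens) from trivial)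
  have h1 := quasiIso_preim H G F J K κ hκ hG hGf hF hV s' hsV
  have h2 : QuasiIso (theta (bS H.w G s') κ) := by
    refine quasiIso_theta_of_isIso κ (bS H.w G s') (phiS H.w G (f ⁻¹ᵁ V) s')
      { app := fun M => (stalkF s').map ((T g G).map ((Scheme.Modules.pushforward f).map
          (eta (f ⁻¹ᵁ V) M)))
        naturality := fun M N φ => ?_ }
      { app := fun M => (stalkF s').map ((Scheme.Modules.pushforward f').map
          (eta (g' ⁻¹ᵁ f ⁻¹ᵁ V) M))
        naturality := fun M N φ => ?_ } ?_ ?_ ?_ h1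
    · have h := congrArg (fun t => (stalkF s').map ((T g G).map
        ((Scheme.Modules.pushforward f).map t))) (eta_naturality (f ⁻¹ᵁ V) φ)
      simp only [Functor.map_comp] at h
      exact h
    · have h := congrArg (fun t => (stalkF s').map
        ((Scheme.Modules.pushforward f').map t)) (eta_naturality (g' ⁻¹ᵁ f ⁻¹ᵁ V) φ)
      simp only [Functor.map_comp] at h
      exact h
    · intro M
      have h := congrArg (stalkF s').map (b_phiApp H.w G (f ⁻¹ᵁ V) M)
      rw [Functor.map_comp, Functor.map_comp] at h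
      exact h
    · intro n
      rw [ConcreteCategory.isIso_iff_bijective]
      exact bijective_stalk_T_map g G _ s'
        (bijective_stalk_push_eta f (f ⁻¹ᵁ V) V le_rfl _ _ hsV)
    · intro n
      rw [ConcreteCategory.isIso_iff_bijective]
      refine bijective_stalk_push_eta f' (g' ⁻¹ᵁ f ⁻¹ᵁ V) (g ⁻¹ᵁ V) ?_ _ _ hsV
      exact (preim_eq H.w V).le
  have h3 : ((stalkF s').mapHomologicalComplex _).map (theta (b H.w G) κ) =
      theta (bS H.w G s') κ := by
    apply HomologicalComplex.hom_ext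
    intro n
    exact (stalkF s').map_comp _ _
  rw [h3]
  exact h2

end Base

section Main

variable {X S X' S' : Scheme.{u}} (f : X ⟶ S) [QuasiCompact f] [QuasiSeparated f] (g : S' ⟶ S)
  (g' : X' ⟶ X) (f' : X' ⟶ S') (H : IsPullback g' f' f g)
  [HasInjectiveResolutions X.Modules] [HasInjectiveResolutions X'.Modules]
  (F : X.Modules) (hF : Coh.IsQCoh F) (G : S'.Modules) (hG : Coh.IsQCoh G)
  (hGf : FlatMod.IsFlatOver g G) (i : ℕ)

include H hF hG hGf in
theorem nonempty_iso : Nonempty ((T g G).obj ((Coh.Rpush f i).obj F) ≅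
      (Coh.Rpush f' i).obj ((PF g' f' G).obj F)) := by
  let J : InjectiveResolution F := (HasInjectiveResolutions.out F).out.some
  let K : InjectiveResolution ((PF g' f' G).obj F) := (HasInjectiveResolutions.out _).out.some
  have hP : (PF g' f' G).PreservesHomology := T_preservesHomology g' _
    (isFlatOver_pullback H.flip G hGf)
  have hT : (T g G).PreservesHomology := T_preservesHomology g G hGf
  obtain ⟨κ, hκ⟩ := Aug.exists_desc ((Aug.ofInj J).map (PF g' f' G)) K (𝟙 _)
  rw [Category.id_comp] at hκ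
  have hq := quasiIso_global H G F J K κ hκ hG hGf hF
  let C : CochainComplex S.Modules ℕ :=
    ((Scheme.Modules.pushforward f).mapHomologicalComplex _).obj J.cocomplex
  have e1 : (T g G).obj ((Coh.Rpush f i).obj F) ≅ (T g G).obj (C.homology i) :=
    (T g G).mapIso (J.isoRightDerivedObj (Scheme.Modules.pushforward f) i)
  have e2 : (T g G).obj (C.homology i) ≅
      (((T g G).mapHomologicalComplex _).obj C).homology i :=
    ((C.sc i).mapHomologyIso (T g G)).symm
  have e3 : (((T g G).mapHomologicalComplex _).obj C).homology i ≅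
      (((Scheme.Modules.pushforward f').mapHomologicalComplex _).obj K.cocomplex).homology i :=
    isoOfQuasiIsoAt (theta (b H.w G) κ) i
  have e4 : (((Scheme.Modules.pushforward f').mapHomologicalComplex _).obj K.cocomplex).homology i ≅
      (Coh.Rpush f' i).obj ((PF g' f' G).obj F) :=
    (K.isoRightDerivedObj (Scheme.Modules.pushforward f') i).symm
  exact ⟨e1 ≪≫ e2 ≪≫ e3 ≪≫ e4⟩

end Main

end Groth.Agent.FormalB.BC
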