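import Groth.Agent.FormalB.BCAff

/-!
# Explicit formulas: germs of `G ⊗ g^* E`, the comparison maps on pure tensors
-/

set_option autoImplicit false
set_option linter.style.haveILetI false
universe u

open CategoryTheory CategoryTheory.Limits AlgebraicGeometry Opposite TopologicalSpace MonoidalCategory
open TensorProduct
open Groth.Agent.Dcoh.Stalk
open Groth.Agent.VarietyB.PullSec
open Groth.Agent.Ega2.Tens (tmul)

namespace Groth.Agent.FormalB.BC

section Germ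

variable {X Y : Scheme.{u}}

theorem tensorStalkIso_inv_germ (M N : X.Modules) (x : X) (U : X.Opens) (hx : x ∈ U)
    (m : Γ(M, U)) (n : Γ(N, U)) :
    (tensorStalkIso M N x).inv (M.presheaf.germ U x hx m ⊗ₜ[X.presheaf.stalk x]
      N.presheaf.germ U x hx n) =
      (CohB1.tensorMod M N).presheaf.germ U x hx (tmul m n) := by
  have h1 := Dcoh.StalkP.stalkTensorEquiv_symm_germ (R := X.presheaf) (DCoh.toP.obj M)
    (DCoh.toP.obj N) x U hx m n
  have h2 := Dcoh.StalkP.stalkMap_germ ((shAdj X).unit.app (DCoh.toP.obj M ⊗ DCoh.toP.obj N))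
    U x hx (Dcoh.StalkP.tmul m n)
  exact (congrArg ((stalkPS x).map ((shAdj X).unit.app (DCoh.toP.obj M ⊗ DCoh.toP.obj N))) h1).trans
    h2

variable (g : X ⟶ Y) (G : X.Modules) (E : Y.Modules)

/-- germs of pure tensors. -/
theorem stalkEquiv_germ (x : X) {U : X.Opens} (hx : x ∈ U) {V : Y.Opens} (e : U ≤ g ⁻¹ᵁ V)
    (y : Γ(G, U)) (m : Γ(E, V)) :
    stalkEquiv g G E x (pure g G E x (G.presheaf.germ U x hx y)
      (E.presheaf.germ V (g.base x) (e hx) m)) =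
      ((T g G).obj E).presheaf.germ U x hx (tmul y (sec g E e m)) := by
  rw [stalkEquiv_pure, ← germ_sec g E e x hx m]
  exact tensorStalkIso_inv_germ G ((Scheme.Modules.pullback g).obj E) x U hx y (sec g E e m)

end Germ

section UForm

variable {X X' : Scheme.{u}}

theorem rs_injective_of_eq (M : X.Modules) {U V : X.Opens} (h : V ≤ U) (h' : U ≤ V) :
    Function.Injective (rs M h) := by
  intro a b hab
  have h1 := congrArg (rs M h') hab
  rwa [rs_rs, rs_rs, rs_self, rs_self] at h1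

theorem lo_lo (W U : X.Opens) : lo W (lo W U) = lo W U := by
  rw [lo_eq, lo_eq, ← inf_assoc, inf_idem]

theorem rs_tmul (M N : X.Modules) {U V : X.Opens} (h : V ≤ U) (m : Γ(M, U)) (n : Γ(N, U)) :
    rs (CohB1.tensorMod M N) h (tmul m n) = tmul (rs M h m) (rs N h n) :=
  Ega2.Tens.tmul_res (homOfLE h) m n

theorem rs_sec (g : X' ⟶ X) (M : X.Modules) {U : X.Opens} {V : X'.Opens} (e : V ≤ g ⁻¹ᵁ U)
    {U₁ : X.Opens} {V₁ : X'.Opens} (e₁ : V₁ ≤ g ⁻¹ᵁ U₁) (hU : U₁ ≤ U) (hV : V₁ ≤ V)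
    (s : Γ(M, U)) :
    rs ((Scheme.Modules.pullback g).obj M) hV (sec g M e s) = sec g M e₁ (rs M hU s) :=
  sec_res g M e e₁ hU hV s

variable (g' : X' ⟶ X) (H : X'.Modules) (W : X.Opens) (M : X.Modules)

/-- explicit formula for the comparison map `uApp`. -/
theorem uApp_tmul_sec {U : X'.Opens} {O : X.Opens} (e : U ≤ g' ⁻¹ᵁ O) (y : Γ(H, U))
    (m : Γ(M, lo W O)) (e' : lo (g' ⁻¹ᵁ W) U ≤ g' ⁻¹ᵁ (lo W O)) :
    (uApp g' H W M).app U (tmul y (sec g' ((locF W).obj M) e m)) =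
      tmul (M := H) (N := (Scheme.Modules.pullback g').obj M) (U := lo (g' ⁻¹ᵁ W) U)
        (rs H (lo_le_right _ U) y) (sec g' M e' m) := by
  -- restrict to `U' = lo W' U`
  have hinj : Function.Injective (rs ((T g' H).obj M)
      (lo_mono le_rfl (lo_le_right (g' ⁻¹ᵁ W) U) :
        lo (g' ⁻¹ᵁ W) (lo (g' ⁻¹ᵁ W) U) ≤ lo (g' ⁻¹ᵁ W) U)) :=
    rs_injective_of_eq _ _ (lo_lo _ _).ge
  apply hinj
  have h1 : rs ((locF (g' ⁻¹ᵁ W)).obj ((T g' H).obj M)) (lo_le_right (g' ⁻¹ᵁ W) U)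
      ((uApp g' H W M).app U (tmul y (sec g' ((locF W).obj M) e m))) =
      (uApp g' H W M).app (lo (g' ⁻¹ᵁ W) U) (rs ((T g' H).obj ((locF W).obj M))
        (lo_le_right (g' ⁻¹ᵁ W) U) (tmul y (sec g' ((locF W).obj M) e m))) :=
    (app_rs _ _ _).symm
  have h2 : rs ((T g' H).obj ((locF W).obj M))
        (lo_le_right (g' ⁻¹ᵁ W) U) (tmul y (sec g' ((locF W).obj M) e m)) =
      ((T g' H).map (eta W M)).app (lo (g' ⁻¹ᵁ W) U)
        (tmul (rs H (lo_le_right _ U) y) (sec g' M e' m)) := by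
    refine (rs_tmul _ _ _ _ _).trans ?_
    refine Eq.trans ?_ (T_map_tmul g' H (eta W M) _ _ _).symm
    refine congrArg (fun t => tmul (rs H (lo_le_right _ U) y) t) ?_
    refine (rs_sec g' ((locF W).obj M) e (U₁ := lo W O) e' (lo_le_right W O)
      (lo_le_right (g' ⁻¹ᵁ W) U) m).trans ?_
    exact (sec_naturality g' (eta W M) e' m).symm
  have h3 := congr(($(eta_uApp g' H W M)).app (lo (g' ⁻¹ᵁ W) U)
    (tmul (rs H (lo_le_right _ U) y) (sec g' M e' m)))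
  exact h1.trans ((congrArg ((uApp g' H W M).app (lo (g' ⁻¹ᵁ W) U)) h2).trans h3)

end UForm

section PhiForm

variable {X S X' S' : Scheme.{u}} {f : X ⟶ S} {g : S' ⟶ S} {g' : X' ⟶ X} {f' : X' ⟶ S'}
  (w : g' ≫ f = f' ≫ g) (G : S'.Modules) (W : X.Opens) (M : X.Modules)

include w in
theorem lo_le_aux {V : S.Opens} {V' : S'.Opens} (e : V' ≤ g ⁻¹ᵁ V) :
    lo (g' ⁻¹ᵁ W) (f' ⁻¹ᵁ V') ≤ g' ⁻¹ᵁ (lo W (f ⁻¹ᵁ V)) := by
  rw [lo_eq, lo_eq]
  intro x hx
  exact ⟨hx.1, (preim_eq w V).le (f'.preimage_mono e hx.2)⟩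

/-- explicit formula for the comparison map `phiApp`. -/
theorem phiApp_tmul_sec {V : S.Opens} {V' : S'.Opens} (e : V' ≤ g ⁻¹ᵁ V)
    (y : Γ(G, V')) (m : Γ(M, lo W (f ⁻¹ᵁ V))) :
    (phiApp w G W M).app V'
      (tmul y (sec g ((Scheme.Modules.pushforward f).obj ((locF W).obj M)) e m)) =
      tmul (M := (Scheme.Modules.pullback f').obj G)
        (N := (Scheme.Modules.pullback g').obj M) (U := lo (g' ⁻¹ᵁ W) (f' ⁻¹ᵁ V'))
      (sec f' G (lo_le_right _ _) y)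
      (sec g' M (lo_le_aux w W e) m) := by
  have h1 := b_app_tmul_sec w G ((locF W).obj M) e y m
  have h2 := uApp_tmul_sec g' ((Scheme.Modules.pullback f').obj G) W M
    (U := f' ⁻¹ᵁ V') (O := f ⁻¹ᵁ V) ((f'.preimage_mono e).trans (preim_eq w V).le)
    (sec f' G (U := V') (V := f' ⁻¹ᵁ V') le_rfl y) m (lo_le_aux w W e)
  refine (congrArg (((Scheme.Modules.pushforward f').map (uApp g' _ W M)).app V') h1).trans ?_
  refine h2.trans ?_
  refine congrArg (fun t => tmul (M := (Scheme.Modules.pullback f').obj G)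
        (N := (Scheme.Modules.pullback g').obj M) (U := lo (g' ⁻¹ᵁ W) (f' ⁻¹ᵁ V'))
        t (sec g' M (lo_le_aux w W e) m)) ?_
  refine (rs_sec f' G (U := V') (V := f' ⁻¹ᵁ V') le_rfl (U₁ := V') (V₁ := lo (g' ⁻¹ᵁ W) (f' ⁻¹ᵁ V'))
    (lo_le_right _ _) le_rfl (lo_le_right _ _) y).trans ?_
  rw [rs_self]

end PhiForm

end Groth.Agent.FormalB.BC
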