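import Groth.Agent.FormalB.BCExact
import Groth.Agent.Ega3B.InjMod
import Groth.Agent.VarietyB.ModGlue
import Groth.Agent.Fdesc.LocGen

/-!
# The sheaf `j_* j^* M` for an open `W`, Mayer-Vietoris

`locF W : X.Modules ⥤ X.Modules`, `M ↦ j_* j^* M` where `j : W ⟶ X`, with unit `eta W : 𝟭 ⟶ locF W`.
-/

set_option autoImplicit false
set_option linter.style.haveILetI false
universe u

open CategoryTheory CategoryTheory.Limits AlgebraicGeometry Opposite TopologicalSpace MonoidalCategory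
open Groth.Agent.Dcoh.Stalk

namespace Groth.Agent.FormalB.BC

variable {X Y : Scheme.{u}}

/-- restriction of sections -/
noncomputable abbrev rs (M : X.Modules) {U V : X.Opens} (h : V ≤ U) : Γ(M, U) →+ Γ(M, V) :=
  (M.presheaf.map (homOfLE h).op).hom

theorem rs_rs (M : X.Modules) {U V W : X.Opens} (h : V ≤ U) (h' : W ≤ V) (s : Γ(M, U)) :
    rs M h' (rs M h s) = rs M (h'.trans h) s := by
  change M.presheaf.map (homOfLE h').op (M.presheaf.map (homOfLE h).op s) = _
  rw [← M.presheaf.map_comp_apply]; rfl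

theorem rs_self (M : X.Modules) {U : X.Opens} (h : U ≤ U) (s : Γ(M, U)) : rs M h s = s := by
  change M.presheaf.map (𝟙 _) s = s
  rw [M.presheaf.map_id]; rfl

theorem app_rs {M N : X.Modules} (φ : M ⟶ N) {U V : X.Opens} (h : V ≤ U) (s : Γ(M, U)) :
    φ.app V (rs M h s) = rs N h (φ.app U s) :=
  congr($(φ.mapPresheaf.naturality (homOfLE h).op) s)

theorem rs_smul (M : X.Modules) {U V : X.Opens} (h : V ≤ U) (r : Γ(X, U)) (s : Γ(M, U)) :
    rs M h (r • s) = X.presheaf.map (homOfLE h).op r • rs M h s :=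
  M.val.map_smul (homOfLE h).op r s

/-- `M ↦ j_* j^* M` for the inclusion `j` of `W`. -/
noncomputable def locF (W : X.Opens) : X.Modules ⥤ X.Modules :=
  Scheme.Modules.restrictFunctor W.ι ⋙ Scheme.Modules.pushforward W.ι

/-- the open `W ⊓ U`, in the form in which it appears in the sections of `locF W`. -/
abbrev lo (W U : X.Opens) : X.Opens := W.ι ''ᵁ W.ι ⁻¹ᵁ U

theorem lo_eq (W U : X.Opens) : lo W U = W ⊓ U := by
  rw [lo, Scheme.Hom.image_preimage_eq_opensRange_inf, Scheme.Opens.opensRange_ι]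

theorem lo_le_right (W U : X.Opens) : lo W U ≤ U := by rw [lo_eq]; exact inf_le_right

theorem lo_le_left (W U : X.Opens) : lo W U ≤ W := by rw [lo_eq]; exact inf_le_left

theorem lo_mono {W W' U U' : X.Opens} (h : W ≤ W') (h' : U ≤ U') : lo W U ≤ lo W' U' := by
  rw [lo_eq, lo_eq]; exact inf_le_inf h h'

theorem locF_obj (W : X.Opens) (M : X.Modules) (U : X.Opens) :
    Γ((locF W).obj M, U) = Γ(M, lo W U) := rfl

theorem locF_map_app (W : X.Opens) {M N : X.Modules} (φ : M ⟶ N) (U : X.Opens) :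
    ((locF W).map φ).app U = φ.app (lo W U) := rfl

theorem locF_rs (W : X.Opens) (M : X.Modules) {U V : X.Opens} (h : V ≤ U) (s : Γ(M, lo W U)) :
    rs ((locF W).obj M) h s = rs M (lo_mono le_rfl h) s := rfl

/-- the unit `M ⟶ j_* j^* M`. -/
noncomputable def eta (W : X.Opens) (M : X.Modules) : M ⟶ (locF W).obj M :=
  (Scheme.Modules.restrictAdjunction W.ι).unit.app M

theorem eta_naturality (W : X.Opens) {M N : X.Modules} (φ : M ⟶ N) :
    φ ≫ eta W N = eta W M ≫ (locF W).map φ :=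
  (Scheme.Modules.restrictAdjunction W.ι).unit.naturality φ

theorem eta_app (W : X.Opens) (M : X.Modules) (U : X.Opens) (s : Γ(M, U)) :
    (eta W M).app U s = rs M (lo_le_right W U) s := rfl

instance (W : X.Opens) : (locF W).Additive := by
  have : (Scheme.Modules.restrictFunctor W.ι).Additive := ⟨rfl⟩
  exact inferInstanceAs (_ ⋙ _).Additive

theorem locF_smul (W : X.Opens) (M : X.Modules) (U : X.Opens) (r : Γ(X, U)) (s : Γ(M, lo W U)) :
    (show Γ(M, lo W U) from (r • (show Γ((locF W).obj M, U) from s) : Γ((locF W).obj M, U))) =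
      X.presheaf.map (homOfLE (lo_le_right W U)).op r • s := by
  change ((W.ι.appIso _).inv (W.ι.app U r)) • s = _
  congr 1
  exact congr($(W.ι.app_appIso_inv U) r)

theorem resL_aux (M : X.Modules) {W₁ W₂ : X.Opens} (h : W₁ ≤ W₂) (U V : X.Opens) (hVU : V ≤ U)
    (m : Γ(M, lo W₂ U)) : rs M (lo_mono h le_rfl : lo W₁ V ≤ lo W₂ V) (rs M (lo_mono le_rfl hVU) m) =
      rs M (lo_mono le_rfl hVU) (rs M (lo_mono h le_rfl : lo W₁ U ≤ lo W₂ U) m) := by
  rw [rs_rs, rs_rs]

/-- the restriction `j₂_* j₂^* M ⟶ j₁_* j₁^* M` for `W₁ ≤ W₂`. -/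
noncomputable def resLApp {W₁ W₂ : X.Opens} (h : W₁ ≤ W₂) (M : X.Modules) :
    (locF W₂).obj M ⟶ (locF W₁).obj M :=
  Fdesc.LocGen.mkHom (M := (locF W₂).obj M) (N := (locF W₁).obj M)
    (fun U => rs M (lo_mono h le_rfl))
    (fun U a m => by
      refine (congrArg (rs M (lo_mono h le_rfl)) (locF_smul W₂ M U a m)).trans ?_
      refine (rs_smul M _ _ _).trans ?_
      refine Eq.trans ?_ (locF_smul W₁ M U a _).symm
      congr 1
      rw [← ConcreteCategory.comp_apply, ← X.presheaf.map_comp]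
      rfl)
    (fun U V hVU m => resL_aux M h U V hVU m)

theorem resLApp_app {W₁ W₂ : X.Opens} (h : W₁ ≤ W₂) (M : X.Modules) (U : X.Opens)
    (s : Γ(M, lo W₂ U)) : (resLApp h M).app U s = rs M (lo_mono h le_rfl) s := rfl

/-- the restriction `j₂_* j₂^* M ⟶ j₁_* j₁^* M` for `W₁ ≤ W₂`, natural in `M`. -/
noncomputable def resL {W₁ W₂ : X.Opens} (h : W₁ ≤ W₂) : locF W₂ ⟶ locF W₁ where
  app M := resLApp h M
  naturality M N φ := by
    apply Scheme.Modules.hom_ext
    intro U
    ext s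
    exact (app_rs φ (lo_mono h le_rfl : lo W₁ U ≤ lo W₂ U) (show Γ(M, lo W₂ U) from s)).symm

theorem resL_app_app {W₁ W₂ : X.Opens} (h : W₁ ≤ W₂) (M : X.Modules) (U : X.Opens)
    (s : Γ(M, lo W₂ U)) : ((resL h).app M).app U s = rs M (lo_mono h le_rfl) s := rfl

theorem eta_resL {W₁ W₂ : X.Opens} (h : W₁ ≤ W₂) (M : X.Modules) :
    eta W₂ M ≫ (resL h).app M = eta W₁ M := by
  apply Scheme.Modules.hom_ext
  intro U
  ext s
  exact rs_rs M (lo_le_right W₂ U) (lo_mono h le_rfl) s

theorem resL_resL {W₁ W₂ W₃ : X.Opens} (h : W₁ ≤ W₂) (h' : W₂ ≤ W₃) (M : X.Modules) :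
    (resL h').app M ≫ (resL h).app M = (resL (h.trans h')).app M := by
  apply Scheme.Modules.hom_ext
  intro U
  ext s
  exact rs_rs M (lo_mono h' le_rfl) (lo_mono h le_rfl) (show Γ(M, lo W₃ U) from s)

theorem epi_of_surjective {M N : X.Modules} (φ : M ⟶ N)
    (h : ∀ U : X.Opens, Function.Surjective (φ.app U)) : Epi φ := by
  apply (Scheme.Modules.toPresheaf X).epi_of_epi_map
  have : ∀ U, Epi (((Scheme.Modules.toPresheaf X).map φ).app U) := fun U => by
    rw [AddCommGrpCat.epi_iff_surjective]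
    exact h U.unop
  exact NatTrans.epi_of_epi_app _

section Sq

variable (f : X ⟶ Y) (M : X.Modules)

open Scheme.Modules in
/-- the Mayer-Vietoris square. -/
theorem isPullback_locF (U V : X.Opens) :
    IsPullback ((resL (le_sup_left : U ≤ U ⊔ V)).app M) ((resL (le_sup_right : V ≤ U ⊔ V)).app M)
      ((resL (inf_le_left : U ⊓ V ≤ U)).app M) ((resL (inf_le_right : U ⊓ V ≤ V)).app M) := by
  have hp : PreservesLimitsOfShape WalkingCospan (toPresheaf X) :=
    preservesLimitsOfShape_of_equiv (J := WalkingCospan) CategoryTheory.Equivalence.refl _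
  have hr : ReflectsLimit (cospan ((resL (inf_le_left : U ⊓ V ≤ U)).app M)
      ((resL (inf_le_right : U ⊓ V ≤ V)).app M)) (toPresheaf X) :=
    reflectsLimit_of_reflectsIsomorphisms _ _
  refine IsPullback.of_map_of_faithful (toPresheaf X) ?_
  refine IsPullback.of_forall_isPullback_app fun O => ?_
  have h1 : lo U O.unop ⊔ lo V O.unop = lo (U ⊔ V) O.unop := by
    rw [lo_eq, lo_eq, lo_eq, inf_sup_right]
  have h2 : lo U O.unop ⊓ lo V O.unop = lo (U ⊓ V) O.unop := by
    rw [lo_eq, lo_eq, lo_eq, ← inf_inf_distrib_right]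
  exact VarietyB.ModGlue.isPullback_sections M h1 h2 (lo_mono le_sup_left le_rfl)
    (lo_mono le_sup_right le_rfl) (lo_mono inf_le_left le_rfl) (lo_mono inf_le_right le_rfl)

theorem epi_pushforward_resL [Injective M] {W₁ W₂ : X.Opens} (h : W₁ ≤ W₂) :
    Epi ((Scheme.Modules.pushforward f).map ((resL h).app M)) := by
  apply epi_of_surjective
  intro U
  exact Ega3B.InjMod.surjective_map_of_injective M
    (homOfLE (lo_mono h le_rfl : lo W₁ (f ⁻¹ᵁ U) ≤ lo W₂ (f ⁻¹ᵁ U)))

end Sq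

section Stalk

theorem map_germ {M N : X.Modules} (φ : M ⟶ N) (U : X.Opens) (x : X) (hx : x ∈ U) (s : Γ(M, U)) :
    (stalkF x).map φ (M.presheaf.germ U x hx s) = N.presheaf.germ U x hx (φ.app U s) :=
  Dcoh.StalkP.stalkMap_germ _ _ _ _ _

theorem germ_rs (M : X.Modules) {U V : X.Opens} (h : V ≤ U) (x : X) (hx : x ∈ V) (s : Γ(M, U)) :
    M.presheaf.germ V x hx (rs M h s) = M.presheaf.germ U x (h hx) s :=
  TopCat.Presheaf.germ_res_apply _ _ _ _ _

theorem exists_rs_eq_zero (M : X.Modules) {x : X} {U : X.Opens} (hx : x ∈ U) (s : Γ(M, U))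
    (hs : M.presheaf.germ U x hx s = 0) : ∃ (V : X.Opens) (h : V ≤ U), x ∈ V ∧ rs M h s = 0 := by
  obtain ⟨W, hxW, i, i', hW⟩ := M.presheaf.germ_eq x hx hx s 0 (by rw [hs, map_zero])
  refine ⟨W, i.le, hxW, ?_⟩
  exact Eq.trans hW (map_zero _)

theorem bijective_stalk_eta (W : X.Opens) (M : X.Modules) (x : X) (hx : x ∈ W) :
    Function.Bijective ((stalkF x).map (eta W M)) := by
  constructor
  · rw [injective_iff_map_eq_zero]
    intro m hm
    obtain ⟨U, hU, s, rfl⟩ := TopCat.Presheaf.exists_germ_eq M.presheaf m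
    replace hm := (map_germ (eta W M) U x hU s).symm.trans hm
    obtain ⟨V, hV, hxV, h0⟩ := exists_rs_eq_zero ((locF W).obj M) hU _ hm
    have h1 : rs M ((lo_le_right W V).trans hV) s = 0 :=
      (rs_rs M (lo_le_right W U) (lo_mono le_rfl hV) s).symm.trans h0
    have hx' : x ∈ lo W V := by rw [lo_eq]; exact ⟨hx, hxV⟩
    exact (germ_rs M ((lo_le_right W V).trans hV) x hx' s).symm.trans
      ((congrArg (M.presheaf.germ (lo W V) x hx') h1).trans (map_zero _))
  · intro m
    obtain ⟨U, hU, s, rfl⟩ := TopCat.Presheaf.exists_germ_eq ((locF W).obj M).presheaf m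
    have hx' : x ∈ lo W U := by rw [lo_eq]; exact ⟨hx, hU⟩
    refine ⟨M.presheaf.germ (lo W U) x hx' s, ?_⟩
    refine (map_germ (eta W M) (lo W U) x hx' s).trans ?_
    exact germ_rs ((locF W).obj M) (lo_le_right W U) x hx' s

/-- a morphism which is bijective on the stalks at the points of `W` restricts to an isomorphism. -/
theorem isIso_restrict_of_stalk (W : X.Opens) {M N : X.Modules} (φ : M ⟶ N)
    (h : ∀ x ∈ W, Function.Bijective ((stalkF x).map φ)) :
    IsIso ((Scheme.Modules.restrictFunctor W.ι).map φ) := by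
  have key : ∀ w : (W : Scheme.{u}),
      IsIso ((stalkF w).map ((Scheme.Modules.restrictFunctor W.ι).map φ)) := by
    intro w
    have h2 : IsIso ((Scheme.Modules.restrictFunctor W.ι ⋙ Scheme.Modules.toPresheaf _ ⋙
        TopCat.Presheaf.stalkFunctor _ w).map φ) := by
      rw [NatIso.isIso_map_iff (Scheme.Modules.restrictStalkNatIso W.ι w),
        ConcreteCategory.isIso_iff_bijective]
      exact h _ w.2
    rw [ConcreteCategory.isIso_iff_bijective] at h2 ⊢
    exact h2
  exact (jointlyReflectIsos (W : Scheme.{u})).isIso _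

section Adj

variable {C : Type*} [Category* C] {D : Type*} [Category* D] {L : C ⥤ D} {R : D ⥤ C}
  (adj : L ⊣ R) {A B : C} (φ : A ⟶ B) [IsIso (L.map φ)] {Z : D}

include adj in
theorem adj_exists_ext (ψ : A ⟶ R.obj Z) : ∃ χ : B ⟶ R.obj Z, φ ≫ χ = ψ := by
  refine ⟨adj.homEquiv B _ (inv (L.map φ) ≫ (adj.homEquiv A _).symm ψ), ?_⟩
  rw [← adj.homEquiv_naturality_left, IsIso.hom_inv_id_assoc]
  exact (adj.homEquiv A _).apply_symm_apply ψ

include adj in
theorem adj_ext_unique (χ χ' : B ⟶ R.obj Z) (h : φ ≫ χ = φ ≫ χ') : χ = χ' := by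
  apply (adj.homEquiv B _).symm.injective
  rw [← cancel_epi (L.map φ), ← adj.homEquiv_naturality_left_symm,
    ← adj.homEquiv_naturality_left_symm, h]

end Adj

/-- extension along a map which is an isomorphism over `W`. -/
theorem exists_ext (W : X.Opens) {A B : X.Modules} (φ : A ⟶ B)
    (h : ∀ x ∈ W, Function.Bijective ((stalkF x).map φ)) (C : X.Modules)
    (ψ : A ⟶ (locF W).obj C) : ∃ χ : B ⟶ (locF W).obj C, φ ≫ χ = ψ := by
  have := isIso_restrict_of_stalk W φ h
  exact adj_exists_ext (Scheme.Modules.restrictAdjunction W.ι) φ ψ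

/-- uniqueness of extensions. -/
theorem ext_unique (W : X.Opens) {A B : X.Modules} (φ : A ⟶ B)
    (h : ∀ x ∈ W, Function.Bijective ((stalkF x).map φ)) {C : X.Modules}
    (χ χ' : B ⟶ (locF W).obj C) (hχ : φ ≫ χ = φ ≫ χ') : χ = χ' := by
  have := isIso_restrict_of_stalk W φ h
  exact adj_ext_unique (Scheme.Modules.restrictAdjunction W.ι) φ χ χ' hχ

end Stalk

end Groth.Agent.FormalB.BC
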