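import Groth.Agent.FormalB.BCLoc
import Groth.Agent.VarietyB.PullSec
import Groth.Agent.VarietyB.TensLoc
import Groth.Agent.Ega2.Tens

/-!
# The base change map `G ⊗ g^* f_* M ⟶ f'_* (f'^* G ⊗ g'^* M)`

For a commutative square `g' ≫ f = f' ≫ g`.
-/

set_option autoImplicit false
set_option linter.style.haveILetI false
universe u

open CategoryTheory CategoryTheory.Limits AlgebraicGeometry Opposite TopologicalSpace MonoidalCategory
open Groth.Agent.Dcoh.Stalk Groth.Agent.Ega2.Tens

namespace Groth.Agent.FormalB.BC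

variable {X S X' S' : Scheme.{u}} {f : X ⟶ S} {g : S' ⟶ S} {g' : X' ⟶ X} {f' : X' ⟶ S'}
  (w : g' ≫ f = f' ≫ g)

include w in
theorem preim_eq (V : S.Opens) : f' ⁻¹ᵁ g ⁻¹ᵁ V = g' ⁻¹ᵁ f ⁻¹ᵁ V := by
  rw [← Scheme.Hom.comp_preimage, ← Scheme.Hom.comp_preimage, w]

theorem app_comp_appLE (V : S.Opens) :
    f.app V ≫ g'.appLE (f ⁻¹ᵁ V) (f' ⁻¹ᵁ g ⁻¹ᵁ V) (preim_eq w V).le =
      g.app V ≫ f'.app (g ⁻¹ᵁ V) := by
  rw [Scheme.Hom.app_eq_appLE f, Scheme.Hom.appLE_comp_appLE, Scheme.Hom.app_eq_appLE g,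
    Scheme.Hom.app_eq_appLE f', Scheme.Hom.appLE_comp_appLE]
  simp only [w]

open VarietyB.PullSec

/-- the map `f_* M ⟶ g_* f'_* g'^* M`. -/
noncomputable def cMap (M : X.Modules) : (Scheme.Modules.pushforward f).obj M ⟶
    (Scheme.Modules.pushforward g).obj ((Scheme.Modules.pushforward f').obj
      ((Scheme.Modules.pullback g').obj M)) :=
  Fdesc.LocGen.mkHom (M := (Scheme.Modules.pushforward f).obj M)
    (N := (Scheme.Modules.pushforward g).obj ((Scheme.Modules.pushforward f').obj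
      ((Scheme.Modules.pullback g').obj M)))
    (fun V => sec g' M (U := f ⁻¹ᵁ V) (V := f' ⁻¹ᵁ g ⁻¹ᵁ V) (preim_eq w V).le)
    (fun V a m => by
      have h1 := sec_smul g' M (U := f ⁻¹ᵁ V) (V := f' ⁻¹ᵁ g ⁻¹ᵁ V) (preim_eq w V).le (f.app V a) m
      refine h1.trans ?_
      have h2 : g'.appLE (f ⁻¹ᵁ V) (f' ⁻¹ᵁ g ⁻¹ᵁ V) (preim_eq w V).le (f.app V a) =
          f'.app (g ⁻¹ᵁ V) (g.app V a) := congr($(app_comp_appLE w V) a)
      rw [h2]
      rfl)
    (fun U V hVU m => by
      have h1 := sec_res g' M (U := f ⁻¹ᵁ U) (V := f' ⁻¹ᵁ g ⁻¹ᵁ U) (preim_eq w U).le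
        (preim_eq w V).le (U' := f ⁻¹ᵁ V) (V' := f' ⁻¹ᵁ g ⁻¹ᵁ V)
        (f.preimage_mono hVU) (f'.preimage_mono (g.preimage_mono hVU)) m
      exact h1.symm)

theorem cMap_app (M : X.Modules) (V : S.Opens) (m : Γ(M, f ⁻¹ᵁ V)) :
    (cMap w M).app V m = sec g' M (U := f ⁻¹ᵁ V) (V := f' ⁻¹ᵁ g ⁻¹ᵁ V) (preim_eq w V).le m := rfl

theorem sec_naturality {A B : Scheme.{u}} (h : A ⟶ B) {M N : B.Modules} (φ : M ⟶ N)
    {U : B.Opens} {V : A.Opens} (e : V ≤ h ⁻¹ᵁ U) (s : Γ(M, U)) :
    ((Scheme.Modules.pullback h).map φ).app V (sec h M e s) = sec h N e (φ.app U s) := by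
  rw [sec_apply, sec_apply]
  have h1 := congr($(((Scheme.Modules.pullback h).map φ).mapPresheaf.naturality (homOfLE e).op)
    (((Scheme.Modules.pullbackPushforwardAdjunction h).unit.app M).app U s))
  refine Eq.trans h1 ?_
  have h2 := (Scheme.Modules.pullbackPushforwardAdjunction h).unit.naturality φ
  have h3 := congr(($h2).app U s)
  exact congrArg _ h3.symm

theorem cMap_naturality {M N : X.Modules} (φ : M ⟶ N) :
    (Scheme.Modules.pushforward f).map φ ≫ cMap w N =
      cMap w M ≫ (Scheme.Modules.pushforward g).map ((Scheme.Modules.pushforward f').map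
        ((Scheme.Modules.pullback g').map φ)) := by
  apply Scheme.Modules.hom_ext
  intro V
  ext s
  exact (sec_naturality g' φ (preim_eq w V).le s).symm

/-- the base change map `g^* f_* M ⟶ f'_* g'^* M`. -/
noncomputable def bc (M : X.Modules) :
    (Scheme.Modules.pullback g).obj ((Scheme.Modules.pushforward f).obj M) ⟶
    (Scheme.Modules.pushforward f').obj ((Scheme.Modules.pullback g').obj M) :=
  ((Scheme.Modules.pullbackPushforwardAdjunction g).homEquiv _ _).symm (cMap w M)

theorem bc_naturality {M N : X.Modules} (φ : M ⟶ N) :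
    (Scheme.Modules.pullback g).map ((Scheme.Modules.pushforward f).map φ) ≫ bc w N =
      bc w M ≫ (Scheme.Modules.pushforward f').map ((Scheme.Modules.pullback g').map φ) := by
  rw [bc, bc, ← Adjunction.homEquiv_naturality_left_symm,
    ← Adjunction.homEquiv_naturality_right_symm, cMap_naturality]

theorem unit_homEquiv_symm {C : Type*} [Category* C] {D : Type*} [Category* D] {L : C ⥤ D}
    {R : D ⥤ C} (adj : L ⊣ R) {A : C} {Z : D} (ψ : A ⟶ R.obj Z) :
    adj.unit.app A ≫ R.map ((adj.homEquiv A Z).symm ψ) = ψ := by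
  have h : adj.homEquiv A Z ((adj.homEquiv A Z).symm ψ) = ψ := Equiv.apply_symm_apply _ _
  rw [Adjunction.homEquiv_unit] at h
  exact h

/-- the base change map on sections. -/
theorem bc_app_sec (M : X.Modules) {V : S.Opens} {V' : S'.Opens} (e : V' ≤ g ⁻¹ᵁ V)
    (m : Γ(M, f ⁻¹ᵁ V)) :
    (bc w M).app V' (sec g ((Scheme.Modules.pushforward f).obj M) e m) =
      sec g' M (U := f ⁻¹ᵁ V) (V := f' ⁻¹ᵁ V')
        ((f'.preimage_mono e).trans (preim_eq w V).le) m := by
  have h1 : (Scheme.Modules.pullbackPushforwardAdjunction g).unit.app _ ≫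
      (Scheme.Modules.pushforward g).map (bc w M) = cMap w M :=
    unit_homEquiv_symm (Scheme.Modules.pullbackPushforwardAdjunction g) (cMap w M)
  have h2 := congr(($h1).app V m)
  rw [sec_apply]
  have h3 := congr($((bc w M).mapPresheaf.naturality (homOfLE e).op)
    (((Scheme.Modules.pullbackPushforwardAdjunction g).unit.app _).app V m))
  refine Eq.trans h3 ?_
  refine (congrArg _ h2).trans ?_
  have h4 := sec_res g' M (U := f ⁻¹ᵁ V) (V := f' ⁻¹ᵁ g ⁻¹ᵁ V) (preim_eq w V).le
    ((f'.preimage_mono e).trans (preim_eq w V).le) (U' := f ⁻¹ᵁ V) (V' := f' ⁻¹ᵁ V')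
    le_rfl (f'.preimage_mono e) m
  refine Eq.trans h4 ?_
  congr 1
  exact rs_self M le_rfl m

variable (G : S'.Modules)

/-- `M ↦ f'^* G ⊗ g'^* M`. -/
noncomputable abbrev PF (g' : X' ⟶ X) (f' : X' ⟶ S') (G : S'.Modules) : X.Modules ⥤ X'.Modules :=
  T g' ((Scheme.Modules.pullback f').obj G)

/-- the pairing defining the base change map. -/
noncomputable def bPair (M : X.Modules) (U : S'.Opens) :
    Γ(G, U) →ₗ[Γ(S', U)] Γ((Scheme.Modules.pullback g).obj ((Scheme.Modules.pushforward f).obj M), U)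
      →ₗ[Γ(S', U)] Γ((Scheme.Modules.pushforward f').obj ((PF g' f' G).obj M), U) :=
  LinearMap.mk₂ _ (fun y z => tmul (M := (Scheme.Modules.pullback f').obj G)
      (N := (Scheme.Modules.pullback g').obj M) (U := f' ⁻¹ᵁ U)
      (((Scheme.Modules.pullbackPushforwardAdjunction f').unit.app G).app U y)
      ((bc w M).app U z))
    (fun y y' z => by
      rw [map_add]
      exact add_tmul _ _ _)
    (fun a y z => by
      rw [Scheme.Modules.Hom.app_smul]
      exact smul_tmul (f'.app U a) _ _)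
    (fun y z z' => by
      rw [map_add]
      exact tmul_add _ _ _)
    (fun a y z => by
      rw [Scheme.Modules.Hom.app_smul]
      exact tmul_smul (f'.app U a) _ _)

theorem bPair_apply (M : X.Modules) (U : S'.Opens) (y : Γ(G, U)) (z) :
    bPair w G M U y z = tmul (M := (Scheme.Modules.pullback f').obj G)
      (N := (Scheme.Modules.pullback g').obj M) (U := f' ⁻¹ᵁ U)
      (((Scheme.Modules.pullbackPushforwardAdjunction f').unit.app G).app U y)
      ((bc w M).app U z) := rfl

theorem app_map {M N : X.Modules} (φ : M ⟶ N) {U V : X.Opens} (i : V ⟶ U) (s : Γ(M, U)) :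
    φ.app V (M.presheaf.map i.op s) = N.presheaf.map i.op (φ.app U s) :=
  congr($(φ.mapPresheaf.naturality i.op) s)

/-- the base change map `G ⊗ g^* f_* M ⟶ f'_* (f'^* G ⊗ g'^* M)`. -/
noncomputable def bApp (M : X.Modules) : (T g G).obj ((Scheme.Modules.pushforward f).obj M) ⟶
    (Scheme.Modules.pushforward f').obj ((PF g' f' G).obj M) :=
  lift (bPair w G M) (fun U V i m n => by
    refine (tmul_res ((Opens.map f'.base).map i) _ _).trans ?_
    exact congrArg₂ (fun a c => tmul (M := (Scheme.Modules.pullback f').obj G)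
      (N := (Scheme.Modules.pullback g').obj M) (U := f' ⁻¹ᵁ V) a c)
      (app_map ((Scheme.Modules.pullbackPushforwardAdjunction f').unit.app G) i m).symm
      (app_map (bc w M) i n).symm)

theorem bApp_tmul (M : X.Modules) (U : S'.Opens) (y : Γ(G, U)) (z) :
    (bApp w G M).app U (tmul y z) = tmul (M := (Scheme.Modules.pullback f').obj G)
      (N := (Scheme.Modules.pullback g').obj M) (U := f' ⁻¹ᵁ U)
      (((Scheme.Modules.pullbackPushforwardAdjunction f').unit.app G).app U y)
      ((bc w M).app U z) :=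
  lift_tmul _ _ _ _ _

theorem T_map_tmul {A B : Scheme.{u}} (h : A ⟶ B) (G : A.Modules) {E E' : B.Modules} (φ : E ⟶ E')
    (U : A.Opens) (y : Γ(G, U)) (z : Γ((Scheme.Modules.pullback h).obj E, U)) :
    ((T h G).map φ).app U (tmul y z) = tmul y (((Scheme.Modules.pullback h).map φ).app U z) :=
  VarietyB.TensLoc.tensorBi_map_app_tmul G ((Scheme.Modules.pullback h).map φ) y z

/-- the base change map as a natural transformation. -/
noncomputable def b : Scheme.Modules.pushforward f ⋙ T g G ⟶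
    PF g' f' G ⋙ Scheme.Modules.pushforward f' where
  app M := bApp w G M
  naturality M N φ := by
    refine hom_ext (M := G)
      (N := (Scheme.Modules.pullback g).obj ((Scheme.Modules.pushforward f).obj M)) _ _
      fun U y z => ?_
    have h1 := T_map_tmul g G ((Scheme.Modules.pushforward f).map φ) U y z
    have h2 := congr(($(bc_naturality w φ)).app U z)
    have h3 := bApp_tmul w G N U y
      (((Scheme.Modules.pullback g).map ((Scheme.Modules.pushforward f).map φ)).app U z)
    have h4 := bApp_tmul w G M U y z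
    refine Eq.trans (congrArg (fun t => (bApp w G N).app U t) h1) (h3.trans ?_)
    refine Eq.trans ?_ (congrArg (fun t => ((PF g' f' G).map φ).app (f' ⁻¹ᵁ U) t) h4.symm)
    refine Eq.trans ?_ (T_map_tmul g' ((Scheme.Modules.pullback f').obj G) φ (f' ⁻¹ᵁ U)
      (((Scheme.Modules.pullbackPushforwardAdjunction f').unit.app G).app U y)
      ((bc w M).app U z)).symm
    exact congrArg _ h2

/-- the base change map on explicit sections. -/
theorem b_app_tmul_sec (M : X.Modules) {V : S.Opens} {V' : S'.Opens} (e : V' ≤ g ⁻¹ᵁ V)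
    (y : Γ(G, V')) (m : Γ(M, f ⁻¹ᵁ V)) :
    ((b w G).app M).app V' (tmul y (sec g ((Scheme.Modules.pushforward f).obj M) e m)) =
      tmul (M := (Scheme.Modules.pullback f').obj G)
      (N := (Scheme.Modules.pullback g').obj M) (U := f' ⁻¹ᵁ V')
      (sec f' G (U := V') (V := f' ⁻¹ᵁ V') le_rfl y)
      (sec g' M (U := f ⁻¹ᵁ V) (V := f' ⁻¹ᵁ V')
        ((f'.preimage_mono e).trans (preim_eq w V).le) m) := by
  refine (bApp_tmul w G M V' y _).trans ?_
  rw [bc_app_sec]
  congr 1
  exact (rs_self _ le_rfl _).symm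

end Groth.Agent.FormalB.BC
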