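import Groth.Agent.FormalB.BCMap

/-!
# The comparison maps over the opens of `X`

For an open `W` of `X`, the natural transformation
`ϕ W : G ⊗ g^* f_* (M_W) ⟶ f'_* ((f'^* G ⊗ g'^* M)_{g'⁻¹ W})`, where `M_W = j_* j^* M`.
-/

set_option autoImplicit false
set_option linter.style.haveILetI false
universe u

open CategoryTheory CategoryTheory.Limits AlgebraicGeometry Opposite TopologicalSpace MonoidalCategory
open Groth.Agent.Dcoh.Stalk Groth.Agent.Ega2.Tens

namespace Groth.Agent.FormalB.BC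

section

variable {X Y : Scheme.{u}} (h : X ⟶ Y) (G : X.Modules)

theorem bijective_mapSt {E E' : Y.Modules} (φ : E ⟶ E') (x : X)
    (hφ : Function.Bijective ((stalkF (h.base x)).map φ)) :
    Function.Bijective (mapSt h G x φ) := by
  letI := FlatMod.moduleStalkOver h G x
  exact (LinearEquiv.lTensor (G.presheaf.stalk x)
    (LinearEquiv.ofBijective ((stalkF (h.base x)).map φ).hom hφ)).bijective

theorem bijective_stalk_T_map {E E' : Y.Modules} (φ : E ⟶ E') (x : X)
    (hφ : Function.Bijective ((stalkF (h.base x)).map φ)) :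
    Function.Bijective ((stalkF x).map ((T h G).map φ)) := by
  have h1 : ((stalkF x).map ((T h G).map φ)) ∘ (stalkEquiv h G E x) =
      (stalkEquiv h G E' x) ∘ (mapSt h G x φ) :=
    funext fun t => stalkEquiv_naturality h G x φ t
  have h2 : Function.Bijective (((stalkF x).map ((T h G).map φ)) ∘ (stalkEquiv h G E x)) := by
    rw [h1]
    exact (stalkEquiv h G E' x).bijective.comp (bijective_mapSt h G φ x hφ)
  exact (Function.Bijective.of_comp_iff _ (stalkEquiv h G E x).bijective).1 h2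

theorem bijective_stalk_push_eta (f : X ⟶ Y) (W : X.Opens) (O : Y.Opens) (hO : f ⁻¹ᵁ O ≤ W)
    (M : X.Modules) (y : Y) (hy : y ∈ O) :
    Function.Bijective ((stalkF y).map ((Scheme.Modules.pushforward f).map (eta W M))) := by
  constructor
  · rw [injective_iff_map_eq_zero]
    intro m hm
    obtain ⟨U, hU, s, rfl⟩ := TopCat.Presheaf.exists_germ_eq
      ((Scheme.Modules.pushforward f).obj M).presheaf m
    replace hm := (map_germ ((Scheme.Modules.pushforward f).map (eta W M)) U y hU s).symm.trans hm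
    obtain ⟨V, hV, hxV, h0⟩ := exists_rs_eq_zero ((Scheme.Modules.pushforward f).obj
      ((locF W).obj M)) hU _ hm
    have hle : f ⁻¹ᵁ (V ⊓ O) ≤ lo W (f ⁻¹ᵁ V) := by
      rw [lo_eq]
      exact le_inf ((f.preimage_mono inf_le_right).trans hO) (f.preimage_mono inf_le_left)
    have h1 : rs M (hle.trans ((lo_le_right W (f ⁻¹ᵁ V)).trans (f.preimage_mono hV))) s = 0 := by
      have h2 : rs M ((lo_le_right W (f ⁻¹ᵁ V)).trans (f.preimage_mono hV)) s = 0 :=
        (rs_rs M (lo_le_right W (f ⁻¹ᵁ U)) (lo_mono le_rfl (f.preimage_mono hV)) s).symm.trans h0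
      have h3 := rs_rs M ((lo_le_right W (f ⁻¹ᵁ V)).trans (f.preimage_mono hV)) hle s
      rw [h2, map_zero] at h3
      exact h3.symm
    exact (germ_rs ((Scheme.Modules.pushforward f).obj M) (inf_le_left.trans hV : V ⊓ O ≤ U) y
      ⟨hxV, hy⟩ s).symm.trans
      ((congrArg (((Scheme.Modules.pushforward f).obj M).presheaf.germ (V ⊓ O) y ⟨hxV, hy⟩)
        h1).trans (map_zero _))
  · intro m
    obtain ⟨U, hU, s, rfl⟩ := TopCat.Presheaf.exists_germ_eq
      ((Scheme.Modules.pushforward f).obj ((locF W).obj M)).presheaf m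
    have hle : f ⁻¹ᵁ (U ⊓ O) ≤ lo W (f ⁻¹ᵁ U) := by
      rw [lo_eq]
      exact le_inf ((f.preimage_mono inf_le_right).trans hO) (f.preimage_mono inf_le_left)
    refine ⟨((Scheme.Modules.pushforward f).obj M).presheaf.germ (U ⊓ O) y ⟨hU, hy⟩
      (rs M hle s), ?_⟩
    refine (map_germ ((Scheme.Modules.pushforward f).map (eta W M)) (U ⊓ O) y ⟨hU, hy⟩
      (rs M hle s)).trans ?_
    refine Eq.trans ?_ (germ_rs ((Scheme.Modules.pushforward f).obj ((locF W).obj M))
      (inf_le_left : U ⊓ O ≤ U) y ⟨hU, hy⟩ s)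
    refine congrArg (((Scheme.Modules.pushforward f).obj ((locF W).obj M)).presheaf.germ
      (U ⊓ O) y ⟨hU, hy⟩) ?_
    exact rs_rs M hle (lo_le_right W (f ⁻¹ᵁ (U ⊓ O))) s

end

section

variable {X' X : Scheme.{u}} (g' : X' ⟶ X) (H : X'.Modules) (W : X.Opens)

theorem bijective_stalk_T_eta (M : X.Modules) (x' : X') (hx : x' ∈ g' ⁻¹ᵁ W) :
    Function.Bijective ((stalkF x').map ((T g' H).map (eta W M))) :=
  bijective_stalk_T_map g' H (eta W M) x' (bijective_stalk_eta W M _ hx)

/-- the comparison `H ⊗ g'^* (M_W) ⟶ (H ⊗ g'^* M)_{g'⁻¹ W}`. -/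
noncomputable def uApp (M : X.Modules) :
    (T g' H).obj ((locF W).obj M) ⟶ (locF (g' ⁻¹ᵁ W)).obj ((T g' H).obj M) :=
  (exists_ext (g' ⁻¹ᵁ W) ((T g' H).map (eta W M)) (bijective_stalk_T_eta g' H W M) _
    (eta (g' ⁻¹ᵁ W) ((T g' H).obj M))).choose

theorem eta_uApp (M : X.Modules) : (T g' H).map (eta W M) ≫ uApp g' H W M =
    eta (g' ⁻¹ᵁ W) ((T g' H).obj M) :=
  (exists_ext (g' ⁻¹ᵁ W) ((T g' H).map (eta W M)) (bijective_stalk_T_eta g' H W M) _
    (eta (g' ⁻¹ᵁ W) ((T g' H).obj M))).choose_spec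

theorem uApp_naturality {M N : X.Modules} (φ : M ⟶ N) :
    (T g' H).map ((locF W).map φ) ≫ uApp g' H W N =
      uApp g' H W M ≫ (locF (g' ⁻¹ᵁ W)).map ((T g' H).map φ) := by
  apply ext_unique (g' ⁻¹ᵁ W) ((T g' H).map (eta W M)) (bijective_stalk_T_eta g' H W M)
  rw [← Category.assoc, ← (T g' H).map_comp, ← eta_naturality, (T g' H).map_comp, Category.assoc,
    eta_uApp, ← Category.assoc, eta_uApp, eta_naturality]

theorem uApp_resL {W₁ W₂ : X.Opens} (h : W₁ ≤ W₂) (M : X.Modules) :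
    (T g' H).map ((resL h).app M) ≫ uApp g' H W₁ M =
      uApp g' H W₂ M ≫ (resL (g'.preimage_mono h)).app ((T g' H).obj M) := by
  apply ext_unique (g' ⁻¹ᵁ W₁) ((T g' H).map (eta W₂ M))
    (fun x hx => bijective_stalk_T_eta g' H W₂ M x (g'.preimage_mono h hx))
  rw [← Category.assoc, ← (T g' H).map_comp, eta_resL, eta_uApp, ← Category.assoc, eta_uApp,
    eta_resL]

end

section

variable {X S X' S' : Scheme.{u}} {f : X ⟶ S} {g : S' ⟶ S} {g' : X' ⟶ X} {f' : X' ⟶ S'}
  (w : g' ≫ f = f' ≫ g) (G : S'.Modules)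

/-- `M ↦ G ⊗ g^* f_* M_W`. -/
noncomputable abbrev Phi (f : X ⟶ S) (g : S' ⟶ S) (G : S'.Modules) (W : X.Opens) :
    X.Modules ⥤ S'.Modules :=
  locF W ⋙ Scheme.Modules.pushforward f ⋙ T g G

/-- `N ↦ f'_* (N_{g'⁻¹ W})`. -/
noncomputable abbrev Psi (g' : X' ⟶ X) (f' : X' ⟶ S') (W : X.Opens) : X'.Modules ⥤ S'.Modules :=
  locF (g' ⁻¹ᵁ W) ⋙ Scheme.Modules.pushforward f'

/-- the comparison map. -/
noncomputable def phiApp (W : X.Opens) (M : X.Modules) :
    (Phi f g G W).obj M ⟶ (Psi g' f' W).obj ((PF g' f' G).obj M) :=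
  (b w G).app ((locF W).obj M) ≫ (Scheme.Modules.pushforward f').map (uApp g' _ W M)

theorem b_nat {M N : X.Modules} (φ : M ⟶ N) :
    (T g G).map ((Scheme.Modules.pushforward f).map φ) ≫ (b w G).app N =
      (b w G).app M ≫ (Scheme.Modules.pushforward f').map ((PF g' f' G).map φ) :=
  (b w G).naturality φ

theorem phiApp_naturality (W : X.Opens) {M N : X.Modules} (φ : M ⟶ N) :
    (Phi f g G W).map φ ≫ phiApp w G W N =
      phiApp w G W M ≫ (Psi g' f' W).map ((PF g' f' G).map φ) := by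
  have h1 := b_nat w G ((locF W).map φ)
  have h2 := congrArg (Scheme.Modules.pushforward f').map
    (uApp_naturality g' ((Scheme.Modules.pullback f').obj G) W φ)
  rw [Functor.map_comp, Functor.map_comp] at h2
  rw [phiApp, phiApp]
  refine (Category.assoc _ _ _).symm.trans ?_
  refine (congrArg (· ≫ _) h1).trans ?_
  refine (Category.assoc _ _ _).trans ?_
  refine (congrArg (_ ≫ ·) h2).trans ?_
  exact (Category.assoc _ _ _).symm

theorem phiApp_resL {W₁ W₂ : X.Opens} (h : W₁ ≤ W₂) (M : X.Modules) :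
    (T g G).map ((Scheme.Modules.pushforward f).map ((resL h).app M)) ≫ phiApp w G W₁ M =
      phiApp w G W₂ M ≫ (Scheme.Modules.pushforward f').map
        ((resL (g'.preimage_mono h)).app ((PF g' f' G).obj M)) := by
  have h1 := b_nat w G ((resL h).app M)
  have h2 := congrArg (Scheme.Modules.pushforward f').map
    (uApp_resL g' ((Scheme.Modules.pullback f').obj G) h M)
  rw [Functor.map_comp, Functor.map_comp] at h2
  rw [phiApp, phiApp]
  refine (Category.assoc _ _ _).symm.trans ?_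
  refine (congrArg (· ≫ _) h1).trans ?_
  refine (Category.assoc _ _ _).trans ?_
  refine (congrArg (_ ≫ ·) h2).trans ?_
  exact (Category.assoc _ _ _).symm

theorem b_phiApp (W : X.Opens) (M : X.Modules) :
    (T g G).map ((Scheme.Modules.pushforward f).map (eta W M)) ≫ phiApp w G W M =
      (b w G).app M ≫ (Scheme.Modules.pushforward f').map
        (eta (g' ⁻¹ᵁ W) ((PF g' f' G).obj M)) := by
  have h1 := b_nat w G (eta W M)
  have h2 := congrArg (Scheme.Modules.pushforward f').map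
    (eta_uApp g' ((Scheme.Modules.pullback f').obj G) W M)
  rw [Functor.map_comp] at h2
  rw [phiApp]
  refine (Category.assoc _ _ _).symm.trans ?_
  refine (congrArg (· ≫ _) h1).trans ?_
  refine (Category.assoc _ _ _).trans ?_
  exact (congrArg (_ ≫ ·) h2)

end

end Groth.Agent.FormalB.BC
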