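import Groth.Agent.CohqA.AffineVanish
import Groth.Agent.CohqB.ToSheafExact
import Groth.Agent.CohtopA.Flasque
import Groth.Agent.Etrest.RAcyc
import Groth.Agent.Ega3B.InjMod
import Groth.Agent.FormalB.BCNat
import Groth.Agent.FormalB.BCAbs

/-!
# Sections of injective resolutions over affine opens

For `N` quasi-coherent, `K` an injective resolution of `N` and `Q` affine, the complex
`0 ⟶ N(Q) ⟶ K⁰(Q) ⟶ K¹(Q) ⟶ ⋯` is exact; consequences for the stalks of `h_* (K_W)`.
-/

set_option autoImplicit false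
set_option linter.style.haveILetI false
universe u

open CategoryTheory CategoryTheory.Limits AlgebraicGeometry Opposite TopologicalSpace MonoidalCategory
open Groth.Agent.Dcoh.Stalk

namespace Groth.Agent.FormalB.BC

variable {X Y : Scheme.{u}}

/-- sections over an open, as a functor to abelian groups. -/
noncomputable abbrev evF (Q : X.Opens) : X.Modules ⥤ AddCommGrpCat.{u} :=
  Scheme.Modules.toPresheaf X ⋙ (evaluation _ _).obj (op Q)

instance (Q : X.Opens) : (evF Q).Additive := ⟨rfl⟩

instance (Q : X.Opens) : PreservesFiniteLimits (evF Q) := by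
  have h1 : PreservesFiniteLimits (Scheme.Modules.toPresheaf X) :=
    PreservesLimits.preservesFiniteLimits _
  have h2 : PreservesFiniteLimits ((evaluation (X.Opens)ᵒᵖ Ab.{u}).obj (op Q)) :=
    ⟨fun J _ _ => inferInstance⟩
  exact comp_preservesFiniteLimits _ _

open CohqA.SheafH in
/-- acyclicity over an open. -/
def Acy (Q : X.Opens) (M : X.Modules) : Prop :=
  ∀ (n : ℕ) (x : HU (Coh.toAb M) (n + 1) Q), x = 0

theorem acy_of_isQCoh (M : X.Modules) (hM : Coh.IsQCoh M) (Q : X.Opens) (hQ : IsAffineOpen Q) :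
    Acy Q M := by
  have : M.IsQuasicoherent := hM
  exact fun n x => CohqA.AffineVanish.HU_eq_zero M n Q hQ x

theorem acy_of_injective (M : X.Modules) [Injective M] (Q : X.Opens) : Acy Q M := by
  have := Ega3B.InjMod.isFlasque_of_injective M
  exact fun n x => CohtopA.Flasque.ext_succ_eq_zero_of_isFlasque (Coh.toAb M) Q n x

open CohqA.SheafH in
theorem acy_X₃ {S : ShortComplex X.Modules} (hS : S.ShortExact) (Q : X.Opens)
    (h1 : Acy Q S.X₁) (h2 : Acy Q S.X₂) : Acy Q S.X₃ := by
  intro n x
  obtain ⟨y, rfl⟩ := exact₃ (CohqB.ToSheafExact.shortExact_toAb hS) (n + 1) Q x (h1 _ _)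
  rw [h2 n y]
  exact map_zero _

open CohqA.SheafH in
theorem surjective_of_acy {S : ShortComplex X.Modules} (hS : S.ShortExact) (Q : X.Opens)
    (h1 : Acy Q S.X₁) : Function.Surjective (S.g.app Q) := by
  intro s
  have : Subsingleton (HU (S.map (CohqB.ToSheafExact.toAbF X)).X₁ 1 Q) :=
    subsingleton_of_forall_eq 0 (h1 0)
  exact exists_lift_of_H1_eq_zero (CohqB.ToSheafExact.shortExact_toAb hS) Q s

/-- sections of an injective resolution over an open where the module is acyclic. -/
theorem exactAt_ev {N : X.Modules} (K : InjectiveResolution N) (Q : X.Opens) (hN : Acy Q N)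
    (n : ℕ) : (((evF Q).mapHomologicalComplex (ComplexShape.up ℕ)).obj K.cocomplex).ExactAt
      (n + 1) := by
  refine Etrest.RAcyc.exactAt_of_class (evF Q) (Acy Q) (fun S hS hI h1 => ?_) hN K n
  refine ⟨acy_X₃ hS Q h1 (acy_of_injective S.X₂ Q), ?_⟩
  rw [AddCommGrpCat.epi_iff_surjective]
  exact surjective_of_acy hS Q h1

theorem exists_d_eq {N : X.Modules} (K : InjectiveResolution N) (Q : X.Opens) (hN : Acy Q N)
    (n : ℕ) (z : Γ(K.cocomplex.X (n + 1), Q))
    (hz : (K.cocomplex.d (n + 1) (n + 2)).app Q z = 0) :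
    ∃ y : Γ(K.cocomplex.X n, Q), (K.cocomplex.d n (n + 1)).app Q y = z := by
  have h := exactAt_ev K Q hN n
  rw [HomologicalComplex.exactAt_iff' _ n (n + 1) (n + 2) (by simp) (by simp),
    ShortComplex.ab_exact_iff] at h
  exact h z hz

theorem exists_ι_eq {N : X.Modules} (K : InjectiveResolution N) (Q : X.Opens)
    (z : Γ(K.cocomplex.X 0, Q)) (hz : (K.cocomplex.d 0 1).app Q z = 0) :
    ∃ y : Γ(N, Q), (K.ι.f 0).app Q y = z := by
  have h := K.exact₀.map_of_mono_of_preservesKernel (evF Q) inferInstance inferInstance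
  rw [ShortComplex.ab_exact_iff] at h
  exact h z hz

theorem injective_ι {N : X.Modules} (K : InjectiveResolution N) (Q : X.Opens) :
    Function.Injective ((K.ι.f 0).app Q) := by
  have h1 : Mono (K.ι.f 0) := inferInstance
  have h2 : Mono ((evF Q).map (K.ι.f 0)) := inferInstance
  rwa [AddCommGrpCat.mono_iff_injective] at h2

end Groth.Agent.FormalB.BC
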