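import Groth.Agent.FormalB.BCBase

/-!
# The comparison map over an affine open is bijective on stalks
-/

set_option autoImplicit false
set_option linter.style.haveILetI false
universe u

open CategoryTheory CategoryTheory.Limits AlgebraicGeometry Opposite TopologicalSpace MonoidalCategory
open TensorProduct
open Groth.Agent.Dcoh.Stalk
open Groth.Agent.VarietyB.PullSec

namespace Groth.Agent.FormalB.BC

section

variable {X S X' S' : Scheme.{u}} {f : X ⟶ S} {g : S' ⟶ S} {g' : X' ⟶ X} {f' : X' ⟶ S'}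
  (H : IsPullback g' f' f g) (G : S'.Modules) (F : X.Modules)
  {V : S.Opens} {V' V'' : S'.Opens} {W : X.Opens} (e : V' ≤ g ⁻¹ᵁ V) (hW : W ≤ f ⁻¹ᵁ V)

theorem rs_alpha (h : V'' ≤ V') (z : TP G F e hW) :
    rs ((Phi f g G W).obj F) h (alpha G F e hW z) =
      alpha G F (h.trans e) hW (resTP G F e hW h z) := by
  induction z using TP_induction with
  | h0 => rw [map_zero, map_zero, map_zero, map_zero]
  | h2 a b ha hb => rw [map_add, map_add, ha, hb, map_add, map_add]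
  | h1 y m =>
    rw [resTP_tmul, alpha_tmul, alpha_tmul]
    refine (rs_tmul _ _ _ _ _).trans ?_
    refine congrArg (fun t => Ega2.Tens.tmul (M := G) (N := (Scheme.Modules.pullback g).obj
        ((Scheme.Modules.pushforward f).obj ((locF W).obj F))) (U := V'') (rs G h y) t) ?_
    refine (rs_sec g _ e (h.trans e) le_rfl h _).trans ?_
    rw [rs_self]

theorem lo_le_Qo : lo (g' ⁻¹ᵁ W) (f' ⁻¹ᵁ V') ≤ Qo g' f' W V' := (lo_eq _ _).le

theorem Qo_le_lo : Qo g' f' W V' ≤ lo (g' ⁻¹ᵁ W) (f' ⁻¹ᵁ V') := (lo_eq _ _).ge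

theorem phiApp_alpha (w : g' ≫ f = f' ≫ g)
    (θ : TP G F e hW ≃+ Γ((PF g' f' G).obj F, Qo g' f' W V'))
    (hθ : ∀ y m, θ (toGV g G e y ⊗ₜ toGV f F hW m) = Ega2.Tens.tmul
        (M := (Scheme.Modules.pullback f').obj G)
        (N := (Scheme.Modules.pullback g').obj F) (U := Qo g' f' W V')
        (sec f' G inf_le_right y) (sec g' F inf_le_left m)) (z : TP G F e hW) :
    (phiApp w G W F).app V' (alpha G F e hW z) =
      rs ((PF g' f' G).obj F) lo_le_Qo (θ z) := by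
  induction z using TP_induction with
  | h0 =>
    rw [map_zero, map_zero, map_zero, map_zero]
    rfl
  | h2 a b ha hb =>
    rw [map_add, map_add, map_add, ha, hb, map_add]
    rfl
  | h1 y m =>
    rw [hθ, alpha_tmul]
    refine (phiApp_tmul_sec w G W F e y _).trans ?_
    refine Eq.trans ?_ (rs_tmul _ _ _ _ _).symm
    have h1 : rs ((Scheme.Modules.pullback f').obj G) (lo_le_Qo (g' := g') (W := W))
        (sec f' G inf_le_right y) = sec f' G (lo_le_right _ _) y := by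
      refine (rs_sec f' G _ (lo_le_right _ _) le_rfl _ _).trans ?_
      rw [rs_self]
    have h2 : rs ((Scheme.Modules.pullback g').obj F) (lo_le_Qo (f' := f') (V' := V'))
        (sec g' F inf_le_left m) = sec g' F (lo_le_aux w W e)
          (rs F (lo_le_left W (f ⁻¹ᵁ V)) m) :=
      rs_sec g' F _ _ _ _ _
    rw [h1, h2]
    rfl

include H in
theorem surjective_stalk_phiApp (hV : IsAffineOpen V) (hWa : IsAffineOpen W)
    (hG : Coh.IsQCoh G) (hF : Coh.IsQCoh F) (s' : S') (hs : g.base s' ∈ V)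
    (hW : W ≤ f ⁻¹ᵁ V) :
    Function.Surjective ((stalkF s').map (phiApp H.w G W F)) := by
  intro t
  obtain ⟨O', hO', s, rfl⟩ := TopCat.Presheaf.exists_germ_eq
    ((Psi g' f' W).obj ((PF g' f' G).obj F)).presheaf t
  obtain ⟨V', hV', hsV', hle⟩ := exists_isAffineOpen_mem_and_subset
    (show s' ∈ O' ⊓ g ⁻¹ᵁ V from ⟨hO', hs⟩)
  have hle' : V' ≤ O' ⊓ g ⁻¹ᵁ V := hle
  have e : V' ≤ g ⁻¹ᵁ V := hle'.trans inf_le_right
  obtain ⟨θ, hθ⟩ := exists_theta' H G F e hW hV hV' hWa hG hF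
  let s₁ : Γ((PF g' f' G).obj F, lo (g' ⁻¹ᵁ W) (f' ⁻¹ᵁ V')) :=
    rs ((Psi g' f' W).obj ((PF g' f' G).obj F)) (hle'.trans inf_le_left) s
  obtain ⟨z, hz⟩ := θ.surjective (rs ((PF g' f' G).obj F) Qo_le_lo s₁)
  refine ⟨((Phi f g G W).obj F).presheaf.germ V' s' hsV' (alpha G F e hW z), ?_⟩
  refine (map_germ (phiApp H.w G W F) V' s' hsV' _).trans ?_
  refine (congrArg _ (phiApp_alpha G F e hW H.w θ hθ z)).trans ?_
  rw [hz, rs_rs, rs_self]
  exact germ_rs _ (hle'.trans inf_le_left) s' hsV' s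

/-- the stalk elements of `f_* F_W` are fractions. -/
theorem exists_upW_germ (hV : IsAffineOpen V) (hWa : IsAffineOpen W)
    (hF : Coh.IsQCoh F) (s : S) (hs : s ∈ V) (hW : W ≤ f ⁻¹ᵁ V)
    (t : ((Scheme.Modules.pushforward f).obj ((locF W).obj F)).presheaf.stalk s) :
    ∃ (a : S.presheaf.stalk s) (m : Γ(F, W)), IsUnit a ∧
      ((Scheme.Modules.pushforward f).obj ((locF W).obj F)).presheaf.germ V s hs
        (upW (f := f) F (V := V) m) = a • t := by
  obtain ⟨O, hO, x, rfl⟩ := TopCat.Presheaf.exists_germ_eq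
    ((Scheme.Modules.pushforward f).obj ((locF W).obj F)).presheaf t
  obtain ⟨a, haO, hsa⟩ := hV.exists_basicOpen_le ⟨s, hO⟩ hs
  have hb : X.basicOpen (f.appLE V W hW a) = W ⊓ f ⁻¹ᵁ (S.basicOpen a) := by
    rw [Scheme.Hom.appLE, CommRingCat.comp_apply, Scheme.basicOpen_res,
      Scheme.preimage_basicOpen]
  have hb1 : X.basicOpen (f.appLE V W hW a) ≤ lo W (f ⁻¹ᵁ (S.basicOpen a)) := by
    rw [lo_eq, hb]
  have hb2 : lo W (f ⁻¹ᵁ (S.basicOpen a)) ≤ X.basicOpen (f.appLE V W hW a) := by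
    rw [lo_eq, hb]
  let x₁ : Γ(F, lo W (f ⁻¹ᵁ (S.basicOpen a))) :=
    rs ((Scheme.Modules.pushforward f).obj ((locF W).obj F)) haO x
  obtain ⟨n, m, hm⟩ := Fdesc.QCohStalk.exists_map_eq_pow_smul F hWa hF (f.appLE V W hW a)
    (rs F hb1 x₁)
  refine ⟨(S.presheaf.germ V s hs a) ^ n, m, ?_, ?_⟩
  · exact ((S.mem_basicOpen a s hs).mp hsa).pow n
  · have key : rs ((Scheme.Modules.pushforward f).obj ((locF W).obj F)) (S.basicOpen_le a)
        (upW (f := f) F (V := V) m) =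
        (HSMul.hSMul (α := Γ(S, S.basicOpen a))
          (β := Γ((Scheme.Modules.pushforward f).obj ((locF W).obj F), S.basicOpen a))
          ((S.presheaf.map (homOfLE (S.basicOpen_le a)).op a) ^ n) x₁) := by
      refine Eq.trans ?_ (locF_smul W F (f ⁻¹ᵁ (S.basicOpen a)) (f.app (S.basicOpen a)
        ((S.presheaf.map (homOfLE (S.basicOpen_le a)).op a) ^ n)) x₁).symm
      have h1 : rs F hb2 (rs F (X.basicOpen_le _) m) = rs F hb2
        ((X.presheaf.map (homOfLE (X.basicOpen_le (f.appLE V W hW a))).op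
          (f.appLE V W hW a)) ^ n • rs F hb1 x₁) := congrArg _ hm
      rw [rs_smul, rs_rs, rs_rs, rs_self] at h1
      refine (rs_rs F (lo_le_left W (f ⁻¹ᵁ V)) (lo_mono le_rfl (f.preimage_mono
        (S.basicOpen_le a))) m).trans (h1.trans ?_)
      congr 1
      rw [map_pow, map_pow, map_pow]
      congr 1
      rw [Scheme.Hom.app_eq_appLE, ← CommRingCat.comp_apply, ← CommRingCat.comp_apply,
        ← CommRingCat.comp_apply, ← CommRingCat.comp_apply]
      simp only [Scheme.Hom.map_appLE, Scheme.Hom.appLE_map, ← Category.assoc]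
    have h3 : ((Scheme.Modules.pushforward f).obj ((locF W).obj F)).presheaf.germ O s hO x =
        ((Scheme.Modules.pushforward f).obj ((locF W).obj F)).presheaf.germ _ s hsa x₁ :=
      (germ_rs _ haO s hsa x).symm
    have h4 : S.presheaf.germ V s hs a ^ n = S.presheaf.germ _ s hsa
        ((S.presheaf.map (homOfLE (S.basicOpen_le a)).op a) ^ n) := by
      rw [map_pow, Fdesc.QCohStalk.ring_germ_map]
    rw [h3, h4, ← Fdesc.QCohStalk.germ_smul', ← key]
    exact (germ_rs _ (S.basicOpen_le a) s hsa _).symm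

/-- moving units through a pure tensor. -/
theorem pure_smul (x : S') {E : S.Modules} (a : S.presheaf.stalk (g.base x)) (ha : IsUnit a)
    (y : G.presheaf.stalk x) (t : E.presheaf.stalk (g.base x)) :
    ∃ y' : G.presheaf.stalk x, pure g G E x y t = pure g G E x y' (a • t) := by
  letI := FlatMod.moduleStalkOver g G x
  obtain ⟨u, rfl⟩ := ha
  refine ⟨(↑u⁻¹ : S.presheaf.stalk (g.base x)) • y, ?_⟩
  change y ⊗ₜ[S.presheaf.stalk (g.base x)] t =
    ((↑u⁻¹ : S.presheaf.stalk (g.base x)) • y) ⊗ₜ[S.presheaf.stalk (g.base x)] (u.1 • t)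
  rw [TensorProduct.smul_tmul, smul_smul, Units.inv_mul, one_smul]

/-- every stalk element of `G ⊗ g^* f_* F_W` comes from `TP`. -/
theorem exists_alpha_germ (hV : IsAffineOpen V) (hWa : IsAffineOpen W)
    (hF : Coh.IsQCoh F) (s' : S') (hs : g.base s' ∈ V) (hW : W ≤ f ⁻¹ᵁ V)
    (t : ((Phi f g G W).obj F).presheaf.stalk s') :
    ∃ (V' : S'.Opens) (e : V' ≤ g ⁻¹ᵁ V) (hs' : s' ∈ V') (z : TP G F e hW), IsAffineOpen V' ∧
      t = ((Phi f g G W).obj F).presheaf.germ V' s' hs' (alpha G F e hW z) := by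
  obtain ⟨t, rfl⟩ := (stalkEquiv g G ((Scheme.Modules.pushforward f).obj
    ((locF W).obj F)) s').surjective t
  induction t using st_induction with
  | h0 =>
    obtain ⟨V', hV', hsV', hle⟩ := exists_isAffineOpen_mem_and_subset
      (show s' ∈ g ⁻¹ᵁ V from hs)
    refine ⟨V', hle, hsV', 0, hV', ?_⟩
    rw [map_zero, map_zero]
    exact (map_zero _).symm
  | h2 a b ha hb =>
    obtain ⟨V₁, e₁, hs₁, z₁, hV₁, h₁⟩ := ha
    obtain ⟨V₂, e₂, hs₂, z₂, hV₂, h₂⟩ := hb
    obtain ⟨V', hV', hsV', hle⟩ := exists_isAffineOpen_mem_and_subset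
      (show s' ∈ V₁ ⊓ V₂ from ⟨hs₁, hs₂⟩)
    have hle' : V' ≤ V₁ ⊓ V₂ := hle
    refine ⟨V', (hle'.trans inf_le_left).trans e₁, hsV',
      resTP G F e₁ hW (hle'.trans inf_le_left) z₁ +
        resTP G F e₂ hW (hle'.trans inf_le_right) z₂, hV', ?_⟩
    rw [map_add, map_add, map_add, ← rs_alpha, ← rs_alpha, germ_rs, germ_rs]
    exact congrArg₂ (· + ·) h₁ h₂
  | h1 y t =>
    obtain ⟨a, m, ha, hm⟩ := exists_upW_germ F hV hWa hF _ hs hW t
    obtain ⟨y', hy'⟩ := pure_smul G s' a ha y t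
    rw [hy', ← hm]
    obtain ⟨O', hO', y₀, rfl⟩ := TopCat.Presheaf.exists_germ_eq G.presheaf y'
    obtain ⟨V', hV', hsV', hle⟩ := exists_isAffineOpen_mem_and_subset
      (show s' ∈ O' ⊓ g ⁻¹ᵁ V from ⟨hO', hs⟩)
    have hle' : V' ≤ O' ⊓ g ⁻¹ᵁ V := hle
    refine ⟨V', hle'.trans inf_le_right, hsV',
      toGV g G _ (rs G (hle'.trans inf_le_left) y₀) ⊗ₜ toGV f F hW m, hV', ?_⟩
    rw [alpha_tmul]
    refine Eq.trans ?_ (stalkEquiv_germ g G _ s' hsV' (hle'.trans inf_le_right)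
      (rs G (hle'.trans inf_le_left) y₀) (upW (f := f) F (V := V) m))
    rw [germ_rs]

include H in
theorem bijective_stalk_phiApp (hV : IsAffineOpen V) (hWa : IsAffineOpen W)
    (hG : Coh.IsQCoh G) (hF : Coh.IsQCoh F) (s' : S') (hs : g.base s' ∈ V)
    (hW : W ≤ f ⁻¹ᵁ V) :
    Function.Bijective ((stalkF s').map (phiApp H.w G W F)) := by
  refine ⟨?_, surjective_stalk_phiApp H G F hV hWa hG hF s' hs hW⟩
  rw [injective_iff_map_eq_zero]
  intro t ht
  obtain ⟨V', e, hs', z, hV', rfl⟩ := exists_alpha_germ G F hV hWa hF s' hs hW t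
  replace ht := (map_germ (phiApp H.w G W F) V' s' hs' _).symm.trans ht
  obtain ⟨V₁, hV₁, hsV₁, h0⟩ := exists_rs_eq_zero _ hs' _ ht
  obtain ⟨V₂, hV₂, hsV₂, hle⟩ := exists_isAffineOpen_mem_and_subset hsV₁
  have hle' : V₂ ≤ V₁ := hle
  obtain ⟨θ, hθ⟩ := exists_theta' H G F ((hle'.trans hV₁).trans e) hW hV hV₂ hWa hG hF
  have h1 : (phiApp H.w G W F).app V₂ (alpha G F _ hW (resTP G F e hW (hle'.trans hV₁) z)) = 0 := by
    rw [← rs_alpha]
    refine (app_rs (phiApp H.w G W F) (hle'.trans hV₁) _).trans ?_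
    rw [← rs_rs _ hV₁ hle', h0, map_zero]
  have h2 := (phiApp_alpha G F _ hW H.w θ hθ (resTP G F e hW (hle'.trans hV₁) z)).symm.trans h1
  have h3 : θ (resTP G F e hW (hle'.trans hV₁) z) = 0 :=
    rs_injective_of_eq _ _ Qo_le_lo (h2.trans (map_zero _).symm)
  have h4 : resTP G F e hW (hle'.trans hV₁) z = 0 := (map_eq_zero_iff θ θ.injective).1 h3
  refine (germ_rs _ (hle'.trans hV₁) s' hsV₂ _).symm.trans ?_
  rw [rs_alpha, h4, map_zero, map_zero]
  rfl

end

end Groth.Agent.FormalB.BC
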