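import Groth.Agent.FormalB.BCT563Tau
import Mathlib.RingTheory.Flat.CategoryTheory

/-!
# `N ⊗ Γ(U, J) ⟶ Γ(U', I)` for complexes

`quasiIso_theta`: `J` complex of flasque modules on `Y`, `I` complex of flasque modules on `Z`,
`θ : K ⊗ q^* J ⟶ I`.  If `N ⊗[A] Γ(U, J) ⟶ Γ(q⁻¹ U ⊓ W', I)` is a quasi-isomorphism for all affine
`U ≤ W`, then it is one for all quasi-compact `U ≤ W` (`W` quasi-separated, `N` flat).
-/

set_option autoImplicit false
universe u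

open CategoryTheory CategoryTheory.Limits AlgebraicGeometry Opposite TopologicalSpace MonoidalCategory

namespace Groth.Agent.FormalB.BCT563

open Ega1.QCohLoc CohqA.FBCSquare CohqA.FBCSec CohqA.FBCCx CohqA.FBCRes
open Groth.Agent.Ega2

variable {Y Z : Scheme.{u}}

section theta

variable {A : Type u} [CommRing A] (q : Z ⟶ Y) {W : Y.Opens} {W' : Z.Opens} (e : W' ≤ q ⁻¹ᵁ W)
  (ρ : A →+* Γ(Y, W)) (ρ' : A →+* Γ(Z, W')) (hρ : ∀ a, ρ' a = q.appLE W W' e (ρ a))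
  {K : Z.Modules} {N : ModuleCat.{u} A} (ν : N ⟶ (sec ρ' (le_refl W')).obj K)
  {J : CochainComplex Y.Modules ℕ} {I : CochainComplex Z.Modules ℕ}
  (θ : ((E q K).mapHomologicalComplex (ComplexShape.up ℕ)).obj J ⟶ I)

/-- The map `N ⊗[A] Γ(U, J) ⟶ Γ(U', I)` of complexes of `A`-modules. -/
noncomputable def theta {U : Y.Opens} (h : U ≤ W) {U' : Z.Opens} (h' : U' ≤ W') (e' : U' ≤ q ⁻¹ᵁ U) :
    ((tensorLeft N).mapHomologicalComplex (ComplexShape.up ℕ)).obj (secCx ρ h J) ⟶ secCx ρ' h' I :=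
  (show ((tensorLeft N).mapHomologicalComplex (ComplexShape.up ℕ)).obj (secCx ρ h J) ⟶
    ((sec ρ' h').mapHomologicalComplex (ComplexShape.up ℕ)).obj
      (((E q K).mapHomologicalComplex (ComplexShape.up ℕ)).obj J) from
    (NatTrans.mapHomologicalComplex (tau q e ρ ρ' hρ ν h h' e') (ComplexShape.up ℕ)).app J) ≫
    ((sec ρ' h').mapHomologicalComplex (ComplexShape.up ℕ)).map θ

theorem theta_f {U : Y.Opens} (h : U ≤ W) {U' : Z.Opens} (h' : U' ≤ W') (e' : U' ≤ q ⁻¹ᵁ U) (i : ℕ) :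
    (theta q e ρ ρ' hρ ν θ h h' e').f i =
      (tau q e ρ ρ' hρ ν h h' e').app (J.X i) ≫ (sec ρ' h').map (θ.f i) := rfl

theorem theta_f_tmul {U : Y.Opens} (h : U ≤ W) {U' : Z.Opens} (h' : U' ≤ W') (e' : U' ≤ q ⁻¹ᵁ U) (i : ℕ)
    (n : N) (m : Γ(J.X i, U)) :
    (theta q e ρ ρ' hρ ν θ h h' e').f i (n ⊗ₜ[A] (show (sec ρ h).obj (J.X i) from m)) =
      (θ.f i).app U' (tauF q ρ' ν h' e' n m) := rfl

theorem theta_naturality {U : Y.Opens} (h : U ≤ W) {U' : Z.Opens} (h' : U' ≤ W') (e' : U' ≤ q ⁻¹ᵁ U)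
    {V : Y.Opens} (hVU : V ≤ U) {V' : Z.Opens} (hVU' : V' ≤ U') (e'' : V' ≤ q ⁻¹ᵁ V) :
    ((tensorLeft N).mapHomologicalComplex (ComplexShape.up ℕ)).map (resCx ρ h hVU J) ≫
      theta q e ρ ρ' hρ ν θ (hVU.trans h) (hVU'.trans h') e'' =
      theta q e ρ ρ' hρ ν θ h h' e' ≫ resCx ρ' h' hVU' I := by
  ext1 i
  have h1 := tau_res q e ρ ρ' hρ ν h h' e' hVU hVU' e'' (J.X i)
  have h2 := (secRes ρ' h' hVU').naturality (θ.f i)
  rw [HomologicalComplex.comp_f, HomologicalComplex.comp_f, theta_f, theta_f]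
  refine (Category.assoc _ _ _).symm.trans ?_
  refine (congrArg (fun t => t ≫ (sec ρ' (hVU'.trans h')).map (θ.f i)) h1.symm).trans ?_
  refine (Category.assoc _ _ _).trans ?_
  refine (congrArg (fun t => (tau q e ρ ρ' hρ ν h h' e').app (J.X i) ≫ t) h2.symm).trans ?_
  exact (Category.assoc _ _ _).symm

end theta

section MV

variable {A : Type u} [CommRing A]

theorem MVSq.map_tensorLeft (N : ModuleCat.{u} A) [Module.Flat A N]
    {X₁ X₂ X₃ X₄ : CochainComplex (ModuleCat.{u} A) ℕ}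
    {a : X₁ ⟶ X₂} {b : X₁ ⟶ X₃} {c : X₂ ⟶ X₄} {d : X₃ ⟶ X₄} (h : MVSq a b c d) :
    MVSq (((tensorLeft N).mapHomologicalComplex _).map a)
      (((tensorLeft N).mapHomologicalComplex _).map b)
      (((tensorLeft N).mapHomologicalComplex _).map c)
      (((tensorLeft N).mapHomologicalComplex _).map d) := by
  have h1 : PreservesFiniteLimits (tensorLeft N) := inferInstance
  have h2 : PreservesFiniteColimits (tensorLeft N) := inferInstance
  exact MVSq.map ((tensorLeft N).mapHomologicalComplex _) h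

variable (q : Z ⟶ Y) {W : Y.Opens} {W' : Z.Opens} (e : W' ≤ q ⁻¹ᵁ W)
  (ρ : A →+* Γ(Y, W)) (ρ' : A →+* Γ(Z, W')) (hρ : ∀ a, ρ' a = q.appLE W W' e (ρ a))
  {K : Z.Modules} {N : ModuleCat.{u} A} (ν : N ⟶ (sec ρ' (le_refl W')).obj K)
  {J : CochainComplex Y.Modules ℕ} {I : CochainComplex Z.Modules ℕ}
  (θ : ((E q K).mapHomologicalComplex (ComplexShape.up ℕ)).obj J ⟶ I)

/-- Mayer-Vietoris step. -/
theorem quasiIso_theta_sup [Module.Flat A N]
    (hJ : ∀ n, Flasque (J.X n)) (hI : ∀ n, Flasque (I.X n))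
    {U V S T : Y.Opens} (hS : S = U ⊔ V) (hT : T = U ⊓ V)
    (hSW : S ≤ W) (hU : U ≤ W) (hV : V ≤ W) (hTW : T ≤ W)
    {U' V' S' T' : Z.Opens} (hS' : S' = U' ⊔ V') (hT' : T' = U' ⊓ V')
    (hSW' : S' ≤ W') (hU' : U' ≤ W') (hV' : V' ≤ W') (hTW' : T' ≤ W')
    (eU : U' ≤ q ⁻¹ᵁ U) (eV : V' ≤ q ⁻¹ᵁ V) (eS : S' ≤ q ⁻¹ᵁ S) (eT : T' ≤ q ⁻¹ᵁ T)
    (h₁ : QuasiIso (theta q e ρ ρ' hρ ν θ hU hU' eU))
    (h₂ : QuasiIso (theta q e ρ ρ' hρ ν θ hV hV' eV))
    (h₃ : QuasiIso (theta q e ρ ρ' hρ ν θ hTW hTW' eT)) :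
    QuasiIso (theta q e ρ ρ' hρ ν θ hSW hSW' eS) := by
  have hUS : U ≤ S := by rw [hS]; exact le_sup_left
  have hVS : V ≤ S := by rw [hS]; exact le_sup_right
  have hTU : T ≤ U := by rw [hT]; exact inf_le_left
  have hTV : T ≤ V := by rw [hT]; exact inf_le_right
  have hUS' : U' ≤ S' := by rw [hS']; exact le_sup_left
  have hVS' : V' ≤ S' := by rw [hS']; exact le_sup_right
  have hTU' : T' ≤ U' := by rw [hT']; exact inf_le_left
  have hTV' : T' ≤ V' := by rw [hT']; exact inf_le_right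
  exact quasiIso_of_mvSq
    (MVSq.map_tensorLeft N (mvSq_secCx' ρ hS hT hSW hU hV hUS hVS hTU hTV J hJ))
    (mvSq_secCx' ρ' hS' hT' hSW' hU' hV' hUS' hVS' hTU' hTV' I hI)
    _ _ _ _
    (theta_naturality q e ρ ρ' hρ ν θ hSW hSW' eS hUS hUS' eU)
    (theta_naturality q e ρ ρ' hρ ν θ hSW hSW' eS hVS hVS' eV)
    (theta_naturality q e ρ ρ' hρ ν θ hU hU' eU hTU hTU' eT)
    (theta_naturality q e ρ ρ' hρ ν θ hV hV' eV hTV hTV' eT) h₁ h₂ h₃

/-- The induction over quasi-compact opens. -/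
theorem quasiIso_theta [Module.Flat A N]
    (hJ : ∀ n, Flasque (J.X n)) (hI : ∀ n, Flasque (I.X n))
    (hW : IsQuasiSeparated (W : Set Y))
    (haff : ∀ (U : Y.Opens) (hU : U ≤ W), IsAffineOpen U →
      QuasiIso (theta q e ρ ρ' hρ ν θ hU (U' := q ⁻¹ᵁ U ⊓ W') inf_le_right inf_le_left))
    (U : Y.Opens) (hUW : U ≤ W) (hU : IsCompact (U : Set Y)) :
    QuasiIso (theta q e ρ ρ' hρ ν θ hUW (U' := q ⁻¹ᵁ U ⊓ W') inf_le_right inf_le_left) := by
  refine induction_le W hW (fun U => ∀ hU : U ≤ W,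
    QuasiIso (theta q e ρ ρ' hρ ν θ hU (U' := q ⁻¹ᵁ U ⊓ W') inf_le_right inf_le_left)) ?_ ?_ U hUW
    hU hUW
  · intro U hU hU' _
    exact haff U hU hU'
  · intro U V hU hV h₁ h₂ h₃ hUV
    refine quasiIso_theta_sup q e ρ ρ' hρ ν θ hJ hI rfl rfl hUV hU hV
      (inf_le_left.trans hU) ?_ ?_ _ _ _ _ _ _ _ _ (h₁ hU) (h₂ hV) (h₃ _)
    · rw [← inf_sup_right, Scheme.Hom.preimage_sup]
    · rw [inf_inf_inf_comm, inf_idem, Scheme.Hom.preimage_inf]

/-- The affine case. -/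
theorem quasiIso_theta_affine [Module.Flat A N] {M : Y.Modules}
    (J : InjectiveResolution M) (I : InjectiveResolution ((E q K).obj M))
    (θ : ((E q K).mapHomologicalComplex (ComplexShape.up ℕ)).obj J.cocomplex ⟶ I.cocomplex)
    (hθ : (E q K).map (aug J) ≫ θ.f 0 = aug I)
    {U : Y.Opens} (h : U ≤ W) {U' : Z.Opens} (h' : U' ≤ W') (e' : U' ≤ q ⁻¹ᵁ U)
    (hM : AcycOn U M) (hM' : AcycOn U' ((E q K).obj M))
    (hbc : IsIso ((tau q e ρ ρ' hρ ν h h' e').app M)) :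
    QuasiIso (theta q e ρ ρ' hρ ν θ h h' e') := by
  have h1 : PreservesFiniteLimits (tensorLeft N) := inferInstance
  have h2 : PreservesFiniteColimits (tensorLeft N) := inferInstance
  rw [quasiIso_iff]
  intro n
  cases n with
  | zero =>
    have h3 : PreservesFiniteLimits (sec ρ h ⋙ tensorLeft N) := comp_preservesFiniteLimits _ _
    refine quasiIsoAt_zero _ _ _
      (isLimitMapAug (sec ρ h ⋙ tensorLeft N) J) _ _
      (isLimitMapAug (sec ρ' h') I) ((tau q e ρ ρ' hρ ν h h' e').app M) ?_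
    rw [theta_f]
    have h5 := (tau q e ρ ρ' hρ ν h h' e').naturality (aug J)
    refine ((congrArg (fun t => (tau q e ρ ρ' hρ ν h h' e').app M ≫ t)
      ((congrArg (sec ρ' h').map hθ.symm).trans ((sec ρ' h').map_comp _ _))).trans ?_)
    refine (Category.assoc _ _ _).symm.trans ?_
    refine (congrArg (fun t => t ≫ (sec ρ' h').map (θ.f 0)) h5.symm).trans ?_
    exact Category.assoc _ _ _
  | succ n =>
    rw [quasiIsoAt_iff_exactAt]
    · exact exactAt_secCx_of_acycOn ρ' h' hM' I n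
    · exact (exactAt_secCx_of_acycOn ρ h hM J n).map (tensorLeft N)

end MV

end Groth.Agent.FormalB.BCT563
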