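import Groth.Agent.FormalB.BCT563Cx
import Groth.Agent.CohqA.FBCGeom
import Groth.Agent.CohqA.BCT71
import Groth.Agent.Ega3B.KunnethSec
import Groth.Agent.Flat2C.FlatSec

/-!
# `G(V') ⊗ Γ(f⁻¹ V, J) ⟶ Γ(f'⁻¹ V', I)` is a quasi-isomorphism

Cartesian square `f' : X' ⟶ S'`, `g' : X' ⟶ X`, `f : X ⟶ S` quasi-compact quasi-separated, `g : S' ⟶ S`;
`M` quasi-coherent on `X`, `G` quasi-coherent on `S'` and flat over `S`; `V ⊆ S` and `V' ⊆ g⁻¹ V` affine;
`J`, `I` injective resolutions of `M` and `f'^* G ⊗ g'^* M`, `θ : f'^* G ⊗ g'^* J ⟶ I`.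
-/

set_option autoImplicit false
universe u

open CategoryTheory CategoryTheory.Limits AlgebraicGeometry Opposite TopologicalSpace MonoidalCategory

namespace Groth.Agent.FormalB.BCT563

open Ega1.QCohLoc CohqA.FBCSquare CohqA.FBCSec CohqA.FBCCx CohqA.FBCRes CohqA.FBCGeom
open Groth.Agent.Ega2

variable {X S X' S' : Scheme.{u}} {f : X ⟶ S} {g : S' ⟶ S} {g' : X' ⟶ X} {f' : X' ⟶ S'}

section nu

variable (f' g) (G : S'.Modules) {V : S.Opens} {V' : S'.Opens} (e : V' ≤ g ⁻¹ᵁ V)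

/-- `Γ(G, V')` as a module over `Γ(S, V)`. -/
noncomputable abbrev Nmod : ModuleCat.{u} Γ(S, V) := (sec (g.appLE V V' e).hom (le_refl V')).obj G

/-- `Γ(S, V) → Γ(X', f'⁻¹ V')`. -/
noncomputable abbrev rho' : Γ(S, V) →+* Γ(X', f' ⁻¹ᵁ V') :=
  (f'.app V').hom.comp (g.appLE V V' e).hom

theorem resO_self {Z : Scheme.{u}} {W : Z.Opens} (a : Γ(Z, W)) : resO (le_refl W) a = a := by
  have h : (homOfLE (le_refl W)).op = 𝟙 (op W) := rfl
  change Z.presheaf.map (homOfLE (le_refl W)).op a = a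
  rw [h, Z.presheaf.map_id]
  rfl

/-- `n ↦ f'^* n`. -/
noncomputable def nuMap : Nmod g G e ⟶ (sec (rho' g f' e) (le_refl (f' ⁻¹ᵁ V'))).obj
    ((Scheme.Modules.pullback f').obj G) :=
  ModuleCat.ofHom (X := Nmod g G e) (Y := (sec (rho' g f' e) (le_refl (f' ⁻¹ᵁ V'))).obj
    ((Scheme.Modules.pullback f').obj G))
    { toFun := fun (n : Γ(G, V')) => VarietyB.PullSec.sec f' G (le_refl (f' ⁻¹ᵁ V')) n
      map_add' := fun n n' => map_add _ n n'
      map_smul' := fun a (n : Γ(G, V')) => by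
        change VarietyB.PullSec.sec f' G (le_refl (f' ⁻¹ᵁ V'))
          (resO (le_refl V') ((g.appLE V V' e).hom a) • n) =
          resO (le_refl (f' ⁻¹ᵁ V')) ((f'.app V').hom ((g.appLE V V' e).hom a)) •
            VarietyB.PullSec.sec f' G (le_refl (f' ⁻¹ᵁ V')) n
        rw [resO_self, VarietyB.PullSec.sec_smul]
        rfl }

theorem nuMap_apply (n : Γ(G, V')) : nu (rho' g f' e) (nuMap g f' G e) n =
    VarietyB.PullSec.sec f' G (le_refl (f' ⁻¹ᵁ V')) n := rfl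

/-- `Γ(G, V')` is flat. -/
theorem flat_Nmod (hG : Coh.IsQCoh G) (hGf : FlatMod.IsFlatOver g G) (hV : IsAffineOpen V)
    (hV' : IsAffineOpen V') : Module.Flat Γ(S, V) (Nmod g G e) := by
  have h := (Flat2C.FlatSec.flat_sections_iff g G hV' hV e hG).mpr fun x _ => hGf x
  let i1 : Module Γ(S, V) Γ(G, V') := Flat2C.FlatSec.moduleOver g G e
  have i2 : Module.Flat Γ(S, V) Γ(G, V') := h
  let E : Γ(G, V') ≃ₗ[Γ(S, V)] (Nmod g G e) :=
    { toFun := fun n => n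
      invFun := fun n => n
      left_inv := fun _ => rfl
      right_inv := fun _ => rfl
      map_add' := fun _ _ => rfl
      map_smul' := fun a n => by
        change g.appLE V V' e a • n = resO (le_refl V') ((g.appLE V V' e).hom a) • n
        rw [resO_self] }
  exact Module.Flat.of_linearEquiv E.symm

end nu

section base

variable {M : X.Modules} {G : S'.Modules} {V : S.Opens} {V' : S'.Opens}
  (e : V' ≤ g ⁻¹ᵁ V) (e₁ : f' ⁻¹ᵁ V' ≤ g' ⁻¹ᵁ (f ⁻¹ᵁ V)) {U : X.Opens} (hU : U ≤ f ⁻¹ᵁ V)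

open Ega1.TensorRestrict in
/-- `Γ(G, V') ⊗ Γ(M, U) = Γ(f'^* G ⊗ g'^* M, U')` for affine opens with `U' = U ×_V V'`. -/
theorem isIso_tau_of_isPushout (w : g' ≫ f = f' ≫ g) (hM : Coh.IsQCoh M) (hG : Coh.IsQCoh G)
    (hV' : IsAffineOpen V') (hUa : IsAffineOpen U) {U' : X'.Opens} (hU'a : IsAffineOpen U')
    (e2 : U' ≤ f' ⁻¹ᵁ V') (e3 : U' ≤ g' ⁻¹ᵁ U)
    (h1 : IsPushout (g.appLE V V' e) (f.appLE V U hU) (f'.appLE V' U' e2) (g'.appLE U U' e3)) :
    IsIso ((tau g' e₁ (f.app V).hom (rho' g f' e) (ring_square w e e₁) (nuMap g f' G e) hU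
      (U' := U') e2 e3).app M) := by
  let i1 : Algebra Γ(S, V) Γ(S', V') := (g.appLE V V' e).hom.toAlgebra
  let i2 : Algebra Γ(S, V) Γ(X, U) := (f.appLE V U hU).hom.toAlgebra
  let i3 : Algebra Γ(S', V') Γ(X', U') := (f'.appLE V' U' e2).hom.toAlgebra
  let i4 : Algebra Γ(X, U) Γ(X', U') := (g'.appLE U U' e3).hom.toAlgebra
  let i5 : Algebra Γ(S, V) Γ(X', U') := (g.appLE V V' e ≫ f'.appLE V' U' e2).hom.toAlgebra
  have i6 : IsScalarTower Γ(S, V) Γ(S', V') Γ(X', U') := IsScalarTower.of_algebraMap_eq (fun a => rfl)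
  have i7 : IsScalarTower Γ(S, V) Γ(X, U) Γ(X', U') :=
    IsScalarTower.of_algebraMap_eq (fun a => congr(($(h1.w)) a))
  let m1 : Module Γ(S, V) Γ(G, V') := (Nmod g G e).isModule
  let m2 : Module Γ(S, V) Γ(M, U) := ((sec (f.app V).hom hU).obj M).isModule
  have i8 : IsScalarTower Γ(S, V) Γ(S', V') Γ(G, V') := ⟨fun a b c => by
    rw [Algebra.smul_def, mul_smul]
    change _ = resO (le_refl V') ((g.appLE V V' e).hom a) • b • c
    rw [resO_self]
    rfl⟩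
  have i9 : IsScalarTower Γ(S, V) Γ(X, U) Γ(M, U) := ⟨fun a b c => by
    rw [Algebra.smul_def, mul_smul]; rfl⟩
  have hP : Algebra.IsPushout Γ(S, V) Γ(X, U) Γ(S', V') Γ(X', U') :=
    Algebra.IsPushout.symm (CommRingCat.isPushout_iff_isPushout.mp h1)
  let s1 := VarietyB.PullSec.secModule f' G (U := V') (V := U') e2
  let s2 := VarietyB.PullSec.secModule g' M (U := U) (V := U') e3
  have t1 : IsScalarTower Γ(S', V') Γ(X', U') Γ((Scheme.Modules.pullback f').obj G, U') :=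
    ⟨fun a b c => by rw [Algebra.smul_def, mul_smul]; rfl⟩
  have t2 : IsScalarTower Γ(X, U) Γ(X', U') Γ((Scheme.Modules.pullback g').obj M, U') :=
    ⟨fun a b c => by rw [Algebra.smul_def, mul_smul]; rfl⟩
  have hT := bijective_toT ((Scheme.Modules.pullback f').obj G) ((Scheme.Modules.pullback g').obj M)
    (VarietyB.PullSec.isQCoh_pullback _ _ hG) (VarietyB.PullSec.isQCoh_pullback _ _ hM) hU'a
  let T : PT ((Scheme.Modules.pullback f').obj G) ((Scheme.Modules.pullback g').obj M) U' ≃+ _ :=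
    AddEquiv.ofBijective _ hT
  let τ := (tau g' e₁ (f.app V).hom (rho' g f' e) (ring_square w e e₁) (nuMap g f' G e) hU
    (U' := U') e2 e3).app M
  let μ : TensorProduct Γ(S, V) Γ(G, V') Γ(M, U) →+
      TensorProduct Γ(X', U') Γ((Scheme.Modules.pullback f').obj G, U')
        Γ((Scheme.Modules.pullback g').obj M, U') :=
    T.symm.toAddMonoidHom.comp τ.hom.toAddMonoidHom
  have hμ : ∀ (x : Γ(G, V')) (y : Γ(M, U)), μ (x ⊗ₜ y) =
      (VarietyB.PullSec.secₗ f' G (U := V') (V := U') e2 x) ⊗ₜ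
        (VarietyB.PullSec.secₗ g' M (U := U) (V := U') e3 y) := by
    intro x y
    change T.symm (τ.hom (x ⊗ₜ y)) = _
    refine (AddEquiv.symm_apply_eq T).mpr ?_
    have h2 : res ((Scheme.Modules.pullback f').obj G) e2
        (VarietyB.PullSec.sec f' G (le_refl (f' ⁻¹ᵁ V')) x) = VarietyB.PullSec.sec f' G e2 x := by
      refine (VarietyB.PullSec.sec_res f' G (le_refl (f' ⁻¹ᵁ V')) e2 (le_refl V') e2 x).trans ?_
      exact congrArg _ (VarietyB.TensLoc.res_self G (le_refl V') x)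
    exact congrArg (fun t => Tens.tmul t (VarietyB.PullSec.sec g' M e3 y)) h2
  have key := Ega3B.KunnethSec.bijective_of_isPushout
    (VarietyB.PullSec.secₗ f' G (U := V') (V := U') e2)
    (VarietyB.PullSec.isBaseChange_secₗ f' G (U := V') (V := U') e2 hG hV' hU'a)
    (VarietyB.PullSec.secₗ g' M (U := U) (V := U') e3)
    (VarietyB.PullSec.isBaseChange_secₗ g' M (U := U) (V := U') e3 hM hUa hU'a) μ hμ
  rw [ConcreteCategory.isIso_iff_bijective]
  have h4 : (τ.hom : _ → _) = T ∘ μ := by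
    funext z
    exact (T.apply_symm_apply _).symm
  change Function.Bijective (τ.hom : _ → _)
  rw [h4]
  exact T.bijective.comp key

/-- `Γ(G, V') ⊗ Γ(M, U) = Γ(f'^* G ⊗ g'^* M, U ×_V V')` for `U`, `V`, `V'` affine. -/
theorem isIso_tau (H : IsPullback g' f' f g) (hM : Coh.IsQCoh M) (hG : Coh.IsQCoh G) (hV : IsAffineOpen V)
    (hV' : IsAffineOpen V') (hUa : IsAffineOpen U) (hU'a : IsAffineOpen (g' ⁻¹ᵁ U ⊓ f' ⁻¹ᵁ V')) :
    IsIso ((tau g' e₁ (f.app V).hom (rho' g f' e) (ring_square H.w e e₁) (nuMap g f' G e) hU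
      (U' := g' ⁻¹ᵁ U ⊓ f' ⁻¹ᵁ V') inf_le_right inf_le_left).app M) :=
  isIso_tau_of_isPushout e e₁ hU H.w hM hG hV' hUa hU'a _ _
    ((isIso_pushoutSection_iff H e hU rfl).1
      (isIso_pushoutSection_of_isAffineOpen H e hU rfl hV hV' hUa)).flip

/-- `Γ(G, V') ⊗ Γ(f⁻¹ V, J) ⟶ Γ(f'⁻¹ V', I)` is a quasi-isomorphism. -/
theorem quasiIso_theta_of_isPullback (H : IsPullback g' f' f g) [QuasiCompact f] [QuasiSeparated f]
    (hM : Coh.IsQCoh M) (hG : Coh.IsQCoh G) (hGf : FlatMod.IsFlatOver g G)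
    (hV : IsAffineOpen V) (hV' : IsAffineOpen V')
    (J : InjectiveResolution M)
    (I : InjectiveResolution ((E g' ((Scheme.Modules.pullback f').obj G)).obj M))
    (θ : ((E g' ((Scheme.Modules.pullback f').obj G)).mapHomologicalComplex
      (ComplexShape.up ℕ)).obj J.cocomplex ⟶ I.cocomplex)
    (hθ : (E g' ((Scheme.Modules.pullback f').obj G)).map (aug J) ≫ θ.f 0 = aug I) :
    QuasiIso (theta g' e₁ (f.app V).hom (rho' g f' e) (ring_square H.w e e₁) (nuMap g f' G e) θ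
      (le_refl (f ⁻¹ᵁ V)) (le_refl (f' ⁻¹ᵁ V')) e₁) := by
  have hflat : Module.Flat Γ(S, V) (Nmod g G e) := flat_Nmod g G e hG hGf hV hV'
  have hM' : Coh.IsQCoh ((E g' ((Scheme.Modules.pullback f').obj G)).obj M) :=
    Ega1.TensorRestrict.isQCoh_tensorMod _ _ (VarietyB.PullSec.isQCoh_pullback _ _ hG)
      (VarietyB.PullSec.isQCoh_pullback _ _ hM)
  have key : QuasiIso (theta g' e₁ (f.app V).hom (rho' g f' e) (ring_square H.w e e₁)
      (nuMap g f' G e) θ (le_refl (f ⁻¹ᵁ V)) (U' := g' ⁻¹ᵁ (f ⁻¹ᵁ V) ⊓ f' ⁻¹ᵁ V')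
      inf_le_right inf_le_left) := by
    refine quasiIso_theta g' e₁ _ _ (ring_square H.w e e₁) (nuMap g f' G e) θ (fun n => ?_)
      (fun n => ?_) (f.isQuasiSeparated_preimage hV.isQuasiSeparated) ?_ _ le_rfl
      (f.isCompact_preimage hV.isCompact)
    · have := J.injective n
      exact flasque_of_injective _
    · have := I.injective n
      exact flasque_of_injective _
    intro U hU hUa
    have hU'a : IsAffineOpen (g' ⁻¹ᵁ U ⊓ f' ⁻¹ᵁ V') := by
      have : IsAffine _ := hV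
      have : IsAffine _ := hV'
      have : IsAffine _ := hUa
      exact .of_isIso (Scheme.Hom.isPullback_resLE H e hU rfl).isoPullback.hom
    exact quasiIso_theta_affine g' e₁ _ _ _ _ J I θ hθ hU _ _
      (acycOn_of_isAffineOpen U hUa M hM) (acycOn_of_isAffineOpen _ hU'a _ hM')
      (isIso_tau e e₁ hU H hM hG hV hV' hUa hU'a)
  have hU : g' ⁻¹ᵁ (f ⁻¹ᵁ V) ⊓ f' ⁻¹ᵁ V' = f' ⁻¹ᵁ V' := inf_eq_right.2 e₁
  have h3 : ∀ (U' : X'.Opens) (hU' : U' = f' ⁻¹ᵁ V') (h1 : U' ≤ f' ⁻¹ᵁ V')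
      (h2 : U' ≤ g' ⁻¹ᵁ (f ⁻¹ᵁ V)), QuasiIso (theta g' e₁ (f.app V).hom (rho' g f' e)
        (ring_square H.w e e₁) (nuMap g f' G e) θ (le_refl (f ⁻¹ᵁ V)) h1 h2) →
      QuasiIso (theta g' e₁ (f.app V).hom (rho' g f' e) (ring_square H.w e e₁) (nuMap g f' G e) θ
        (le_refl (f ⁻¹ᵁ V)) (le_refl (f' ⁻¹ᵁ V')) e₁) := by
    rintro U' rfl h1 h2 h
    exact h
  exact h3 _ hU _ _ key

end base

end Groth.Agent.FormalB.BCT563
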