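import Groth.Agent.CohqA.FBCRes
import Groth.Agent.VarietyB.PullSec
import Groth.Agent.VarietyB.TensLoc
import Groth.Agent.Ega2.Tens
import Groth.Agent.Models2.FMExact

/-!
# Sections of `L ⊗ q^* M`

* `E q K : Y.Modules ⥤ Z.Modules`, `M ↦ K ⊗ q^* M` for `q : Z ⟶ Y`, `K : Z.Modules`.
* `tau`: for `N ⟶ Γ(K, W')` linear over `A`, the map `N ⊗[A] Γ(M, U) ⟶ Γ(K ⊗ q^* M, U')`, natural in `M`,
  compatible with restriction (`tau_res`).
-/

set_option autoImplicit false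
universe u

open CategoryTheory CategoryTheory.Limits AlgebraicGeometry Opposite TopologicalSpace MonoidalCategory

namespace Groth.Agent.FormalB.BCT563

open Ega1.QCohLoc CohqA.FBCSquare CohqA.FBCSec
open Groth.Agent.Ega2

variable {Y Z : Scheme.{u}}

/-- `M ↦ K ⊗ q^* M`. -/
noncomputable abbrev E (q : Z ⟶ Y) (K : Z.Modules) : Y.Modules ⥤ Z.Modules :=
  Scheme.Modules.pullback q ⋙ DCoh.tensorBi.obj K

section tm

variable (q : Z ⟶ Y) {K : Z.Modules} {M : Y.Modules} {U : Y.Opens} {U' : Z.Opens} (e : U' ≤ q ⁻¹ᵁ U)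

/-- The section `k ⊗ q^* m` of `K ⊗ q^* M`. -/
noncomputable def tm (k : Γ(K, U')) (m : Γ(M, U)) : Γ((E q K).obj M, U') :=
  Tens.tmul (N := (Scheme.Modules.pullback q).obj M) k (VarietyB.PullSec.sec q M e m)

theorem tm_add (k : Γ(K, U')) (m m' : Γ(M, U)) : tm q e k (m + m') = tm q e k m + tm q e k m' := by
  unfold tm
  rw [map_add, Tens.tmul_add]
  rfl

theorem add_tm (k k' : Γ(K, U')) (m : Γ(M, U)) : tm q e (k + k') m = tm q e k m + tm q e k' m := by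
  unfold tm
  rw [Tens.add_tmul]
  rfl

theorem smul_tm (a : Γ(Z, U')) (k : Γ(K, U')) (m : Γ(M, U)) : tm q e (a • k) m = a • tm q e k m := by
  unfold tm
  rw [Tens.smul_tmul]
  rfl

theorem tm_smul (a : Γ(Y, U)) (k : Γ(K, U')) (m : Γ(M, U)) :
    tm q e k (a • m) = q.appLE U U' e a • tm q e k m := by
  unfold tm
  rw [VarietyB.PullSec.sec_smul, Tens.tmul_smul]
  rfl

theorem tm_res {V : Y.Opens} {V' : Z.Opens} (e' : V' ≤ q ⁻¹ᵁ V) (h : V ≤ U) (h' : V' ≤ U')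
    (k : Γ(K, U')) (m : Γ(M, U)) :
    res ((E q K).obj M) h' (tm q e k m) = tm q e' (res K h' k) (res M h m) := by
  unfold tm
  refine (Tens.tmul_res (N := (Scheme.Modules.pullback q).obj M) (homOfLE h') _ _).trans ?_
  congr 1
  exact VarietyB.PullSec.sec_res q M e e' h h' m

theorem sec_map {M' : Y.Modules} (φ : M ⟶ M') (m : Γ(M, U)) :
    ((Scheme.Modules.pullback q).map φ).app U' (VarietyB.PullSec.sec q M e m) =
      VarietyB.PullSec.sec q M' e (φ.app U m) := by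
  rw [VarietyB.PullSec.sec_apply, VarietyB.PullSec.sec_apply]
  have h1 := (Scheme.Modules.pullbackPushforwardAdjunction q).unit.naturality φ
  have h2 : ((Scheme.Modules.pullbackPushforwardAdjunction q).unit.app M').app U (φ.app U m) =
      ((Scheme.Modules.pullback q).map φ).app (q ⁻¹ᵁ U)
        (((Scheme.Modules.pullbackPushforwardAdjunction q).unit.app M).app U m) :=
    congr(($h1).app U m)
  rw [h2]
  exact VarietyB.TensLoc.app_res ((Scheme.Modules.pullback q).map φ) e _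

theorem map_tm {M' : Y.Modules} (φ : M ⟶ M') (k : Γ(K, U')) (m : Γ(M, U)) :
    ((E q K).map φ).app U' (tm q e k m) = tm q e k (φ.app U m) := by
  refine (VarietyB.TensLoc.tensorBi_map_app_tmul K ((Scheme.Modules.pullback q).map φ) k
    (VarietyB.PullSec.sec q M e m)).trans ?_
  unfold tm
  rw [← sec_map]
  rfl

end tm

section tau

variable {A : Type u} [CommRing A] (q : Z ⟶ Y) {W : Y.Opens} {W' : Z.Opens} (e : W' ≤ q ⁻¹ᵁ W)
  (ρ : A →+* Γ(Y, W)) (ρ' : A →+* Γ(Z, W')) (hρ : ∀ a, ρ' a = q.appLE W W' e (ρ a))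
  {K : Z.Modules} {N : ModuleCat.{u} A} (ν : N ⟶ (sec ρ' (le_refl W')).obj K)

include hρ in
theorem ring_compat' {U : Y.Opens} (h : U ≤ W) {U' : Z.Opens} (h' : U' ≤ W') (e' : U' ≤ q ⁻¹ᵁ U) (a : A) :
    q.appLE U U' e' (resO h (ρ a)) = resO h' (ρ' a) := by
  rw [hρ]
  exact CohqA.FBCSec.ring_compat q e h h' e' (ρ a)

/-- The section of `K` given by `n : N`. -/
noncomputable def nu (n : N) : Γ(K, W') := ν n

theorem nu_add (n n' : N) : nu ρ' ν (n + n') = nu ρ' ν n + nu ρ' ν n' := by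
  unfold nu
  rw [map_add]
  rfl

theorem nu_smul (a : A) (n : N) : nu ρ' ν (a • n) = ρ' a • nu ρ' ν n := by
  unfold nu
  rw [map_smul]
  refine (sec_smul ρ' (le_refl W') K a (ν n)).trans ?_
  have : resO (le_refl W') (ρ' a) = ρ' a := by
    have h : (homOfLE (le_refl W')).op = 𝟙 (op W') := rfl
    change Z.presheaf.map (homOfLE (le_refl W')).op (ρ' a) = ρ' a
    rw [h, Z.presheaf.map_id]
    rfl
  rw [this]

/-- The section `ν(n) ⊗ q^* m` of `K ⊗ q^* M`. -/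
noncomputable def tauF {U : Y.Opens} {U' : Z.Opens} (h' : U' ≤ W') (e' : U' ≤ q ⁻¹ᵁ U)
    {M : Y.Modules} (n : N) (m : Γ(M, U)) : Γ((E q K).obj M, U') :=
  tm q e' (res K h' (nu ρ' ν n)) m

theorem tauF_add_left {U : Y.Opens} {U' : Z.Opens} (h' : U' ≤ W') (e' : U' ≤ q ⁻¹ᵁ U)
    {M : Y.Modules} (n n' : N) (m : Γ(M, U)) :
    tauF q ρ' ν h' e' (n + n') m = tauF q ρ' ν h' e' n m + tauF q ρ' ν h' e' n' m := by
  unfold tauF
  rw [nu_add, map_add, add_tm]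

theorem tauF_add_right {U : Y.Opens} {U' : Z.Opens} (h' : U' ≤ W') (e' : U' ≤ q ⁻¹ᵁ U)
    {M : Y.Modules} (n : N) (m m' : Γ(M, U)) :
    tauF q ρ' ν h' e' n (m + m') = tauF q ρ' ν h' e' n m + tauF q ρ' ν h' e' n m' := by
  unfold tauF
  rw [tm_add]

theorem tauF_smul_left {U : Y.Opens} {U' : Z.Opens} (h' : U' ≤ W') (e' : U' ≤ q ⁻¹ᵁ U)
    {M : Y.Modules} (a : A) (n : N) (m : Γ(M, U)) :
    tauF q ρ' ν h' e' (a • n) m = resO h' (ρ' a) • tauF q ρ' ν h' e' n m := by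
  unfold tauF
  rw [nu_smul, res_smul, smul_tm]

include hρ in
theorem tauF_smul_right {U : Y.Opens} (h : U ≤ W) {U' : Z.Opens} (h' : U' ≤ W') (e' : U' ≤ q ⁻¹ᵁ U)
    {M : Y.Modules} (a : A) (n : N) (m : Γ(M, U)) :
    tauF q ρ' ν h' e' n (resO h (ρ a) • m) = resO h' (ρ' a) • tauF q ρ' ν h' e' n m := by
  unfold tauF
  rw [tm_smul, ring_compat' q e ρ ρ' hρ h h' e' a]

theorem res_tauF {U : Y.Opens} {U' : Z.Opens} (h' : U' ≤ W') (e' : U' ≤ q ⁻¹ᵁ U)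
    {V : Y.Opens} (hVU : V ≤ U) {V' : Z.Opens} (hVU' : V' ≤ U') (e'' : V' ≤ q ⁻¹ᵁ V)
    {M : Y.Modules} (n : N) (m : Γ(M, U)) :
    res ((E q K).obj M) hVU' (tauF q ρ' ν h' e' n m) =
      tauF q ρ' ν (hVU'.trans h') e'' n (res M hVU m) := by
  unfold tauF
  rw [tm_res q e' e'' hVU hVU', res_res]

theorem map_tauF {U : Y.Opens} {U' : Z.Opens} (h' : U' ≤ W') (e' : U' ≤ q ⁻¹ᵁ U)
    {M M' : Y.Modules} (φ : M ⟶ M') (n : N) (m : Γ(M, U)) :
    ((E q K).map φ).app U' (tauF q ρ' ν h' e' n m) = tauF q ρ' ν h' e' n (φ.app U m) :=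
  map_tm q e' φ _ m

/-- The bilinear map `N × Γ(M, U) → Γ(K ⊗ q^* M, U')`. -/
noncomputable def tauB {U : Y.Opens} (h : U ≤ W) {U' : Z.Opens} (h' : U' ≤ W') (e' : U' ≤ q ⁻¹ᵁ U)
    (M : Y.Modules) :
    N →ₗ[A] (sec ρ h).obj M →ₗ[A] (sec ρ' h').obj ((E q K).obj M) :=
  LinearMap.mk₂ A (M := N) (Nₗ := (sec ρ h).obj M) (Pₗ := (sec ρ' h').obj ((E q K).obj M))
    (fun (n : N) (m : Γ(M, U)) => tauF q ρ' ν h' e' n m)
    (fun n n' m => tauF_add_left q ρ' ν h' e' n n' m)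
    (fun a n m => tauF_smul_left q ρ' ν h' e' a n m)
    (fun n m m' => tauF_add_right q ρ' ν h' e' n m m')
    (fun a n m => tauF_smul_right q e ρ ρ' hρ ν h h' e' a n m)

/-- The map `N ⊗[A] Γ(M, U) ⟶ Γ(K ⊗ q^* M, U')` on one object. -/
noncomputable def tauObj {U : Y.Opens} (h : U ≤ W) {U' : Z.Opens} (h' : U' ≤ W') (e' : U' ≤ q ⁻¹ᵁ U)
    (M : Y.Modules) : N ⊗ (sec ρ h).obj M ⟶ (sec ρ' h').obj ((E q K).obj M) :=
  ModuleCat.ofHom (Y := (sec ρ' h').obj ((E q K).obj M))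
    (TensorProduct.lift (tauB q e ρ ρ' hρ ν h h' e' M))

theorem tauObj_tmul {U : Y.Opens} (h : U ≤ W) {U' : Z.Opens} (h' : U' ≤ W') (e' : U' ≤ q ⁻¹ᵁ U)
    (M : Y.Modules) (n : N) (m : Γ(M, U)) :
    tauObj q e ρ ρ' hρ ν h h' e' M (n ⊗ₜ[A] (show (sec ρ h).obj M from m)) =
      tauF q ρ' ν h' e' n m := rfl

/-- `tauObj` is natural in the module. -/
noncomputable def tau {U : Y.Opens} (h : U ≤ W) {U' : Z.Opens} (h' : U' ≤ W') (e' : U' ≤ q ⁻¹ᵁ U) :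
    sec ρ h ⋙ tensorLeft N ⟶ E q K ⋙ sec ρ' h' where
  app M := tauObj q e ρ ρ' hρ ν h h' e' M
  naturality M M' φ := by
    apply ModuleCat.MonoidalCategory.tensor_ext
    intro n m
    exact (map_tauF q ρ' ν h' e' φ n m).symm

theorem tau_app_tmul {U : Y.Opens} (h : U ≤ W) {U' : Z.Opens} (h' : U' ≤ W') (e' : U' ≤ q ⁻¹ᵁ U)
    (M : Y.Modules) (n : N) (m : Γ(M, U)) :
    (tau q e ρ ρ' hρ ν h h' e').app M (n ⊗ₜ[A] (show (sec ρ h).obj M from m)) =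
      tauF q ρ' ν h' e' n m := rfl

theorem tau_res {U : Y.Opens} (h : U ≤ W) {U' : Z.Opens} (h' : U' ≤ W') (e' : U' ≤ q ⁻¹ᵁ U)
    {V : Y.Opens} (hVU : V ≤ U) {V' : Z.Opens} (hVU' : V' ≤ U') (e'' : V' ≤ q ⁻¹ᵁ V) (M : Y.Modules) :
    (tau q e ρ ρ' hρ ν h h' e').app M ≫ (secRes ρ' h' hVU').app ((E q K).obj M) =
      (tensorLeft N).map ((secRes ρ h hVU).app M) ≫
        (tau q e ρ ρ' hρ ν (hVU.trans h) (hVU'.trans h') e'').app M := by
  apply ModuleCat.MonoidalCategory.tensor_ext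
  intro n m
  exact res_tauF q ρ' ν h' e' hVU hVU' e'' n m

end tau

end Groth.Agent.FormalB.BCT563
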