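import Groth.Agent.CohqA.PullGen

/-!
Local generation of the cocycles of `K ⊗ q^* C`, for `K` flat over the base and `C` a complex of
modules, by sections `k ⊗ q^* z` with `z` a cocycle of `C`.
-/

set_option autoImplicit false
set_option backward.isDefEq.respectTransparency.types true
universe u

open CategoryTheory CategoryTheory.Limits AlgebraicGeometry Opposite TopologicalSpace

namespace Groth.Agent.FormalB.BCT851

open Groth.Agent.CohqA.BCT71 Groth.Agent.CohqA.QisoLocal
open Groth.Agent.VarietyB.TensLoc Groth.Agent.VarietyB.ExactLoc Groth.Agent.CycB.StalkExact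
open Groth.Agent.VarietyB.PullLoc Groth.Agent.VarietyB.ProjForm

variable {X Z : Scheme.{u}} (q : Z ⟶ X) (K : Z.Modules)

/-- A section of `K ⊗ q^* C^i` killed by `d` comes from `K ⊗ q^* Z^i`. -/
theorem exists_of_cyc (hK : FlatMod.IsFlatOver q K) {ι : Type*} {c : ComplexShape ι}
    (C : HomologicalComplex X.Modules c) (i : ι) {U : Z.Opens} (s : Γ((E q K).obj (C.X i), U))
    (hs : ((E q K).map (C.d i (c.next i))).app U s = 0) :
    ∃ t : Γ((E q K).obj (C.cycles i), U), ((E q K).map (C.iCycles i)).app U t = s := by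
  have := preservesFiniteLimits_E q K hK
  let S : ShortComplex X.Modules := ShortComplex.mk (C.iCycles i) (C.d i (c.next i))
    (C.iCycles_d _ _)
  have hS : S.Exact := ShortComplex.exact_of_f_is_kernel _ (C.cyclesIsKernel i (c.next i) rfl)
  have : Mono S.f := inferInstanceAs (Mono (C.iCycles i))
  have h1 : (S.map (E q K)).Exact :=
    hS.map_of_mono_of_preservesKernel (E q K) inferInstance inferInstance
  have : Mono (S.map (E q K)).f := inferInstanceAs (Mono ((E q K).map S.f))
  exact exists_section_of_exact _ h1 s hs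

/-- Cocycles of `K ⊗ q^* C` are locally sums of sections `k ⊗ q^* z`, `z` a cocycle of `C`. -/
theorem exists_ps_of_cyc (hK : FlatMod.IsFlatOver q K) {ι : Type*} {c : ComplexShape ι}
    (C : HomologicalComplex X.Modules c) (i : ι) {U : Z.Opens} (s : Γ((E q K).obj (C.X i), U))
    (hs : ((E q K).map (C.d i (c.next i))).app U s = 0) {y : Z} (hy : y ∈ U) (W₁ : X.Opens)
    (hW₁ : q y ∈ W₁) :
    ∃ (V : Z.Opens) (W : X.Opens) (_ : IsAffineOpen V) (_ : IsAffineOpen W) (hV : V ≤ U)
      (_ : W ≤ W₁) (e : V ≤ q ⁻¹ᵁ W) (_ : y ∈ V) (n : ℕ) (k : Fin n → Γ(K, V))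
      (m : Fin n → Γ(C.X i, W)), (∀ a j, (C.d i j).app W (m a) = 0) ∧
        res _ hV s = ps q K (C.X i) e k m := by
  obtain ⟨t, rfl⟩ := exists_of_cyc q K hK C i s hs
  obtain ⟨V, W, hV, hW, hVU, hWW, hV', e, hyV, n, k, m, h⟩ :=
    (eGen_all q K (C.cycles i) hy t).shrink U hy W₁ hW₁
  refine ⟨V, W, hV, hW, hVU, hWW, e, hyV, n, k, fun a => (C.iCycles i).app W (m a), ?_, ?_⟩
  · intro a j
    have h : C.iCycles i ≫ C.d i j = 0 := C.iCycles_d i j
    exact congr(($h).app W (m a))
  · rw [← app_res]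
    refine (congrArg (((E q K).map (C.iCycles i)).app V) h).trans ?_
    exact map_ps q K (C.cycles i) (C.iCycles i) e k m

end Groth.Agent.FormalB.BCT851
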