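import Groth.Agent.FormalB.BCStalkIso
import Groth.Agent.S0015

/-!
# The comparison of complexes is a quasi-isomorphism on stalks
-/

set_option autoImplicit false
set_option linter.style.haveILetI false
universe u

open CategoryTheory CategoryTheory.Limits AlgebraicGeometry Opposite TopologicalSpace MonoidalCategory
open Groth.Agent.Dcoh.Stalk

namespace Groth.Agent.FormalB.BC

open BCAbs

section

variable {X S X' S' : Scheme.{u}} {f : X ⟶ S} {g : S' ⟶ S} {g' : X' ⟶ X} {f' : X' ⟶ S'}

theorem isPullback_locF' (M : X.Modules) {W U V Z : X.Opens} (hW : W = U ⊔ V) (hZ : Z = U ⊓ V)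
    (h1 : U ≤ W) (h2 : V ≤ W) (h3 : Z ≤ U) (h4 : Z ≤ V) :
    IsPullback ((resL h1).app M) ((resL h2).app M) ((resL h3).app M) ((resL h4).app M) := by
  subst hW hZ
  exact isPullback_locF M U V

/-- stalks of `G ⊗ g^* f_* M_W`. -/
noncomputable abbrev PhiS (f : X ⟶ S) (g : S' ⟶ S) (G : S'.Modules) (W : X.Opens) (s' : S') :
    X.Modules ⥤ ModuleCat.{u} (S'.presheaf.stalk s') := Phi f g G W ⋙ stalkF s'

/-- stalks of `f'_* N_{g'⁻¹ W}`. -/
noncomputable abbrev PsiS (g' : X' ⟶ X) (f' : X' ⟶ S') (W : X.Opens) (s' : S') :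
    X'.Modules ⥤ ModuleCat.{u} (S'.presheaf.stalk s') := Psi g' f' W ⋙ stalkF s'

/-- the comparison on stalks. -/
noncomputable def phiS (w : g' ≫ f = f' ≫ g) (G : S'.Modules) (W : X.Opens) (s' : S') :
    PhiS f g G W s' ⟶ PF g' f' G ⋙ PsiS g' f' W s' where
  app M := (stalkF s').map (phiApp w G W M)
  naturality M N φ := by
    have h := congrArg (stalkF s').map (phiApp_naturality w G W φ)
    rw [Functor.map_comp, Functor.map_comp] at h
    exact h

/-- restriction of `PhiS`. -/
noncomputable def resPhi (f : X ⟶ S) (g : S' ⟶ S) (G : S'.Modules) (s' : S') {W₁ W₂ : X.Opens}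
    (h : W₁ ≤ W₂) : PhiS f g G W₂ s' ⟶ PhiS f g G W₁ s' where
  app M := (stalkF s').map ((T g G).map ((Scheme.Modules.pushforward f).map ((resL h).app M)))
  naturality M N φ := by
    have h := congrArg (fun t => (stalkF s').map ((T g G).map
      ((Scheme.Modules.pushforward f).map t))) ((resL h).naturality φ)
    simp only [Functor.map_comp] at h
    exact h

/-- restriction of `PsiS`. -/
noncomputable def resPsi (g' : X' ⟶ X) (f' : X' ⟶ S') (s' : S') {W₁ W₂ : X.Opens}
    (h : W₁ ≤ W₂) : PsiS g' f' W₂ s' ⟶ PsiS g' f' W₁ s' where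
  app M := (stalkF s').map ((Scheme.Modules.pushforward f').map
    ((resL (g'.preimage_mono h)).app M))
  naturality M N φ := by
    have h := congrArg (fun t => (stalkF s').map ((Scheme.Modules.pushforward f').map t))
      ((resL (g'.preimage_mono h)).naturality φ)
    simp only [Functor.map_comp] at h
    exact h

theorem phiS_res (w : g' ≫ f = f' ≫ g) (G : S'.Modules) (s' : S') {W₁ W₂ : X.Opens}
    (h : W₁ ≤ W₂) (M : X.Modules) :
    (resPhi f g G s' h).app M ≫ (phiS w G W₁ s').app M =
      (phiS w G W₂ s').app M ≫ (resPsi g' f' s' h).app ((PF g' f' G).obj M) := by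
  have h := congrArg (stalkF s').map (phiApp_resL w G h M)
  rw [Functor.map_comp, Functor.map_comp] at h
  exact h

variable (w : g' ≫ f = f' ≫ g) (G : S'.Modules) (s' : S') {F : X.Modules} {N : X'.Modules}
  (J : InjectiveResolution F) (K : InjectiveResolution N)
  (κ : ((PF g' f' G).mapHomologicalComplex (ComplexShape.up ℕ)).obj J.cocomplex ⟶ K.cocomplex)

/-- Mayer-Vietoris. -/
theorem quasiIso_mv (hG : FlatMod.IsFlatOver g G) {W U V Z : X.Opens} (hW : W = U ⊔ V)
    (hZ : Z = U ⊓ V)
    (h₂ : QuasiIso (theta (phiS w G U s') κ)) (h₃ : QuasiIso (theta (phiS w G V s') κ))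
    (h₄ : QuasiIso (theta (phiS w G Z s') κ)) : QuasiIso (theta (phiS w G W s') κ) := by
  have h1 : U ≤ W := hW ▸ le_sup_left
  have h2 : V ≤ W := hW ▸ le_sup_right
  have h3 : Z ≤ U := hZ ▸ inf_le_left
  have h4 : Z ≤ V := hZ ▸ inf_le_right
  have hT := T_preservesFiniteLimits g G hG
  have hp : PreservesFiniteLimits (Scheme.Modules.pushforward f) :=
    PreservesLimits.preservesFiniteLimits _
  have hp' : PreservesFiniteLimits (Scheme.Modules.pushforward f') :=
    PreservesLimits.preservesFiniteLimits _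
  refine quasiIso_theta_of_isPullback κ (phiS w G W s') (phiS w G U s') (phiS w G V s')
    (phiS w G Z s') (resPhi f g G s' h1) (resPhi f g G s' h2) (resPhi f g G s' h3)
    (resPhi f g G s' h4) (resPsi g' f' s' h1) (resPsi g' f' s' h2) (resPsi g' f' s' h3)
    (resPsi g' f' s' h4) (phiS_res w G s' h1) (phiS_res w G s' h2) (phiS_res w G s' h3)
    (phiS_res w G s' h4) (fun n => ?_) (fun n => ?_) (fun n => ?_) (fun n => ?_) h₂ h₃ h₄
  · exact (((isPullback_locF' (J.cocomplex.X n) hW hZ h1 h2 h3 h4).map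
      (Scheme.Modules.pushforward f)).map (T g G)).map (stalkF s')
  · have := epi_pushforward_resL f (J.cocomplex.X n) h3
    exact inferInstanceAs (Epi ((stalkF s').map ((T g G).map _)))
  · have hW' : g' ⁻¹ᵁ W = g' ⁻¹ᵁ U ⊔ g' ⁻¹ᵁ V := by rw [hW]; rfl
    have hZ' : g' ⁻¹ᵁ Z = g' ⁻¹ᵁ U ⊓ g' ⁻¹ᵁ V := by rw [hZ]; rfl
    exact ((isPullback_locF' (K.cocomplex.X n) hW' hZ' (g'.preimage_mono h1)
      (g'.preimage_mono h2) (g'.preimage_mono h3) (g'.preimage_mono h4)).map
      (Scheme.Modules.pushforward f')).map (stalkF s')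
  · have := epi_pushforward_resL f' (K.cocomplex.X n) (g'.preimage_mono h3)
    exact inferInstanceAs (Epi ((stalkF s').map _))

/-- the augmented complex `Φ_W(J)`. -/
noncomputable def augPhi (hG : FlatMod.IsFlatOver g G) (W : X.Opens)
    (hN : Cof f W (g.base s') F) :
    Aug ((PhiS f g G W s').obj F) (((PhiS f g G W s').mapHomologicalComplex _).obj J.cocomplex) where
  a := (PhiS f g G W s').map (J.ι.f 0)
  w := by
    have h1 := J.ι_f_zero_comp_complex_d
    refine ((PhiS f g G W s').map_comp _ _).symm.trans ?_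
    exact (congrArg (PhiS f g G W s').map h1).trans (Functor.map_zero _ _ _)
  mono := by
    rw [ModuleCat.mono_iff_injective]
    exact injective_stalk_T g G hG _ s' (injective_pl_ι f W (g.base s') J)
  exact₀ := (ShortComplex.ShortExact.moduleCat_exact_iff_function_exact _).2
    (exact_stalk_T g G hG _ _ s' (exact_pl_zero f W (g.base s') J))
  exact_succ n := (ShortComplex.ShortExact.moduleCat_exact_iff_function_exact _).2
    (exact_stalk_T g G hG _ _ s' (exact_pl_succ f W (g.base s') J hN n))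

/-- the augmented complex `Ψ_W(K)`. -/
noncomputable def augPsi (W : X.Opens) (hN : Cof f' (g' ⁻¹ᵁ W) s' N) :
    Aug ((PsiS g' f' W s').obj N) (((PsiS g' f' W s').mapHomologicalComplex _).obj K.cocomplex) where
  a := (PsiS g' f' W s').map (K.ι.f 0)
  w := by
    have h1 := K.ι_f_zero_comp_complex_d
    refine ((PsiS g' f' W s').map_comp _ _).symm.trans ?_
    exact (congrArg (PsiS g' f' W s').map h1).trans (Functor.map_zero _ _ _)
  mono := by
    rw [ModuleCat.mono_iff_injective]
    exact injective_pl_ι f' (g' ⁻¹ᵁ W) s' K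
  exact₀ := (ShortComplex.ShortExact.moduleCat_exact_iff_function_exact _).2
    (exact_pl_zero f' (g' ⁻¹ᵁ W) s' K)
  exact_succ n := (ShortComplex.ShortExact.moduleCat_exact_iff_function_exact _).2
    (exact_pl_succ f' (g' ⁻¹ᵁ W) s' K hN n)

end

end Groth.Agent.FormalB.BC
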