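import Groth.Prelude.Def_Formal2
import Groth.Agent.FormalB.ModPow
import Groth.Agent.PerfB.TildeExact
import Groth.Agent.PerfB.ExactRestrict

/-!
# The functor `M ↦ M~|_U` for an open `U` of `Spec A`
-/

set_option autoImplicit false
universe u

open CategoryTheory CategoryTheory.Limits AlgebraicGeometry Opposite TopologicalSpace
open Groth.Agent.FormalB.ModPow

namespace Groth.Agent.FormalB.PuncTheta

section Tilde

variable {R : CommRingCat.{u}}

/-- Morphisms out of `M~` are determined by their effect on global sections. -/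
theorem tilde_hom_ext {M : ModuleCat.{u} R} {N : (Spec R).Modules} {φ ψ : tilde M ⟶ N}
    (h : ∀ m : M, φ.app ⊤ ((tilde.toOpen M ⊤).hom m) = ψ.app ⊤ ((tilde.toOpen M ⊤).hom m)) :
    φ = ψ := by
  apply (tilde.adjunction.homEquiv M N).injective
  ext m
  exact h m

theorem tilde_map_app_toOpen {M N : ModuleCat.{u} R} (f : M ⟶ N) (U : (Spec R).Opens) (m : M) :
    (tilde.map f).app U ((tilde.toOpen M U).hom m) = (tilde.toOpen N U).hom (f.hom m) :=
  congrArg (fun t => t.hom m) (tilde.toOpen_map_app f U)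

end Tilde

variable {A : Type u} [CommRing A]

/-- `M ↦ M~|_U`. -/
noncomputable def Theta (U : (Spec (CommRingCat.of A)).Opens) :
    ModuleCat.{u} A ⥤ (U : Scheme.{u}).Modules :=
  tilde.functor (CommRingCat.of A) ⋙ Scheme.Modules.restrictFunctor U.ι

variable (U : (Spec (CommRingCat.of A)).Opens)

/-- The right adjoint: sections over `U`, as an `A`-module. -/
noncomputable def Gam (U : (Spec (CommRingCat.of A)).Opens) :
    (U : Scheme.{u}).Modules ⥤ ModuleCat.{u} A :=
  Scheme.Modules.pushforward U.ι ⋙ moduleSpecΓFunctor (R := CommRingCat.of A)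

/-- The adjunction. -/
noncomputable def adj (U : (Spec (CommRingCat.of A)).Opens) : Theta U ⊣ Gam U :=
  (tilde.adjunction (R := CommRingCat.of A)).comp (Scheme.Modules.restrictAdjunction U.ι)

instance : (Theta U).IsLeftAdjoint := (adj U).isLeftAdjoint
instance : (Gam U).IsRightAdjoint := (adj U).isRightAdjoint

instance : PreservesColimitsOfSize.{u, u} (Theta U) := (adj U).leftAdjoint_preservesColimits
instance : PreservesFiniteColimits (Theta U) :=
  ⟨fun _ _ _ => (adj U).leftAdjoint_preservesColimits.preservesColimitsOfShape⟩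
instance : PreservesLimitsOfSize.{u, u} (Gam U) := (adj U).rightAdjoint_preservesLimits

instance : (Theta U).Additive :=
  have := preservesBinaryBiproducts_of_preservesBinaryCoproducts (Theta U)
  Functor.additive_of_preservesBinaryBiproducts _

instance : (Gam U).Additive := (adj U).right_adjoint_additive

instance : PreservesFiniteLimits (Theta U) := by
  have h1 : PreservesFiniteLimits (tilde.functor (CommRingCat.of A)) :=
    Groth.Agent.PerfB.TildeExact.preservesFiniteLimits_tilde _
  have h2 : PreservesFiniteLimits (Scheme.Modules.restrictFunctor U.ι) := inferInstance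
  exact comp_preservesFiniteLimits _ _

/-! ### `A`-linearity -/

/-- The two `A`-module structures agree. -/
theorem gam_map_smulMod (Z : (U : Scheme.{u}).Modules) (a : A) :
    (Gam U).map (Formal.smulMod A Z a) = ModuleCat.ofHom (a • (LinearMap.id : _ →ₗ[A] (Gam U).obj Z)) := by
  ext x
  have h : resΓ (U : Scheme.{u}) ⊤ (Coh.toGlobal ((U : Scheme.{u}) ↘ Spec (CommRingCat.of A)) a) =
      (Coh.toGlobal ((U : Scheme.{u}) ↘ Spec (CommRingCat.of A)) a) :=
    congrArg (fun t => t.hom (Coh.toGlobal ((U : Scheme.{u}) ↘ Spec (CommRingCat.of A)) a))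
      ((U : Scheme.{u}).ringCatSheaf.obj.map_id (op ⊤))
  refine Eq.trans (smulMod_app (A := A) Z a ⊤ x) ?_
  refine Eq.trans (congrArg (fun t => t • (show Γ(Z, ⊤) from x)) h) ?_
  rfl

/-- Multiplication by `a` on `M` induces multiplication by `a` on `M~|_U`. -/
theorem theta_map_smul (M : Type u) [AddCommGroup M] [Module A M] (a : A) :
    (Theta U).map (ModuleCat.ofHom (a • (LinearMap.id : M →ₗ[A] M))) =
      Formal.smulMod A ((Theta U).obj (ModuleCat.of A M)) a := by
  apply ((adj U).homEquiv _ _).injective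
  rw [Adjunction.homEquiv_unit, Adjunction.homEquiv_unit, gam_map_smulMod,
    Adjunction.unit_naturality]
  ext x
  exact ((adj U).unit.app (ModuleCat.of A M)).hom.map_smul a x

/-- `M~|_U → N~|_U` for a linear map. -/
noncomputable abbrev thetaMap {M N : Type u} [AddCommGroup M] [Module A M] [AddCommGroup N]
    [Module A N] (q : M →ₗ[A] N) :
    (Theta U).obj (ModuleCat.of A M) ⟶ (Theta U).obj (ModuleCat.of A N) :=
  (Theta U).map (ModuleCat.ofHom q)

/-- factoring through a quotient, in `ModuleCat` -/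
theorem exists_desc {M N : Type u} [AddCommGroup M] [Module A M]
    [AddCommGroup N] [Module A N] (q : M →ₗ[A] N) (hq : Function.Surjective q)
    {P : ModuleCat.{u} A} (φ : ModuleCat.of A M ⟶ P) (h : ∀ m ∈ LinearMap.ker q, φ.hom m = 0) :
    ∃ ψ : ModuleCat.of A N ⟶ P, ModuleCat.ofHom q ≫ ψ = φ := by
  let e : (M ⧸ LinearMap.ker q) ≃ₗ[A] N := q.quotKerEquivOfSurjective hq
  refine ⟨ModuleCat.ofHom (((LinearMap.ker q).liftQ φ.hom h).comp e.symm.toLinearMap), ?_⟩
  ext m
  have : e.symm (q m) = Submodule.Quotient.mk m := by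
    rw [LinearEquiv.symm_apply_eq]
    rfl
  change (LinearMap.ker q).liftQ φ.hom h (e.symm (q m)) = _
  rw [this]
  rfl

/-- If `q : M → N` is surjective with kernel `J M`, then `N~|_U` is `M~|_U` modulo `J`. -/
theorem isModPow_thetaMap (J : Ideal A) {M N : Type u} [AddCommGroup M] [Module A M]
    [AddCommGroup N] [Module A N] (q : M →ₗ[A] N) (hq : Function.Surjective q)
    (hker : LinearMap.ker q = J • (⊤ : Submodule A M)) : IsModPow J (thetaMap U q) := by
  have hepi : Epi (ModuleCat.ofHom q) := (ModuleCat.epi_iff_surjective _).2 hq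
  refine ⟨inferInstance, fun a ha => ?_, fun {Z} φ hφ => ?_⟩
  · rw [← theta_map_smul, ← Functor.map_comp]
    have : ModuleCat.ofHom (a • (LinearMap.id : M →ₗ[A] M)) ≫ ModuleCat.ofHom q = 0 := by
      ext x
      change q (a • x) = 0
      have : a • x ∈ LinearMap.ker q := by
        rw [hker]
        exact Submodule.smul_mem_smul ha trivial
      exact this
    rw [this, Functor.map_zero]
  · let φ' : ModuleCat.of A M ⟶ (Gam U).obj Z := (adj U).homEquiv _ _ φ
    have h1 : ∀ a ∈ J, ∀ m : M, φ'.hom (a • m) = 0 := by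
      intro a ha m
      have h2 : ModuleCat.ofHom (a • (LinearMap.id : M →ₗ[A] M)) ≫ φ' = 0 := by
        change _ ≫ (adj U).homEquiv _ _ φ = _
        rw [← Adjunction.homEquiv_naturality_left, theta_map_smul, hφ a ha]
        rw [Adjunction.homEquiv_unit, Functor.map_zero, comp_zero]
      exact congrArg (fun t => t.hom m) h2
    obtain ⟨ψ', hψ'⟩ := exists_desc q hq φ' (by
      intro m hm
      rw [hker] at hm
      refine Submodule.smul_induction_on hm (fun a ha m _ => h1 a ha m) ?_
      intro x y hx hy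
      rw [map_add, hx, hy, add_zero])
    refine ⟨((adj U).homEquiv _ _).symm ψ', ?_⟩
    apply ((adj U).homEquiv _ _).injective
    rw [Adjunction.homEquiv_naturality_left, Equiv.apply_symm_apply]
    exact hψ'

/-! ### Vanishing -/

theorem isZero_of_subsingleton_sections {X : Scheme.{u}} {M : X.Modules}
    (h : ∀ U : X.Opens, Subsingleton Γ(M, U)) : IsZero M := by
  rw [IsZero.iff_id_eq_zero]
  ext U x
  exact (h U).elim _ _

theorem subsingleton_sections_of_isZero {X : Scheme.{u}} {M : X.Modules} (h : IsZero M)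
    (U : X.Opens) : Subsingleton Γ(M, U) := by
  constructor
  intro x y
  have h1 : (𝟙 M : M ⟶ M) = 0 := h.eq_of_src _ _
  have h2 : ∀ z : Γ(M, U), z = 0 := fun z => congrArg (fun t : M ⟶ M => t.app U z) h1
  rw [h2 x, h2 y]

theorem image_preimage_eq {X : Scheme.{u}} {U V : X.Opens} (h : V ≤ U) :
    U.ι ''ᵁ (U.ι ⁻¹ᵁ V) = V := by
  rw [Scheme.Hom.image_preimage_eq_opensRange_inf, Scheme.Opens.opensRange_ι]
  exact inf_eq_right.2 h

/-- The basic open `D(g)` as an open of the scheme `Spec A`. -/
def D (g : A) : (Spec (CommRingCat.of A)).Opens := PrimeSpectrum.basicOpen g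

theorem mem_D {g : A} {x : Spec (CommRingCat.of A)} :
    x ∈ D g ↔ g ∉ (show PrimeSpectrum A from x).asIdeal := Iff.rfl

/-- basic opens form a basis -/
theorem exists_D_le {U : (Spec (CommRingCat.of A)).Opens} {x : Spec (CommRingCat.of A)}
    (hx : x ∈ U) : ∃ g : A, x ∈ D g ∧ D g ≤ U := by
  obtain ⟨_, ⟨_, ⟨g, rfl⟩, rfl⟩, hxg, hgU⟩ :=
    PrimeSpectrum.isBasis_basic_opens.exists_subset_of_mem_open hx U.2
  exact ⟨g, hxg, hgU⟩

/-- sections of a module on `Spec R` form an `R`-module -/
noncomputable abbrev moduleSections' (R : CommRingCat.{u}) (N : (Spec R).Modules)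
    (V : (Spec R).Opens) : Module R Γ(N, V) := inferInstance

/-- sections of a module on `Spec A` form an `A`-module -/
noncomputable scoped instance moduleSections (N : (Spec (CommRingCat.of A)).Modules)
    (V : (Spec (CommRingCat.of A)).Opens) : Module A Γ(N, V) :=
  moduleSections' (CommRingCat.of A) N V

/-- sections of `M~` over `V` coming from `M` -/
noncomputable def toO (M : Type u) [AddCommGroup M] [Module A M]
    (V : (Spec (CommRingCat.of A)).Opens) :
    M →ₗ[A] Γ(tilde (R := CommRingCat.of A) (ModuleCat.of A M), V) :=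
  (tilde.toOpen (R := CommRingCat.of A) (ModuleCat.of A M) V).hom

theorem isLocalizedModule_toOpen (R : CommRingCat.{u}) (M : ModuleCat.{u} R) (g : R) :
    IsLocalizedModule.Away g (tilde.toOpen M (PrimeSpectrum.basicOpen g)).hom := inferInstance

instance isLocalizedModule_toO (M : Type u) [AddCommGroup M] [Module A M] (g : A) :
    IsLocalizedModule (Submonoid.powers g) (toO M (D g)) :=
  isLocalizedModule_toOpen (CommRingCat.of A) (ModuleCat.of A M) g

theorem isZero_theta_of (Q : Type u) [AddCommGroup Q] [Module A Q]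
    (h : ∀ x ∈ U, ∃ g : A, x ∈ D g ∧ ∀ q : Q, ∃ k : ℕ, g ^ k • q = 0) :
    IsZero ((Theta U).obj (ModuleCat.of A Q)) := by
  refine isZero_of_subsingleton_sections fun V => ?_
  have key : ∀ z : Spec (CommRingCat.of A), z ∈ U →
      Subsingleton (LocalizedModule (show PrimeSpectrum A from z).asIdeal.primeCompl Q) := by
    intro z hz
    obtain ⟨g, hzg, hgU⟩ := h z hz
    have h0 : ∀ q : LocalizedModule (show PrimeSpectrum A from z).asIdeal.primeCompl Q,
        q = 0 := by
      intro q
      induction q using LocalizedModule.induction_on with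
      | _ m s =>
        obtain ⟨k, hk⟩ := hgU m
        rw [← LocalizedModule.zero_mk 1, LocalizedModule.mk_eq]
        refine ⟨⟨g ^ k, ?_⟩, ?_⟩
        · exact Submonoid.pow_mem _ (mem_D.1 hzg) k
        · simp only [smul_zero, one_smul]
          exact hk
    exact ⟨fun a b => by rw [h0 a, h0 b]⟩
  refine ⟨fun x y => Subtype.ext (funext fun z => ?_)⟩
  have := key z.1 (by
    obtain ⟨_, w, _, rfl⟩ := z
    exact w.2)
  exact Subsingleton.elim _ _

/-- `Q~|_U = 0` iff every element of `Q` is killed by a power of `g`, whenever `D(g) ⊆ U`. -/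
theorem isZero_theta_iff (Q : Type u) [AddCommGroup Q] [Module A Q] :
    IsZero ((Theta U).obj (ModuleCat.of A Q)) ↔
      ∀ g : A, D g ≤ U → ∀ q : Q, ∃ k : ℕ, g ^ k • q = 0 := by
  constructor
  · intro h g hg q
    have h1 : Subsingleton Γ(tilde (R := CommRingCat.of A) (ModuleCat.of A Q),
        U.ι ''ᵁ (U.ι ⁻¹ᵁ (D g))) :=
      subsingleton_sections_of_isZero h (U.ι ⁻¹ᵁ (D g))
    rw [image_preimage_eq hg] at h1
    have h2 : toO Q (D g) q = toO Q (D g) 0 := h1.elim _ _
    obtain ⟨⟨_, k, rfl⟩, hk⟩ := IsLocalizedModule.exists_of_eq (S := Submonoid.powers g) h2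
    refine ⟨k, ?_⟩
    rw [smul_zero] at hk
    exact hk
  · intro h
    refine isZero_theta_of U Q fun x hx => ?_
    obtain ⟨g, hxg, hgU⟩ := exists_D_le hx
    exact ⟨g, hxg, h g hgU⟩

/-- `Q` is torsion off the complement of `U`. -/
def IsTorsOn (Q : Type u) [AddCommGroup Q] [Module A Q] : Prop :=
  ∀ g : A, D g ≤ U → ∀ q : Q, ∃ k : ℕ, g ^ k • q = 0

theorem isTorsOn_of_forall_mem {Q : Type u} [AddCommGroup Q] [Module A Q]
    (h : ∀ x ∈ U, ∃ g : A, x ∈ D g ∧ ∀ q : Q, ∃ k : ℕ, g ^ k • q = 0) : IsTorsOn U Q :=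
  (isZero_theta_iff U Q).1 (isZero_theta_of U Q h)

section

variable {M N : Type u} [AddCommGroup M] [Module A M] [AddCommGroup N] [Module A N]

theorem isZero_kernel_iff (φ : M →ₗ[A] N) :
    IsZero (kernel (thetaMap U φ)) ↔ IsTorsOn U (LinearMap.ker φ) := by
  rw [IsTorsOn, ← isZero_theta_iff]
  exact ((PreservesKernel.iso (Theta U) (ModuleCat.ofHom φ)).symm ≪≫
    (Theta U).mapIso (ModuleCat.kernelIsoKer (ModuleCat.ofHom φ))).isZero_iff

theorem isZero_cokernel_iff (φ : M →ₗ[A] N) :
    IsZero (cokernel (thetaMap U φ)) ↔ IsTorsOn U (N ⧸ LinearMap.range φ) := by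
  rw [IsTorsOn, ← isZero_theta_iff]
  exact ((PreservesCokernel.iso (Theta U) (ModuleCat.ofHom φ)).symm ≪≫
    (Theta U).mapIso (ModuleCat.cokernelIsoRangeQuotient (ModuleCat.ofHom φ))).isZero_iff

theorem mono_thetaMap_iff (φ : M →ₗ[A] N) :
    Mono (thetaMap U φ) ↔ IsTorsOn U (LinearMap.ker φ) := by
  rw [← isZero_kernel_iff, Preadditive.mono_iff_isZero_kernel]

theorem epi_thetaMap_iff (φ : M →ₗ[A] N) :
    Epi (thetaMap U φ) ↔ IsTorsOn U (N ⧸ LinearMap.range φ) := by
  rw [← isZero_cokernel_iff, Preadditive.epi_iff_isZero_cokernel]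

theorem isIso_thetaMap_iff (φ : M →ₗ[A] N) :
    IsIso (thetaMap U φ) ↔ IsTorsOn U (LinearMap.ker φ) ∧ IsTorsOn U (N ⧸ LinearMap.range φ) := by
  rw [← mono_thetaMap_iff, ← epi_thetaMap_iff, isIso_iff_mono_and_epi]

end

end Groth.Agent.FormalB.PuncTheta
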