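import Groth.Agent.FormalB.FreeUpTo2
import Groth.Agent.FormalB.PuncTheta
import Groth.Agent.Localalg.DeltaFun
import Mathlib.Algebra.Category.ModuleCat.Abelian

/-!
# Finiteness of the values of a delta functor on locally free modules

`T` is a delta functor from `O_U`-modules to `A`-modules, `U` open in `Spec A`. If `T^0` is left exact
and `T^0(B~|_U)` (and `T^1(B~|_U)`) is finite, then so is `T^0(N~|_U)` (and `T^1(N~|_U)`) for `N` which
is free over `B` up to powers of `g i`, where the `D(g i)` cover `U`.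
-/

set_option autoImplicit false
universe u

open CategoryTheory CategoryTheory.Limits AlgebraicGeometry Opposite TopologicalSpace
open Groth.Agent.Localalg.DeltaFun Groth.Agent.FormalB.PuncTheta Groth.Agent.FormalB.FreeUpTo

namespace Groth.Agent.FormalB.DeltaFin

section Algebra

variable {A : Type u} [CommRing A] [IsNoetherianRing A]

theorem finite_of_injective {M N : Type*} [AddCommGroup M] [Module A M] [AddCommGroup N]
    [Module A N] [Module.Finite A N] (f : M →ₗ[A] N) (hf : Function.Injective f) :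
    Module.Finite A M := Module.Finite.of_injective f hf

/-- middle term of an exact sequence -/
theorem fg_of_exact {M N P : Type*} [AddCommGroup M] [Module A M] [AddCommGroup N]
    [Module A N] [AddCommGroup P] [Module A P] (f : M →ₗ[A] N) (g : N →ₗ[A] P)
    [Module.Finite A M] (W : Submodule A N) (hW : (W.map g).FG)
    (h : ∀ x ∈ W, g x = 0 → x ∈ LinearMap.range f) : W.FG := by
  refine Submodule.fg_of_fg_map_of_fg_inf_ker g hW ?_
  have h1 : (LinearMap.range f).FG := by
    rw [← Submodule.map_top]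
    exact Submodule.FG.map _ Module.Finite.fg_top
  have h2 : IsNoetherian A (LinearMap.range f) := isNoetherian_of_fg_of_noetherian _ h1
  exact isNoetherian_submodule.1 h2 _ (fun x hx => h x hx.1 hx.2)

theorem finite_of_exact {M N P : Type*} [AddCommGroup M] [Module A M] [AddCommGroup N]
    [Module A N] [AddCommGroup P] [Module A P] (f : M →ₗ[A] N) (g : N →ₗ[A] P)
    [Module.Finite A M] [Module.Finite A P] (h : ∀ x, g x = 0 → x ∈ LinearMap.range f) :
    Module.Finite A N := by
  refine ⟨fg_of_exact f g ⊤ ?_ (fun x _ => h x)⟩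
  have : IsNoetherian A P := isNoetherian_of_isNoetherianRing_of_finite A P
  exact IsNoetherian.noetherian _

theorem finite_of_exact' {M N P : ModuleCat.{u} A} (f : M ⟶ N) (g : N ⟶ P)
    (hM : Module.Finite A M) (hP : Module.Finite A P)
    (h : ∀ x, g.hom x = 0 → x ∈ LinearMap.range f.hom) :
    Module.Finite A N := finite_of_exact f.hom g.hom h

theorem fg_of_exact' {M N P : ModuleCat.{u} A} (f : M ⟶ N) (g : N ⟶ P)
    (_ : Module.Finite A M) (W : Submodule A N) (hW : (W.map g.hom).FG)
    (h : ∀ x ∈ W, g.hom x = 0 → x ∈ LinearMap.range f.hom) : W.FG :=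
  fg_of_exact f.hom g.hom W hW h

/-- elements killed by `b`. -/
def kill (b : Ideal A) (M : Type*) [AddCommGroup M] [Module A M] : Submodule A M where
  carrier := {x | ∀ a ∈ b, a • x = 0}
  add_mem' := by
    intro x y hx hy a ha
    rw [smul_add, hx a ha, hy a ha, add_zero]
  zero_mem' := fun a _ => smul_zero a
  smul_mem' := by
    intro c x hx a ha
    rw [smul_comm, hx a ha, smul_zero]

omit [IsNoetherianRing A] in
theorem mem_kill {b : Ideal A} {M : Type*} [AddCommGroup M] [Module A M] {x : M} :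
    x ∈ kill b M ↔ ∀ a ∈ b, a • x = 0 := Iff.rfl

omit [IsNoetherianRing A] in
/-- additive functors: the value at a finite power embeds in the power of the value -/
theorem exists_pi_injective (F : ModuleCat.{u} A ⥤ ModuleCat.{u} A) [F.Additive]
    (B : Type u) [AddCommGroup B] [Module A B] (κ : Type) [Finite κ] :
    ∃ θ : F.obj (ModuleCat.of A (κ → B)) →ₗ[A] (κ → F.obj (ModuleCat.of A B)),
      Function.Injective θ := by
  classical
  have := Fintype.ofFinite κ
  let p : ∀ k : κ, ModuleCat.of A (κ → B) ⟶ ModuleCat.of A B :=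
    fun k => ModuleCat.ofHom (LinearMap.proj k)
  let s : ∀ k : κ, ModuleCat.of A B ⟶ ModuleCat.of A (κ → B) :=
    fun k => ModuleCat.ofHom (LinearMap.single A (fun _ : κ => B) k)
  have hsum : ∑ k : κ, p k ≫ s k = 𝟙 _ := by
    refine ModuleCat.hom_ext (LinearMap.ext fun x => ?_)
    rw [ModuleCat.hom_sum, LinearMap.sum_apply]
    change ∑ k : κ, (Pi.single k (x k) : κ → B) = x
    exact Finset.univ_sum_single x
  refine ⟨LinearMap.pi fun k => (F.map (p k)).hom, fun x y hxy => ?_⟩
  have h1 : ∀ z : F.obj (ModuleCat.of A (κ → B)), z = ∑ k : κ, (F.map (s k)).hom ((F.map (p k)).hom z) := by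
    intro z
    have h2 : F.map (∑ k : κ, p k ≫ s k) = 𝟙 _ := by rw [hsum, F.map_id]
    rw [F.map_sum] at h2
    have h3 := congrArg (fun t => t.hom z) h2
    simp only [ModuleCat.hom_sum, LinearMap.sum_apply, F.map_comp, ModuleCat.hom_comp,
      LinearMap.comp_apply, ModuleCat.hom_id, LinearMap.id_apply] at h3
    exact h3.symm
  rw [h1 x, h1 y]
  refine Finset.sum_congr rfl fun k _ => ?_
  have : (F.map (p k)).hom x = (F.map (p k)).hom y := congrFun hxy k
  rw [this]

theorem finite_pi (F : ModuleCat.{u} A ⥤ ModuleCat.{u} A) [F.Additive]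
    (B : Type u) [AddCommGroup B] [Module A B] (κ : Type) [Finite κ]
    (h : Module.Finite A (F.obj (ModuleCat.of A B))) :
    Module.Finite A (F.obj (ModuleCat.of A (κ → B))) := by
  obtain ⟨θ, hθ⟩ := exists_pi_injective F B κ
  exact Module.Finite.of_injective θ hθ

end Algebra

section Delta

variable {A : Type u} [CommRing A] (U : (Spec (CommRingCat.of A)).Opens)

/-- A map with torsion kernel gives a short exact sequence on `U`. -/
theorem shortExact_theta {M N : Type u} [AddCommGroup M] [Module A M] [AddCommGroup N]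
    [Module A N] (φ : M →ₗ[A] N) (h : IsTorsOn U (LinearMap.ker φ)) :
    (ShortComplex.mk (thetaMap U φ) (thetaMap U (LinearMap.range φ).mkQ) (by
      rw [← Functor.map_comp]
      have : ModuleCat.ofHom φ ≫ ModuleCat.ofHom (LinearMap.range φ).mkQ = 0 := by
        ext x
        change (LinearMap.range φ).mkQ (φ x) = 0
        simp
      rw [this, Functor.map_zero])).ShortExact where
  mono_f := (mono_thetaMap_iff U φ).2 h
  epi_g := by
    have : Epi (ModuleCat.ofHom (LinearMap.range φ).mkQ) :=
      (ModuleCat.epi_iff_surjective _).2 (Submodule.mkQ_surjective _)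
    dsimp
    infer_instance
  exact := by
    have h1 : (ShortComplex.mk (ModuleCat.ofHom φ) (ModuleCat.ofHom (LinearMap.range φ).mkQ) (by
        ext x
        change (LinearMap.range φ).mkQ (φ x) = 0
        simp)).Exact := by
      rw [ShortComplex.moduleCat_exact_iff]
      intro x hx
      have hx' : (LinearMap.range φ).mkQ x = 0 := hx
      rw [Submodule.mkQ_apply, Submodule.Quotient.mk_eq_zero] at hx'
      exact hx'
    exact h1.map (Theta U)

variable (T : DeltaFunctor (U : Scheme.{u}).Modules (ModuleCat.{u} A))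
  (hT : ∀ {F G : (U : Scheme.{u}).Modules} (φ : F ⟶ G) [Mono φ],
    Function.Injective ((T.T 0).map φ).hom)

variable {ι : Type} [Finite ι] (g : ι → A) (hg : ∀ x ∈ U, ∃ i, x ∈ D (g i))

/-- the functor `M ↦ T^n(M~|_U)`. -/
noncomputable abbrev TΘ (n : ℕ) : ModuleCat.{u} A ⥤ ModuleCat.{u} A := Theta U ⋙ T.T n

variable [IsNoetherianRing A] {B N : Type u} [AddCommGroup B] [Module A B] [AddCommGroup N]
  [Module A N]

include hT hg

theorem finite_zero (κ : ι → Type) (hκ : ∀ i, Finite (κ i))
    (h : ∀ i, IsFreeUpTo (g i) B N (κ i))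
    (hB : Module.Finite A ((TΘ U T 0).obj (ModuleCat.of A B))) :
    Module.Finite A ((TΘ U T 0).obj (ModuleCat.of A N)) := by
  obtain ⟨κ', hκ', φ, hφ, -⟩ := exists_embedding g κ hκ h
  have h1 : IsTorsOn U (LinearMap.ker φ) := by
    refine isTorsOn_of_forall_mem U fun x hx => ?_
    obtain ⟨i, hi⟩ := hg x hx
    refine ⟨g i, hi, fun q => ?_⟩
    obtain ⟨k, hk⟩ := hφ i
    exact ⟨k, Subtype.ext (hk q.1 q.2)⟩
  have h2 : Mono (thetaMap U φ) := (mono_thetaMap_iff U φ).2 h1
  have h3 := hT (thetaMap U φ)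
  have h4 : Module.Finite A ((T.T 0).obj ((Theta U).obj (ModuleCat.of A (κ' → B)))) :=
    finite_pi (TΘ U T 0) B κ' hB
  exact Module.Finite.of_injective _ h3

/-- `T^0` and `T^1` finite on `B` implies finite on locally free modules. -/
theorem finite_one (κ : ι → Type) (hκ : ∀ i, Finite (κ i))
    (h : ∀ i, IsFreeUpTo (g i) B N (κ i))
    (hB : Module.Finite A ((TΘ U T 0).obj (ModuleCat.of A B)))
    (hB' : Module.Finite A ((TΘ U T 1).obj (ModuleCat.of A B))) :
    Module.Finite A ((TΘ U T 1).obj (ModuleCat.of A N)) := by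
  obtain ⟨κ', hκ', φ, hφ, hQ⟩ := exists_embedding g κ hκ h
  choose κ'' hκ'' hQ using hQ
  have h0 := finite_zero U T hT g hg κ'' hκ'' hQ hB
  have h1 : IsTorsOn U (LinearMap.ker φ) := by
    refine isTorsOn_of_forall_mem U fun x hx => ?_
    obtain ⟨i, hi⟩ := hg x hx
    refine ⟨g i, hi, fun q => ?_⟩
    obtain ⟨k, hk⟩ := hφ i
    exact ⟨k, Subtype.ext (hk q.1 q.2)⟩
  have hS := shortExact_theta U φ h1
  have h2 : Module.Finite A ((T.T 1).obj ((Theta U).obj (ModuleCat.of A (κ' → B)))) :=
    finite_pi (TΘ U T 1) B κ' hB'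
  exact finite_of_exact' (T.δ hS 0) ((T.T 1).map (thetaMap U φ)) h0 h2
    ((ShortComplex.moduleCat_exact_iff _).1 (T.exact₁ hS 0))

/-- `T^0` finite on `B`: the part of `T^1(N~|_U)` killed by `g i ^ e` is finite. -/
theorem fg_kill_one (hlin : ∀ (F : (U : Scheme.{u}).Modules) (a : A) (x : (T.T 1).obj F),
      ((T.T 1).map (Formal.smulMod A F a)).hom x = a • x) (κ : ι → Type) (hκ : ∀ i, Finite (κ i))
    (h : ∀ i, IsFreeUpTo (g i) B N (κ i))
    (hB : Module.Finite A ((TΘ U T 0).obj (ModuleCat.of A B))) (b : Ideal A) (e : ℕ)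
    (hb : ∀ i, g i ^ e ∈ b) :
    (kill b ((TΘ U T 1).obj (ModuleCat.of A N))).FG := by
  classical
  have := Fintype.ofFinite ι
  let φ : N →ₗ[A] (ι → N) := LinearMap.pi fun j => g j ^ e • LinearMap.id
  have hφ : ∀ x j, φ x j = g j ^ e • x := fun _ _ => rfl
  have h1 : IsTorsOn U (LinearMap.ker φ) := by
    refine isTorsOn_of_forall_mem U fun x hx => ?_
    obtain ⟨i, hi⟩ := hg x hx
    refine ⟨g i, hi, fun q => ⟨e, Subtype.ext ?_⟩⟩
    exact congrFun q.2 i
  have hS := shortExact_theta U φ h1
  have h0 : Module.Finite A ((TΘ U T 0).obj (ModuleCat.of A ((ι → N) ⧸ LinearMap.range φ))) :=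
    finite_zero U T hT g hg (fun i => {j : ι // j ≠ i} × κ i)
      (fun i => by have := hκ i; infer_instance)
      (fun i => (h i).trans (isFreeUpTo_coker_smul g e i φ hφ)) hB
  refine fg_of_exact' (T.δ hS 0) ((T.T 1).map (thetaMap U φ)) h0 _ ?_ ?_
  · -- the image is zero
    have : Submodule.map ((T.T 1).map (thetaMap U φ)).hom
        (kill b ((TΘ U T 1).obj (ModuleCat.of A N))) = ⊥ := by
      rw [eq_bot_iff]
      rintro _ ⟨x, hx, rfl⟩
      rw [Submodule.mem_bot]
      let s : ∀ k : ι, ModuleCat.of A N ⟶ ModuleCat.of A (ι → N) :=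
        fun k => ModuleCat.ofHom (LinearMap.single A (fun _ : ι => N) k)
      have h2 : ModuleCat.ofHom φ =
          ∑ k : ι, ModuleCat.ofHom (g k ^ e • (LinearMap.id : N →ₗ[A] N)) ≫ s k := by
        refine ModuleCat.hom_ext (LinearMap.ext fun x => ?_)
        rw [ModuleCat.hom_sum, LinearMap.sum_apply]
        change φ x = ∑ k : ι, (Pi.single k (g k ^ e • x) : ι → N)
        exact (Finset.univ_sum_single (φ x)).symm
      have h3 : (T.T 1).map (thetaMap U φ) = ∑ k : ι,
          (T.T 1).map (Formal.smulMod A ((Theta U).obj (ModuleCat.of A N)) (g k ^ e)) ≫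
            (T.T 1).map ((Theta U).map (s k)) := by
        rw [thetaMap, h2, (Theta U).map_sum, (T.T 1).map_sum]
        refine Finset.sum_congr rfl fun k _ => ?_
        rw [Functor.map_comp, Functor.map_comp, theta_map_smul]
      rw [h3, ModuleCat.hom_sum, LinearMap.sum_apply]
      refine Finset.sum_eq_zero fun k _ => ?_
      rw [ModuleCat.hom_comp, LinearMap.comp_apply, hlin, hx _ (hb k), map_zero]
    rw [this]
    exact Submodule.fg_bot
  · intro x _ hx
    exact (ShortComplex.moduleCat_exact_iff _).1 (T.exact₁ hS 0) x hx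

end Delta

end Groth.Agent.FormalB.DeltaFin
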