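import Groth.Agent.Localalg.LCInst
import Groth.Agent.FormalB.DeltaFin

/-!
# Local cohomology surjects onto cohomology of the punctured spectrum, abstract form

`T` is a delta functor on `A`-modules with a natural map `η : M → T^0 M` with kernel `Γ_I M`,
surjective for `M` injective, `T^1 = 0` on injectives. Then `H^1_I(M)` has a submodule mapping onto
`T^0 M / M` and `H^2_I(M)` has a submodule mapping onto `T^1 M`.
-/

set_option autoImplicit false
universe u

open CategoryTheory CategoryTheory.Limits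
open Groth.Agent.Localalg.DeltaFun Groth.Agent.Localalg.LCAbs Groth.Agent.Localalg.Gam

namespace Groth.Agent.FormalB.DeltaComp

section Algebra

variable {A : Type u} [CommRing A]

theorem exists_lift_range {W P Q : Type*} [AddCommGroup W] [Module A W] [AddCommGroup P]
    [Module A P] [AddCommGroup Q] [Module A Q] (p : W →ₗ[A] P) (q : W →ₗ[A] Q)
    (hq : Function.Surjective q) (h : LinearMap.ker p ≤ LinearMap.ker q) :
    ∃ θ : LinearMap.range p →ₗ[A] Q, Function.Surjective θ := by
  refine ⟨((LinearMap.ker p).liftQ q h).comp p.quotKerEquivRange.symm.toLinearMap, ?_⟩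
  intro y
  obtain ⟨w, rfl⟩ := hq y
  refine ⟨p.quotKerEquivRange (Submodule.Quotient.mk w), ?_⟩
  change (LinearMap.ker p).liftQ q h (p.quotKerEquivRange.symm _) = _
  rw [LinearEquiv.symm_apply_apply]
  rfl

theorem finite_of_lift [IsNoetherianRing A] {W P Q : Type*} [AddCommGroup W] [Module A W]
    [AddCommGroup P] [Module A P] [AddCommGroup Q] [Module A Q] [Module.Finite A P]
    (p : W →ₗ[A] P) (q : W →ₗ[A] Q)
    (hq : Function.Surjective q) (h : LinearMap.ker p ≤ LinearMap.ker q) :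
    Module.Finite A Q := by
  obtain ⟨θ, hθ⟩ := exists_lift_range p q hq h
  have : IsNoetherian A P := isNoetherian_of_isNoetherianRing_of_finite A P
  have : Module.Finite A (LinearMap.range p) := inferInstance
  exact Module.Finite.of_surjective θ hθ

end Algebra

variable {A : Type u} [CommRing A] {I : Ideal A} (L : LC I)
  (T : DeltaFunctor (ModuleCat.{u} A) (ModuleCat.{u} A)) (η : 𝟭 (ModuleCat.{u} A) ⟶ T.T 0)
  (hη : ∀ (J : ModuleCat.{u} A) [Injective J], Function.Surjective (η.app J).hom)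
  (hη' : ∀ (M : ModuleCat.{u} A) (m : M), (η.app M).hom m = 0 ↔ m ∈ gam I M)
  (hT : ∀ {M N : ModuleCat.{u} A} (φ : M ⟶ N) [Mono φ], Function.Injective ((T.T 0).map φ).hom)
  (hJ : ∀ (J : ModuleCat.{u} A) [Injective J], IsZero ((T.T 1).obj J))

theorem η_nat {M N : ModuleCat.{u} A} (f : M ⟶ N) (m : M) :
    ((T.T 0).map f).hom ((η.app M).hom m) = (η.app N).hom (f.hom m) :=
  (congrArg (fun t => t.hom m) (η.naturality f)).symm

/-- the correspondence -/
def W (M : ModuleCat.{u} A) : Submodule A (gam I (injSES M).X₃ × (T.T 0).obj M) where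
  carrier := {w | ∃ j : (injSES M).X₂, (injSES M).g.hom j = w.1 ∧
    (η.app _).hom j = ((T.T 0).map (injSES M).f).hom w.2}
  add_mem' := by
    rintro ⟨c, s⟩ ⟨c', s'⟩ ⟨j, h1, h2⟩ ⟨j', h1', h2'⟩
    dsimp only at h1 h1' h2 h2'
    refine ⟨j + j', ?_, ?_⟩
    · rw [map_add, h1, h1']
      rfl
    · rw [map_add, h2, h2', ← map_add]
      rfl
  zero_mem' := ⟨0, by rw [map_zero]; rfl, by
    rw [map_zero]
    exact (map_zero _).symm⟩
  smul_mem' := by
    rintro a ⟨c, s⟩ ⟨j, h1, h2⟩
    dsimp only at h1 h2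
    refine ⟨a • j, ?_, ?_⟩
    · rw [map_smul, h1]
      rfl
    · rw [map_smul, h2, ← map_smul]
      rfl

/-- first projection to `H^1_I(M)`. -/
noncomputable def p (M : ModuleCat.{u} A) : W (I := I) T η M →ₗ[A] L.obj 1 M :=
  (L.D.δ (injSES_shortExact M) 0).hom ∘ₗ (L.zero.inv.app (injSES M).X₃).hom ∘ₗ
    (LinearMap.fst A _ _) ∘ₗ (W (I := I) T η M).subtype

/-- second projection to `T^0(M) / M`. -/
noncomputable def q (M : ModuleCat.{u} A) :
    W (I := I) T η M →ₗ[A] ((T.T 0).obj M ⧸ LinearMap.range (η.app M).hom) :=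
  (LinearMap.range (η.app M).hom).mkQ ∘ₗ (LinearMap.snd A _ _) ∘ₗ (W (I := I) T η M).subtype

include hη hη' in
theorem q_surjective (M : ModuleCat.{u} A) : Function.Surjective (q (I := I) T η M) := by
  intro y
  obtain ⟨s, rfl⟩ := Submodule.Quotient.mk_surjective _ y
  obtain ⟨j, hj⟩ := hη (injSES M).X₂ (((T.T 0).map (injSES M).f).hom s)
  have hc : (injSES M).g.hom j ∈ gam I (injSES M).X₃ := by
    rw [← hη', ← η_nat, hj]
    have : (T.T 0).map (injSES M).f ≫ (T.T 0).map (injSES M).g = 0 := by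
      rw [← Functor.map_comp, (injSES M).zero, Functor.map_zero]
    exact congrArg (fun t => t.hom s) this
  exact ⟨⟨(⟨_, hc⟩, s), j, rfl, hj⟩, rfl⟩

theorem ker_p_le (hη' : ∀ (M : ModuleCat.{u} A) (m : M), (η.app M).hom m = 0 ↔ m ∈ gam I M)
    (hT : ∀ {M N : ModuleCat.{u} A} (φ : M ⟶ N) [Mono φ],
      Function.Injective ((T.T 0).map φ).hom) (M : ModuleCat.{u} A) :
    LinearMap.ker (p L T η M) ≤ LinearMap.ker (q (I := I) T η M) := by
  rintro ⟨⟨c, s⟩, j, h1, h2⟩ hw
  dsimp only at h1 h2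
  have hw' : (L.D.δ (injSES_shortExact M) 0).hom ((L.zero.inv.app (injSES M).X₃).hom c) = 0 := hw
  obtain ⟨t, ht⟩ := (ShortComplex.moduleCat_exact_iff _).1
    (L.D.exact₃ (injSES_shortExact M) 0) _ hw'
  have h3 : ((gamFunctor I).map (injSES M).g).hom ((L.zero.hom.app _).hom t) = c := by
    have h4 := congrArg (fun t' => t'.hom t) (L.zero.hom.naturality (injSES M).g)
    have h5 : (L.zero.hom.app (injSES M).X₃).hom ((L.zero.inv.app (injSES M).X₃).hom c) = c :=
      congrArg (fun t' => t'.hom c) (L.zero.inv_hom_id_app (injSES M).X₃)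
    rw [← h5, ← ht]
    exact h4.symm
  let t' : gam I (injSES M).X₂ := (L.zero.hom.app _).hom t
  have h6 : (injSES M).g.hom t'.1 = c.1 := congrArg Subtype.val h3
  have h7 : (η.app (injSES M).X₂).hom t'.1 = 0 := (hη' _ _).2 t'.2
  obtain ⟨m, hm⟩ := (ShortComplex.moduleCat_exact_iff _).1 (injSES_shortExact M).exact (j - t'.1) (by
    have : (injSES M).g.hom (j - t'.1) = 0 := by
      rw [map_sub, h1, h6, sub_self]
    exact this)
  have hm' : (injSES M).f.hom m = j - t'.1 := hm
  have h8 : ((T.T 0).map (injSES M).f).hom ((η.app M).hom m) =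
      ((T.T 0).map (injSES M).f).hom s := by
    rw [η_nat, hm', map_sub, h7, sub_zero, h2]
  have := (injSES_shortExact M).mono_f
  have h9 := hT (injSES M).f h8
  change (LinearMap.range (η.app M).hom).mkQ s = 0
  rw [← h9]
  exact (Submodule.Quotient.mk_eq_zero _).2 ⟨m, rfl⟩

include hη hη' hT in
/-- `H^1_I(M)` finite implies `T^0(M)/M` finite. -/
theorem finite_coker [IsNoetherianRing A] (M : ModuleCat.{u} A)
    (h : Module.Finite A (L.obj 1 M)) :
    Module.Finite A ((T.T 0).obj M ⧸ LinearMap.range (η.app M).hom) :=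
  finite_of_lift (p L T η M) (q (I := I) T η M) (q_surjective T η hη hη' M)
    (ker_p_le L T η hη' hT M)

include hη hη' hT in
theorem finite_zero [IsNoetherianRing A] (M : ModuleCat.{u} A)
    (hM : Module.Finite A M) (h : Module.Finite A (L.obj 1 M)) :
    Module.Finite A ((T.T 0).obj M) := by
  have h1 := finite_coker L T η hη hη' hT M h
  refine DeltaFin.finite_of_exact' (M := M) (η.app M)
    (P := ModuleCat.of A ((T.T 0).obj M ⧸ LinearMap.range (η.app M).hom))
    (ModuleCat.ofHom (LinearMap.range (η.app M).hom).mkQ) hM h1 ?_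
  intro x hx
  have hx' : (LinearMap.range (η.app M).hom).mkQ x = 0 := hx
  rwa [Submodule.mkQ_apply, Submodule.Quotient.mk_eq_zero] at hx'

include L hη hη' hT in
/-- `T^0(M)/M` is power torsion. -/
theorem torsion_coker (M : ModuleCat.{u} A)
    (y : ((T.T 0).obj M ⧸ LinearMap.range (η.app M).hom)) : ∃ n : ℕ, ∀ a ∈ I ^ n, a • y = 0 := by
  obtain ⟨w, rfl⟩ := q_surjective (I := I) T η hη hη' M y
  obtain ⟨⟨⟨c, hc⟩, s⟩, hw⟩ := w
  obtain ⟨n, hn⟩ := id hc
  refine ⟨n, fun a ha => ?_⟩
  rw [← map_smul]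
  apply ker_p_le L T η hη' hT M
  rw [LinearMap.mem_ker, map_smul]
  let c' : (gamFunctor I).obj (injSES M).X₃ := (⟨c, hc⟩ : gam I (injSES M).X₃)
  have h1 : a • c' = 0 := Subtype.ext (hn a ha)
  change a • (L.D.δ (injSES_shortExact M) 0).hom ((L.zero.inv.app (injSES M).X₃).hom c') = 0
  rw [← map_smul, ← map_smul, h1, map_zero, map_zero]

/-- `T^0(C)/C → T^1(M)`, for `0 → M → J → C → 0` with `J` injective. -/
theorem range_le_ker (M : ModuleCat.{u} A) :
    LinearMap.range (η.app (injSES M).X₃).hom ≤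
      LinearMap.ker (T.δ (injSES_shortExact M) 0).hom := by
  rintro _ ⟨c, rfl⟩
  have h1 := (injSES_shortExact M).epi_g
  obtain ⟨j, rfl⟩ := (ModuleCat.epi_iff_surjective _).1 h1 c
  rw [LinearMap.mem_ker]
  have h2 := η_nat T η (injSES M).g j
  change (T.δ (injSES_shortExact M) 0).hom ((η.app (injSES M).X₃).hom ((injSES M).g.hom j)) = 0
  rw [← h2]
  exact congrArg (fun t => t.hom ((η.app (injSES M).X₂).hom j)) (T.zero₃ (injSES_shortExact M) 0)

include hJ in
theorem δ_surjective (M : ModuleCat.{u} A) :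
    Function.Surjective (T.δ (injSES_shortExact M) 0).hom := by
  have := epi_δ T (injSES_shortExact M) 0 (hJ (injSES M).X₂)
  exact (ModuleCat.epi_iff_surjective _).1 this

theorem L_δ_injective (M : ModuleCat.{u} A) :
    Function.Injective (L.D.δ (injSES_shortExact M) 1).hom := by
  rw [← LinearMap.ker_eq_bot, eq_bot_iff]
  intro x hx
  obtain ⟨y, hy⟩ := (ShortComplex.moduleCat_exact_iff _).1
    (L.D.exact₃ (injSES_shortExact M) 1) x hx
  have : y = 0 := by
    have h := L.eff (injSES M).X₂ 0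
    exact (ModuleCat.subsingleton_of_isZero h).elim _ _
  rw [Submodule.mem_bot, ← hy, this]
  exact map_zero _

include hη hη' hT hJ in
/-- `H^2_I(M)` finite implies `T^1(M)` finite. -/
theorem finite_one [IsNoetherianRing A] (M : ModuleCat.{u} A)
    (h : Module.Finite A (L.obj 2 M)) : Module.Finite A ((T.T 1).obj M) := by
  have h1 : Module.Finite A (L.obj 1 (injSES M).X₃) :=
    Module.Finite.of_injective _ (L_δ_injective L M)
  have h2 := finite_coker L T η hη hη' hT _ h1
  refine Module.Finite.of_surjective ((LinearMap.range (η.app (injSES M).X₃).hom).liftQ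
    (T.δ (injSES_shortExact M) 0).hom (range_le_ker T η M)) ?_
  intro y
  obtain ⟨x, rfl⟩ := δ_surjective T hJ M y
  exact ⟨Submodule.Quotient.mk x, rfl⟩

include L hη hη' hT hJ in
/-- `T^1(M)` is power torsion. -/
theorem torsion_one (M : ModuleCat.{u} A) (y : (T.T 1).obj M) :
    ∃ n : ℕ, ∀ a ∈ I ^ n, a • y = 0 := by
  obtain ⟨x, rfl⟩ := δ_surjective T hJ M y
  obtain ⟨n, hn⟩ := torsion_coker L T η hη hη' hT (injSES M).X₃ (Submodule.Quotient.mk x)
  refine ⟨n, fun a ha => ?_⟩
  have h1 := hn a ha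
  rw [← Submodule.Quotient.mk_smul, Submodule.Quotient.mk_eq_zero] at h1
  rw [← map_smul]
  exact range_le_ker T η M h1

end Groth.Agent.FormalB.DeltaComp
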