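import Groth.Agent.FormalB.DeltaComp

/-!
# Local cohomology and cohomology of the punctured spectrum, on maps

In the setting of `DeltaComp`: if `a` kills the image of `H^2_I(M) → H^2_I(M')`, then `a` kills
the image of `T^1(M) → T^1(M')`.
-/

set_option autoImplicit false
universe u

open CategoryTheory CategoryTheory.Limits
open Groth.Agent.Localalg.DeltaFun Groth.Agent.Localalg.LCAbs Groth.Agent.Localalg.Gam

namespace Groth.Agent.FormalB.DeltaCompMap

open Groth.Agent.FormalB.DeltaComp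

variable {A : Type u} [CommRing A] {I : Ideal A} (L : LC I)
  (T : DeltaFunctor (ModuleCat.{u} A) (ModuleCat.{u} A)) (η : 𝟭 (ModuleCat.{u} A) ⟶ T.T 0)
  (hη : ∀ (J : ModuleCat.{u} A) [Injective J], Function.Surjective (η.app J).hom)
  (hη' : ∀ (M : ModuleCat.{u} A) (m : M), (η.app M).hom m = 0 ↔ m ∈ gam I M)
  (hT : ∀ {M N : ModuleCat.{u} A} (φ : M ⟶ N) [Mono φ], Function.Injective ((T.T 0).map φ).hom)
  (hJ : ∀ (J : ModuleCat.{u} A) [Injective J], IsZero ((T.T 1).obj J))

include hη hη' hT in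
/-- Degree zero part: if `a` kills `H^1_I(M) → H^1_I(M')`, then `a` kills `T^0(M)/M → T^0(M')/M'`. -/
theorem kill_coker_map {M M' : ModuleCat.{u} A} (φ : M ⟶ M') (a : A)
    (h : ∀ x : L.obj 1 M, a • ((L.D.T 1).map φ).hom x = 0) (s : (T.T 0).obj M) :
    a • ((T.T 0).map φ).hom s ∈ LinearMap.range (η.app M').hom := by
  obtain ⟨⟨⟨c, s'⟩, j, h1, h2⟩, hw⟩ :=
    q_surjective (I := I) T η hη hη' M (Submodule.Quotient.mk s)
  dsimp only at h1 h2
  -- change the representative
  have hs : s - s' ∈ LinearMap.range (η.app M).hom := by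
    have hw' : (Submodule.Quotient.mk s' : (T.T 0).obj M ⧸ LinearMap.range (η.app M).hom) =
      Submodule.Quotient.mk s := hw
    have := (Submodule.Quotient.eq _).1 hw'.symm
    exact this
  obtain ⟨m0, hm0⟩ := hs
  obtain ⟨θ, hθ⟩ := exists_hom (injSES_shortExact M) (S' := injSES M') (injSES_shortExact M') φ
  -- the image in `W M'`
  have hc' : θ.τ₃.hom c.1 ∈ gam I (injSES M').X₃ := by
    obtain ⟨n, hn⟩ := c.2
    exact ⟨n, fun b hb => by rw [← map_smul, hn b hb, map_zero]⟩
  have e1 : (injSES M').g.hom (θ.τ₂.hom j) = θ.τ₃.hom c.1 := by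
    rw [← h1]
    exact congrArg (fun t => t.hom j) θ.comm₂₃
  have e2 : (η.app _).hom (θ.τ₂.hom j) =
      ((T.T 0).map (injSES M').f).hom (((T.T 0).map φ).hom s') := by
    rw [← η_nat, h2]
    have e3 : (T.T 0).map (injSES M).f ≫ (T.T 0).map θ.τ₂ =
        (T.T 0).map φ ≫ (T.T 0).map (injSES M').f := by
      rw [← Functor.map_comp, ← Functor.map_comp, ← hθ]
      exact congrArg _ θ.comm₁₂.symm
    exact congrArg (fun t => t.hom s') e3
  let w' : W (I := I) T η M' := ⟨(⟨θ.τ₃.hom c.1, hc'⟩, ((T.T 0).map φ).hom s'),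
    ⟨θ.τ₂.hom j, e1, e2⟩⟩
  have hp : p L T η M' w' = ((L.D.T 1).map φ).hom
      ((L.D.δ (injSES_shortExact M) 0).hom ((L.zero.inv.app (injSES M).X₃).hom c)) := by
    have n1 := congrArg (fun t => t.hom ((L.zero.inv.app (injSES M).X₃).hom c))
      (L.D.naturality (injSES_shortExact M) (injSES_shortExact M') θ 0)
    have n2 := congrArg (fun t => t.hom c) (L.zero.inv.naturality θ.τ₃)
    rw [hθ] at n1
    refine Eq.trans ?_ n1
    change (L.D.δ (injSES_shortExact M') 0).hom
      ((L.zero.inv.app (injSES M').X₃).hom (⟨θ.τ₃.hom c.1, hc'⟩ : gam I (injSES M').X₃)) =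
      (L.D.δ (injSES_shortExact M') 0).hom (((L.D.T 0).map θ.τ₃).hom
        ((L.zero.inv.app (injSES M).X₃).hom c))
    exact congrArg (L.D.δ (injSES_shortExact M') 0).hom n2
  have hk : a • w' ∈ LinearMap.ker (p L T η M') := by
    rw [LinearMap.mem_ker, map_smul, hp]
    exact h _
  have hk' := ker_p_le L T η hη' hT M' hk
  have hk2 : (LinearMap.range (η.app M').hom).mkQ (a • ((T.T 0).map φ).hom s') = 0 := hk'
  rw [Submodule.mkQ_apply, Submodule.Quotient.mk_eq_zero] at hk2
  have hs2 : s = s' + (η.app M).hom m0 := by rw [hm0]; abel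
  rw [hs2, map_add, smul_add]
  refine Submodule.add_mem _ hk2 (Submodule.smul_mem _ _ ?_)
  rw [η_nat]
  exact ⟨_, rfl⟩

include L hη hη' hT hJ in
/-- If `a` kills `H^2_I(M) → H^2_I(M')`, then `a` kills `T^1(M) → T^1(M')`. -/
theorem kill_map_one {M M' : ModuleCat.{u} A} (φ : M ⟶ M') (a : A)
    (h : ∀ x : L.obj 2 M, a • ((L.D.T 2).map φ).hom x = 0) (y : (T.T 1).obj M) :
    a • ((T.T 1).map φ).hom y = 0 := by
  obtain ⟨s, rfl⟩ := δ_surjective T hJ M y
  obtain ⟨θ, hθ⟩ := exists_hom (injSES_shortExact M) (S' := injSES M') (injSES_shortExact M') φ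
  have n1 := congrArg (fun t => t.hom s)
    (T.naturality (injSES_shortExact M) (injSES_shortExact M') θ 0)
  rw [hθ] at n1
  have h1 : a • ((T.T 0).map θ.τ₃).hom s ∈ LinearMap.range (η.app (injSES M').X₃).hom := by
    refine kill_coker_map L T η hη hη' hT θ.τ₃ a (fun x => ?_) s
    apply L_δ_injective L M'
    rw [map_smul, map_zero]
    have n2 := congrArg (fun t => t.hom x)
      (L.D.naturality (injSES_shortExact M) (injSES_shortExact M') θ 1)
    rw [hθ] at n2
    have n3 : (L.D.δ (injSES_shortExact M') 1).hom (((L.D.T 1).map θ.τ₃).hom x) =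
      ((L.D.T 2).map φ).hom ((L.D.δ (injSES_shortExact M) 1).hom x) := n2
    rw [n3]
    exact h _
  have h2 := range_le_ker T η M' h1
  rw [LinearMap.mem_ker, map_smul] at h2
  have n4 : (T.δ (injSES_shortExact M') 0).hom (((T.T 0).map θ.τ₃).hom s) =
    ((T.T 1).map φ).hom ((T.δ (injSES_shortExact M) 0).hom s) := n1
  rw [← n4]
  exact h2

end Groth.Agent.FormalB.DeltaCompMap
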