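import Mathlib.Algebra.Homology.DerivedCategory.Ext.ExactSequences
import Mathlib.Algebra.Homology.DerivedCategory.Ext.EnoughInjectives
import Mathlib.CategoryTheory.Limits.Shapes.Products
import Mathlib.CategoryTheory.Preadditive.Injective.Basic

/-!
# Ext into a product, by dimension shifting

In an abelian category `C` with `HasExt`, let `Q` be a property of families `F : ι → C` such that
every family with `Q` admits levelwise short exact sequences `0 → F i → I i → K i → 0` with `I i`
injective, `Q K`, and such that the products of the three families again form a short exact sequence.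
Then `Ext^n(E, ∏ F) → ∏ Ext^n(E, F i)` is bijective.
-/

universe w v u t

open CategoryTheory CategoryTheory.Limits CategoryTheory.Abelian

namespace Groth.Agent.FormalB.ExtProd

variable {C : Type u} [Category.{v} C] [Abelian C] [HasExt.{w} C]

/-- The comparison map `Ext^n(E, P) → ∏ Ext^n(E, F i)` for a family of maps `p i : P ⟶ F i`. -/
noncomputable def extPi (E : C) {ι : Type t} {P : C} {F : ι → C} (p : ∀ i, P ⟶ F i) (n : ℕ) :
    Ext E P n →+ ∀ i, Ext E (F i) n :=
  AddMonoidHom.pi (fun i => (Ext.mk₀ (p i)).postcomp E (add_zero n))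

@[simp]
theorem extPi_apply (E : C) {ι : Type t} {P : C} {F : ι → C} (p : ∀ i, P ⟶ F i) (n : ℕ)
    (x : Ext E P n) (i : ι) : extPi E p n x i = x.comp (Ext.mk₀ (p i)) (add_zero n) := rfl

/-- Degree zero: the universal property of the product. -/
theorem extPi_zero_bijective (E : C) {ι : Type t} {P : C} {F : ι → C} (p : ∀ i, P ⟶ F i)
    (hP : IsLimit (Fan.mk P p)) : Function.Bijective (extPi E p 0) := by
  constructor
  · rw [injective_iff_map_eq_zero]
    intro x hx
    obtain ⟨f, rfl⟩ := (Ext.mk₀_bijective E P).surjective x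
    have : f = 0 := by
      apply hP.hom_ext
      rintro ⟨i⟩
      have h := congrFun hx i
      rw [extPi_apply, Ext.mk₀_comp_mk₀] at h
      simpa using! (Ext.mk₀_eq_zero_iff _).1 h
    rw [this, Ext.mk₀_zero]
  · intro y
    choose f hf using fun i => (Ext.mk₀_bijective E (F i)).surjective (y i)
    refine ⟨Ext.mk₀ (Fan.IsLimit.lift hP f), ?_⟩
    funext i
    rw [extPi_apply, Ext.mk₀_comp_mk₀, ← hf i]
    congr 1
    exact hP.fac _ ⟨i⟩

/-- For a family of injectives with product `P`, the comparison map is bijective in all degrees. -/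
theorem extPi_bijective_of_injective (E : C) {ι : Type t} {P : C} {F : ι → C} (p : ∀ i, P ⟶ F i)
    (hP : IsLimit (Fan.mk P p)) [∀ i, Injective (F i)] (n : ℕ) :
    Function.Bijective (extPi E p n) := by
  cases n with
  | zero => exact extPi_zero_bijective E p hP
  | succ n =>
    have : Injective P := by
      constructor
      intro X Y g f _
      refine ⟨Fan.IsLimit.lift hP (fun i => Injective.factorThru (g ≫ p i) f), ?_⟩
      apply hP.hom_ext
      rintro ⟨i⟩
      have : Fan.IsLimit.lift hP (fun i => Injective.factorThru (g ≫ p i) f) ≫ p i = _ :=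
        hP.fac _ ⟨i⟩
      change (f ≫ Fan.IsLimit.lift hP _) ≫ p i = g ≫ p i
      rw [Category.assoc, this]
      simp
    constructor
    · intro x y _
      rw [Ext.eq_zero_of_injective x, Ext.eq_zero_of_injective y]
    · intro y
      refine ⟨0, ?_⟩
      funext i
      rw [Ext.eq_zero_of_injective (y i)]
      simp

/-- **Ext into a product by dimension shifting.** -/
theorem extPi_bijective (E : C) {ι : Type t} (Q : (ι → C) → Prop)
    (hQ : ∀ F : ι → C, Q F → ∀ (P : C) (p : ∀ i, P ⟶ F i), IsLimit (Fan.mk P p) →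
      ∃ (S : ι → ShortComplex C) (e : ∀ i, F i ≅ (S i).X₁), (∀ i, (S i).ShortExact) ∧
        (∀ i, Injective (S i).X₂) ∧ Q (fun i => (S i).X₃) ∧
        ∃ (T : ShortComplex C) (π : ∀ i, T ⟶ S i) (e' : P ≅ T.X₁), T.ShortExact ∧
          (∀ i, p i ≫ (e i).hom = e'.hom ≫ (π i).τ₁) ∧
          Nonempty (IsLimit (Fan.mk T.X₂ (fun i => (π i).τ₂))) ∧
          Nonempty (IsLimit (Fan.mk T.X₃ (fun i => (π i).τ₃)))) (n : ℕ) :
    ∀ (F : ι → C), Q F → ∀ (P : C) (p : ∀ i, P ⟶ F i), IsLimit (Fan.mk P p) →
      Function.Bijective (extPi E p n) := by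
  induction n with
  | zero =>
    intro F _ P p hP
    exact extPi_zero_bijective E p hP
  | succ n ih =>
    intro F hF P p hP
    obtain ⟨S, e, hS, hI, hK, T, π, e', hT, hcomm, ⟨hT₂⟩, ⟨hT₃⟩⟩ := hQ F hF P p hP
    have key : Function.Bijective (extPi E (fun i => (π i).τ₁) (n + 1)) := by
      have b₂ := extPi_bijective_of_injective E (fun i => (π i).τ₂) hT₂ n
      have b₃ := ih _ hK _ _ hT₃
      have : Injective T.X₂ := by
        constructor
        intro X Y g f _
        refine ⟨Fan.IsLimit.lift hT₂ (fun i => Injective.factorThru (g ≫ (π i).τ₂) f), ?_⟩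
        apply hT₂.hom_ext
        rintro ⟨i⟩
        have : Fan.IsLimit.lift hT₂ (fun i => Injective.factorThru (g ≫ (π i).τ₂) f) ≫ (π i).τ₂ = _ :=
          hT₂.fac _ ⟨i⟩
        change (f ≫ Fan.IsLimit.lift hT₂ _) ≫ (π i).τ₂ = g ≫ (π i).τ₂
        rw [Category.assoc, this]
        simp
      have nat : ∀ (i : ι) (y : Ext E T.X₃ n),
          (y.comp hT.extClass rfl).comp (Ext.mk₀ (π i).τ₁) (add_zero (n + 1)) =
            (y.comp (Ext.mk₀ (π i).τ₃) (add_zero n)).comp (hS i).extClass rfl := by
        intro i y
        rw [Ext.comp_assoc_of_third_deg_zero, Ext.comp_assoc_of_second_deg_zero,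
          ShortComplex.ShortExact.extClass_naturality hT (hS i) (π i)]
      constructor
      · rw [injective_iff_map_eq_zero]
        intro x hx
        obtain ⟨y, rfl⟩ := Ext.covariant_sequence_exact₁ E hT x (Ext.eq_zero_of_injective _) rfl
        have hy : ∀ i, ∃ z : Ext E (S i).X₂ n, z.comp (Ext.mk₀ (S i).g) (add_zero n) =
            y.comp (Ext.mk₀ (π i).τ₃) (add_zero n) := by
          intro i
          refine Ext.covariant_sequence_exact₃ E (hS i) _ rfl ?_
          rw [← nat]
          exact congrFun hx i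
        choose z hz using hy
        obtain ⟨z', hz'⟩ := b₂.surjective z
        have : y = z'.comp (Ext.mk₀ T.g) (add_zero n) := by
          apply b₃.injective
          funext i
          rw [extPi_apply, ← hz i, ← congrFun hz' i, extPi_apply, extPi_apply,
            Ext.comp_assoc_of_third_deg_zero, Ext.comp_assoc_of_third_deg_zero,
            Ext.mk₀_comp_mk₀, Ext.mk₀_comp_mk₀, (π i).comm₂₃]
        rw [this, Ext.comp_assoc_of_second_deg_zero, ShortComplex.ShortExact.comp_extClass,
          Ext.comp_zero]
      · intro x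
        have hx : ∀ i, ∃ y : Ext E (S i).X₃ n, y.comp (hS i).extClass rfl = x i := by
          intro i
          have := hI i
          exact Ext.covariant_sequence_exact₁ E (hS i) (x i) (Ext.eq_zero_of_injective _) rfl
        choose y hy using hx
        obtain ⟨y', hy'⟩ := b₃.surjective y
        refine ⟨y'.comp hT.extClass rfl, ?_⟩
        funext i
        rw [extPi_apply, nat, ← hy i, ← congrFun hy' i, extPi_apply]
    -- transport along the isomorphisms
    have he : ∀ x : Ext E P (n + 1), ∀ i, (extPi E p (n + 1) x i).comp (Ext.mk₀ (e i).hom) (add_zero _) =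
        extPi E (fun i => (π i).τ₁) (n + 1) (x.comp (Ext.mk₀ e'.hom) (add_zero _)) i := by
      intro x i
      rw [extPi_apply, extPi_apply, Ext.comp_assoc_of_third_deg_zero, Ext.comp_assoc_of_third_deg_zero,
        Ext.mk₀_comp_mk₀, Ext.mk₀_comp_mk₀, hcomm]
    constructor
    · rw [injective_iff_map_eq_zero]
      intro x hx
      have h1 : extPi E (fun i => (π i).τ₁) (n + 1) (x.comp (Ext.mk₀ e'.hom) (add_zero _)) = 0 := by
        funext i
        rw [← he, hx]
        simp
      have h2 : x.comp (Ext.mk₀ e'.hom) (add_zero _) = 0 :=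
        key.injective (h1.trans (map_zero _).symm)
      have h3 : (x.comp (Ext.mk₀ e'.hom) (add_zero _)).comp (Ext.mk₀ e'.inv) (add_zero _) = 0 := by
        rw [h2, Ext.zero_comp]
      simpa [Ext.comp_assoc_of_third_deg_zero] using h3
    · intro x
      obtain ⟨y, hy⟩ := key.surjective (fun i => (x i).comp (Ext.mk₀ (e i).hom) (add_zero _))
      refine ⟨y.comp (Ext.mk₀ e'.inv) (add_zero _), ?_⟩
      funext i
      have h1 := he (y.comp (Ext.mk₀ e'.inv) (add_zero _)) i
      have h2 : (y.comp (Ext.mk₀ e'.inv) (add_zero _)).comp (Ext.mk₀ e'.hom) (add_zero _) = y := by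
        simp [Ext.comp_assoc_of_third_deg_zero]
      rw [h2, hy] at h1
      have h3 := congrArg (fun z => z.comp (Ext.mk₀ (e i).inv) (add_zero (n + 1))) h1
      simpa [Ext.comp_assoc_of_third_deg_zero] using h3

end Groth.Agent.FormalB.ExtProd
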