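import Groth.Agent.FormalB.ExtProd
import Mathlib.CategoryTheory.Abelian.Basic
import Mathlib.CategoryTheory.Limits.Shapes.Products

/-!
# Ext into a product: the version with a separating class of test objects

`𝒢` is a class of objects of an abelian category `C` with enough injectives and products indexed by
`ι`, which is separating.  If `F : ι → C` is a family with `Ext^p(Z, F i) = 0` for `Z ∈ 𝒢`, `p > 0`,
then `Ext^n(E, ∏ F) → ∏ Ext^n(E, F i)` is bijective for every object `E`.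

Also: the Milnor short exact sequence for `Ext^n(E, lim G_n)`, first in a form with the exact sequence
`0 → L → ∏ G → ∏ G → 0` as a hypothesis, then for towers that are surjective on the test objects.
-/

universe w v u t

open CategoryTheory CategoryTheory.Limits CategoryTheory.Abelian

namespace Groth.Agent.FormalB.ExtProd

variable {C : Type u} [Category.{v} C] [Abelian C] [HasExt.{w} C]

omit [HasExt.{w} C] in
/-- A map that is surjective on homs out of a separating class is an epimorphism. -/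
theorem epi_of_surjective_on (𝒢 : C → Prop)
    (hsep : ∀ ⦃K W : C⦄ (h : K ⟶ W), (∀ Z, 𝒢 Z → ∀ z : Z ⟶ K, z ≫ h = 0) → h = 0)
    {A K : C} (g : A ⟶ K) (hg : ∀ Z, 𝒢 Z → ∀ z : Z ⟶ K, ∃ y : Z ⟶ A, y ≫ g = z) : Epi g := by
  refine Preadditive.epi_of_cancel_zero g fun h hh => hsep h fun Z hZ z => ?_
  obtain ⟨y, rfl⟩ := hg Z hZ z
  rw [Category.assoc, hh, comp_zero]

/-- In a short exact sequence, if `Ext¹(Z, X₁) = 0` every map `Z ⟶ X₃` lifts to `X₂`. -/
theorem exists_lift_of_subsingleton_ext {S : ShortComplex C} (hS : S.ShortExact) (Z : C)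
    [Subsingleton (Ext Z S.X₁ 1)] (z : Z ⟶ S.X₃) : ∃ y : Z ⟶ S.X₂, y ≫ S.g = z := by
  obtain ⟨y, hy⟩ := Ext.covariant_sequence_exact₃ Z hS (Ext.mk₀ z) (zero_add 1)
    (Subsingleton.elim _ _)
  obtain ⟨y, rfl⟩ := (Ext.mk₀_bijective Z S.X₂).surjective y
  rw [Ext.mk₀_comp_mk₀] at hy
  exact ⟨y, (Ext.mk₀_bijective Z S.X₃).injective hy⟩

/-- In a short exact sequence with injective middle term, `Ext^{p+2}(Z, X₁) = 0` implies
`Ext^{p+1}(Z, X₃) = 0`. -/
theorem subsingleton_ext_X₃ {S : ShortComplex C} (hS : S.ShortExact) [Injective S.X₂] (Z : C) (p : ℕ)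
    [Subsingleton (Ext Z S.X₁ (p + 2))] : Subsingleton (Ext Z S.X₃ (p + 1)) := by
  refine subsingleton_of_forall_eq 0 fun x => ?_
  obtain ⟨y, rfl⟩ := Ext.covariant_sequence_exact₃ Z hS x (n₁ := p + 2) (by lia)
    (Subsingleton.elim _ _)
  rw [Ext.eq_zero_of_injective y, Ext.zero_comp]

/-- **Ext into a product**, separating class version. -/
theorem extPi_bijective_of_separating {ι : Type t} [EnoughInjectives C] [HasProductsOfShape ι C]
    (𝒢 : C → Prop)
    (hsep : ∀ ⦃K W : C⦄ (h : K ⟶ W), (∀ Z, 𝒢 Z → ∀ z : Z ⟶ K, z ≫ h = 0) → h = 0)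
    (E : C) (n : ℕ) (F : ι → C) (hF : ∀ i, ∀ Z, 𝒢 Z → ∀ p : ℕ, Subsingleton (Ext Z (F i) (p + 1)))
    (P : C) (p : ∀ i, P ⟶ F i) (hP : IsLimit (Fan.mk P p)) :
    Function.Bijective (extPi E p n) := by
  refine extPi_bijective E (fun F : ι → C => ∀ i, ∀ Z, 𝒢 Z → ∀ p : ℕ,
    Subsingleton (Ext Z (F i) (p + 1))) ?_ n F hF P p hP
  clear hF hP p P F
  intro F hF P p hP
  let S : ι → ShortComplex C := fun i =>
    ShortComplex.mk (Injective.ι (F i)) (cokernel.π (Injective.ι (F i))) (cokernel.condition _)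
  have hS : ∀ i, (S i).ShortExact := fun i =>
    { exact := ShortComplex.exact_cokernel _
      mono_f := inferInstanceAs (Mono (Injective.ι (F i)))
      epi_g := inferInstanceAs (Epi (cokernel.π (Injective.ι (F i)))) }
  have hK : ∀ i, ∀ Z, 𝒢 Z → ∀ p : ℕ, Subsingleton (Ext Z (S i).X₃ (p + 1)) := by
    intro i Z hZ p
    have : Injective (S i).X₂ := inferInstanceAs (Injective (Injective.under (F i)))
    have : Subsingleton (Ext Z (S i).X₁ (p + 2)) := hF i Z hZ (p + 1)
    exact subsingleton_ext_X₃ (hS i) Z p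
  refine ⟨S, fun i => Iso.refl _, hS, fun i => inferInstanceAs (Injective (Injective.under (F i))),
    hK, ?_⟩
  let f : P ⟶ ∏ᶜ fun i => (S i).X₂ := Pi.lift fun i => p i ≫ (S i).f
  let g : (∏ᶜ fun i => (S i).X₂) ⟶ ∏ᶜ fun i => (S i).X₃ := Limits.Pi.map fun i => (S i).g
  have hg : ∀ i, g ≫ Pi.π _ i = Pi.π _ i ≫ (S i).g := fun i => Limits.Pi.map_π _ _
  have hf : ∀ i, f ≫ Pi.π _ i = p i ≫ (S i).f := fun i => Pi.lift_π _ _
  have w : f ≫ g = 0 := by
    apply Pi.hom_ext
    intro i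
    rw [Category.assoc, hg, reassoc_of% (hf i), (S i).zero, comp_zero, zero_comp]
  have hmono : Mono f := by
    refine Preadditive.mono_of_cancel_zero f fun z hz => ?_
    apply hP.hom_ext
    rintro ⟨i⟩
    have h1 : z ≫ f ≫ Pi.π _ i = 0 := by rw [reassoc_of% hz, zero_comp]
    rw [hf, ← Category.assoc] at h1
    have := (hS i).mono_f
    have h2 : z ≫ p i = 0 := by rwa [← cancel_mono (S i).f, zero_comp]
    simpa using! h2
  have hepi : Epi g := by
    refine epi_of_surjective_on 𝒢 hsep g fun Z hZ z => ?_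
    have : ∀ i, ∃ y : Z ⟶ (S i).X₂, y ≫ (S i).g = z ≫ Pi.π _ i := by
      intro i
      have : Subsingleton (Ext Z (S i).X₁ 1) := hF i Z hZ 0
      exact exists_lift_of_subsingleton_ext (hS i) Z _
    choose y hy using this
    refine ⟨Pi.lift y, Pi.hom_ext _ _ fun i => ?_⟩
    rw [Category.assoc, hg, ← Category.assoc, Pi.lift_π, hy]
  have hex : (ShortComplex.mk f g w).Exact := by
    have hk : ∀ (W : C) (z : W ⟶ ∏ᶜ fun i => (S i).X₂), z ≫ g = 0 → ∃ y : W ⟶ P, y ≫ f = z := by
      intro W z hz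
      have : ∀ i, ∃ y : W ⟶ (S i).X₁, y ≫ (S i).f = z ≫ Pi.π _ i := by
        intro i
        have := (hS i).mono_f
        have h0 : (z ≫ Pi.π _ i) ≫ (S i).g = 0 := by
          rw [Category.assoc, ← hg, ← Category.assoc, hz, zero_comp]
        exact ⟨(hS i).exact.lift _ h0, (hS i).exact.lift_f _ h0⟩
      choose y hy using this
      refine ⟨Fan.IsLimit.lift hP y, Pi.hom_ext _ _ fun i => ?_⟩
      have hl : Fan.IsLimit.lift hP y ≫ p i = y i := hP.fac _ ⟨i⟩
      rw [Category.assoc, hf, ← Category.assoc, hl, hy]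
    have : IsLimit (KernelFork.ofι f w) :=
      KernelFork.IsLimit.ofι f w (fun z hz => (hk _ z hz).choose)
        (fun z hz => (hk _ z hz).choose_spec)
        (fun z hz m hm => by rw [← cancel_mono f, hm, (hk _ z hz).choose_spec])
    exact ShortComplex.exact_of_f_is_kernel _ this
  refine ⟨ShortComplex.mk f g w, fun i => ⟨p i, Pi.π _ i, Pi.π _ i, (hf i).symm, (hg i).symm⟩,
    Iso.refl _, ⟨hex⟩, ?_, ⟨?_⟩, ⟨?_⟩⟩
  · intro i
    simp
  · exact productIsProduct _
  · exact productIsProduct _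

end Groth.Agent.FormalB.ExtProd
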