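import Groth.Agent.FormalB.FormalCore

/-!
# Essentially constant towers

`IsEss I π U c`: on the affine open `U` the tower `P` is essentially constant, up to a shift by `c`, with value the
module `L`, and `L/J^(n+1)L` is `F_n` for a map of towers `π : P ⟶ F`. `exists_limit_of_isEss`: then `P` has a
coherent limit `F'` with `F'/I^(n+1)F' = F_n`.
-/

set_option autoImplicit false
universe u

open CategoryTheory CategoryTheory.Limits AlgebraicGeometry Opposite TopologicalSpace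

namespace Groth.Agent.FormalB.FormalEss

open ModPow ModPowAff AdicSys CohqB.FiniteType2 FormalLift FormalLoc FormalCore

variable {A : Type u} [CommRing A] {X : Scheme.{u}} [X.Over (Spec (CommRingCat.of A))]

/-- On `U` the tower `P` is essentially constant. -/
def IsEss (I : Ideal A) {P F : ℕᵒᵖ ⥤ X.Modules} (π : P ⟶ F) (U : X.Opens) (c : ℕ) : Prop :=
  ∃ (L : Type u) (_ : AddCommGroup L) (_ : Module Γ(X, U) L) (ρ : ∀ n : ℕ, L →ₗ[Γ(X, U)] Γ(P.obj (op n), U)),
    (∀ n x, (P.map (homOfLE (Nat.le_succ n)).op).app U (ρ (n + 1) x) = ρ n x) ∧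
    (∀ n (y : Γ(P.obj (op (n + c)), U)), ∃ x, ρ n x = (P.map (homOfLE (Nat.le_add_right n c)).op).app U y) ∧
    (∀ n, c ≤ n → ∀ x, ρ n x = 0 → x = 0) ∧
    (∀ n (y : Γ(F.obj (op n), U)), ∃ x, (π.app (op n)).app U (ρ n x) = y) ∧
    (∀ n x, (π.app (op n)).app U (ρ n x) = 0 → x ∈ (I.map (toΓ A X U)) ^ (n + 1) • (⊤ : Submodule Γ(X, U) L))

theorem IsEss.mono {I : Ideal A} {P F : ℕᵒᵖ ⥤ X.Modules} {π : P ⟶ F} {U : X.Opens} {c c' : ℕ}
    (h : IsEss I π U c) (hc : c ≤ c') : IsEss I π U c' := by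
  obtain ⟨L, _, _, ρ, h1, h2, h3, h4, h5⟩ := h
  refine ⟨L, _, _, ρ, h1, fun n y => ?_, fun n hn x hx => h3 n (hc.trans hn) x hx, h4, h5⟩
  obtain ⟨x, hx⟩ := h2 n ((P.map (homOfLE (by omega : n + c ≤ n + c')).op).app U y)
  refine ⟨x, hx.trans ?_⟩
  rw [← comp_app', ← map_homOfLE_comp P]

/-- The essentially constant tower has a coherent limit with the expected quotients. -/
theorem exists_limit_of_isEss {I : Ideal A} {P F : ℕᵒᵖ ⥤ X.Modules} (π : P ⟶ F)
    (hP : ∀ n, Coh.IsCoh (P.obj (op n))) (hF : ∀ n, Coh.IsCoh (F.obj (op n)))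
    (hFk : ∀ n, Formal.KilledBy (I ^ (n + 1)) (F.obj (op n))) (c : ℕ)
    (h : ∀ x : X, ∃ U : X.Opens, x ∈ U ∧ IsAffineOpen U ∧ IsEss I π U c) :
    ∃ (F' : X.Modules) (e : ∀ n : ℕ, F' ⟶ P.obj (op n)), Coh.IsCoh F' ∧
      (∀ n, e (n + 1) ≫ P.map (homOfLE (Nat.le_succ n)).op = e n) ∧
      (∀ n, IsModPow (I ^ (n + 1)) (e n ≫ π.app (op n))) ∧ Mono (e c) ∧
      (∃ r : P.obj (op (c + c)) ⟶ F', r ≫ e c = P.map (homOfLE (Nat.le_add_right c c)).op) ∧
      (∀ (Z : X.Modules) (z : ∀ n : ℕ, Z ⟶ P.obj (op n)),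
        (∀ n, z (n + 1) ≫ P.map (homOfLE (Nat.le_succ n)).op = z n) → ∃! w : Z ⟶ F', ∀ n, w ≫ e n = z n) := by
  let E := arIm P c
  have hE : ∀ n, Coh.IsCoh (E.obj (op n)) := fun n =>
    isCoh_of_epi_mono (arπ P c n) (arι P c n) (hP _) (hP n).1
  -- local description of the tower `E`
  have hloc : ∀ x : X, ∃ U : X.Opens, x ∈ U ∧ IsAffineOpen U ∧
      ∃ (L : Type u) (_ : AddCommGroup L) (_ : Module Γ(X, U) L) (σ : ∀ n : ℕ, L →ₗ[Γ(X, U)] Γ(E.obj (op n), U)),
        (∀ {m m' : ℕ} (hm : m ≤ m') (y : L), (E.map (homOfLE hm).op).app U (σ m' y) = σ m y) ∧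
        (∀ m, Function.Surjective (σ m)) ∧ (∀ m, c ≤ m → Function.Injective (σ m)) ∧
        (∀ n (y : Γ(F.obj (op n), U)), ∃ x, (π.app (op n)).app U ((arι P c n).app U (σ n x)) = y) ∧
        (∀ n x, (π.app (op n)).app U ((arι P c n).app U (σ n x)) = 0 →
          x ∈ (I.map (toΓ A X U)) ^ (n + 1) • (⊤ : Submodule Γ(X, U) L)) := by
    intro x
    obtain ⟨U, hxU, hU, L, _, _, ρ, h1, h2, h3, h4, h5⟩ := h x
    let σ : ∀ m, L →ₗ[Γ(X, U)] Γ(E.obj (op m), U) := fun m => appLinear (arπ P c m) U ∘ₗ ρ (m + c)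
    have hσι : ∀ m y, (arι P c m).app U (σ m y) = ρ m y := fun m y => by
      change (arι P c m).app U ((arπ P c m).app U (ρ (m + c) y)) = _
      rw [← comp_app', arπ_arι, map_app_of_succ P ρ h1]
    have hιinj : ∀ m, Function.Injective ((arι P c m).app U) := fun m => appLinear_injective (arι P c m) U
    have hσs : ∀ m, Function.Surjective (σ m) := fun m e => by
      obtain ⟨y, rfl⟩ := app_surjective_of_epi (arπ P c m) (hP _).1 (hE m).1 hU e
      obtain ⟨z, hz⟩ := h2 m y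
      refine ⟨z, hιinj m ?_⟩
      rw [hσι, hz, ← comp_app', arπ_arι]
    have hσm : ∀ {m m' : ℕ} (hm : m ≤ m') (y : L),
        (E.map (homOfLE hm).op).app U (σ m' y) = σ m y := fun hm y => by
      apply hιinj
      rw [← comp_app', arι_naturality, comp_app', hσι, hσι, map_app_of_succ P ρ h1]
    refine ⟨U, hxU, hU, L, inferInstance, inferInstance, σ, hσm, hσs, fun m hm => ?_, fun n y => ?_, fun n x hx => ?_⟩
    · rw [injective_iff_map_eq_zero]
      intro y hy
      refine h3 m hm y ?_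
      rw [← hσι, hy, map_zero]
    · obtain ⟨x, hx⟩ := h4 n y
      exact ⟨x, by rw [hσι, hx]⟩
    · rw [hσι] at hx
      exact h5 n x hx
  -- the tower `E` is constant from `c` on
  have hiso : ∀ n, IsIso (E.map (homOfLE (Nat.le_add_left c n)).op) := fun n => by
    have := (hE (n + c)).1
    have := (hE c).1
    refine CohqB.AffIso.isIso_of_affine_cover _ fun x => ?_
    obtain ⟨U, hxU, hU, L, _, _, σ, h1, h2, h3, -⟩ := hloc x
    refine ⟨U, hxU, hU, ?_, fun y => ?_⟩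
    · rw [injective_iff_map_eq_zero]
      intro y hy
      obtain ⟨z, rfl⟩ := h2 _ y
      rw [h1] at hy
      rw [h3 c le_rfl (hy.trans (map_zero _).symm), map_zero]
    · obtain ⟨z, rfl⟩ := h2 _ y
      exact ⟨σ _ z, h1 _ _⟩
  let e : ∀ n : ℕ, E.obj (op c) ⟶ P.obj (op n) := fun n =>
    inv (E.map (homOfLE (Nat.le_add_left c n)).op) ≫ E.map (homOfLE (Nat.le_add_right n c)).op ≫ arι P c n
  have hec : e c = arι P c c := by
    change inv _ ≫ _ = _
    rw [IsIso.inv_comp_eq]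
  have he : ∀ n, e (n + 1) ≫ P.map (homOfLE (Nat.le_succ n)).op = e n := fun n => by
    change (inv _ ≫ _ ≫ _) ≫ _ = inv _ ≫ _
    rw [Category.assoc, Category.assoc, ← arι_naturality, IsIso.inv_comp_eq, ← Category.assoc (E.map _), ← E.map_comp,
      ← Category.assoc]
    have h1 : E.map (homOfLE (Nat.le_add_left c (n + 1))).op =
        E.map (homOfLE (by omega : n + c ≤ n + 1 + c)).op ≫ E.map (homOfLE (Nat.le_add_left c n)).op := by
      rw [← E.map_comp]; exact map_eq _ _ _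
    rw [h1, Category.assoc (E.map _) (E.map _) (inv _), IsIso.hom_inv_id, Category.comp_id, ← E.map_comp_assoc]
    congr 1
  have hem : ∀ {n m : ℕ} (hnm : n ≤ m), e m ≫ P.map (homOfLE hnm).op = e n := fun {n m} hnm => by
    induction m, hnm using Nat.le_induction with
    | base => rw [map_homOfLE_self, Category.comp_id]
    | succ m hm ih => rw [map_homOfLE_comp P hm (Nat.le_succ m), ← Category.assoc, he, ih]
  have hesec : ∀ {U : X.Opens} {L : Type u} [AddCommGroup L] [Module Γ(X, U) L]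
      (σ : ∀ n : ℕ, L →ₗ[Γ(X, U)] Γ(E.obj (op n), U))
      (h1 : ∀ {m m' : ℕ} (hm : m ≤ m') (y : L), (E.map (homOfLE hm).op).app U (σ m' y) = σ m y) (n : ℕ) (x : L),
      (e n).app U (σ c x) = (arι P c n).app U (σ n x) := fun {U L} _ _ σ h1 n x => by
    rw [← h1 (Nat.le_add_left c n) x, ← comp_app']
    change (E.map _ ≫ inv _ ≫ _ ≫ _).app U _ = _
    rw [IsIso.hom_inv_id_assoc, comp_app', h1]
  have hmono : Mono (e c) := by rw [hec]; infer_instance
  refine ⟨E.obj (op c), e, hE c, he, fun n => ?_, hmono, ⟨arπ P c c, by rw [hec, arπ_arι]⟩, fun Z z hz => ?_⟩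
  · refine isModPow_of_cover (hE _).1 (hF n).1 _ fun x => ?_
    obtain ⟨U, hxU, hU, L, _, _, σ, h1, h2, h3, h4, h5⟩ := hloc x
    refine ⟨U, hxU, hU, fun y => ?_, fun y => ⟨fun hy => ?_, fun hy => ?_⟩⟩
    · obtain ⟨x, rfl⟩ := h4 n y
      exact ⟨σ c x, by rw [comp_app', hesec σ h1]⟩
    · obtain ⟨x, rfl⟩ := h2 c y
      rw [comp_app', hesec σ h1] at hy
      have h6 : σ c x ∈ Submodule.map (σ c) (I.map (toΓ A X U) ^ (n + 1) • ⊤) := ⟨x, h5 n x hy, rfl⟩
      rw [Submodule.map_smul'', ← Ideal.map_pow] at h6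
      exact Submodule.smul_mono le_rfl le_top h6
    · have h6 : (e n ≫ π.app (op n)).app U y ∈
          Submodule.map (appLinear (e n ≫ π.app (op n)) U) ((I ^ (n + 1)).map (toΓ A X U) • ⊤) := ⟨_, hy, rfl⟩
      rw [Submodule.map_smul''] at h6
      have h7 : ((I ^ (n + 1)).map (toΓ A X U) • Submodule.map (appLinear (e n ≫ π.app (op n)) U) ⊤ :
          Submodule _ _) ≤ ⊥ :=
        Submodule.smul_le.2 fun a ha m _ => smul_eq_zero_of_killedBy (hFk n) U a ha m
      exact (Submodule.mem_bot _).1 (h7 h6)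
  · have hzm : ∀ {n m : ℕ} (hnm : n ≤ m), z m ≫ P.map (homOfLE hnm).op = z n := fun {n m} hnm => by
      induction m, hnm using Nat.le_induction with
      | base => rw [map_homOfLE_self, Category.comp_id]
      | succ m hm ih => rw [map_homOfLE_comp P hm (Nat.le_succ m), ← Category.assoc, hz, ih]
    refine ⟨z (c + c) ≫ arπ P c c, fun n => ?_, fun w hw => ?_⟩
    · have h1 : z (c + c) ≫ arπ P c c = z (n + c + c) ≫ arπ P c (n + c) ≫ E.map (homOfLE (Nat.le_add_left c n)).op := by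
        rw [← arπ_naturality, ← Category.assoc, hzm]
      change (z (c + c) ≫ arπ P c c) ≫ inv _ ≫ _ ≫ _ = _
      rw [h1]
      simp only [Category.assoc, IsIso.hom_inv_id_assoc]
      rw [arι_naturality, arπ_arι_assoc, ← P.map_comp]
      exact hzm (by omega : n ≤ n + c + c)
    · rw [← cancel_mono (e c), hw, Category.assoc, hec, arπ_arι, hzm]

end Groth.Agent.FormalB.FormalEss
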