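import Groth.Agent.FormalB.FormalLoc
import Groth.Agent.CohqA.HBiprod

/-!
# Finite generation of `I·O_X` and finite direct sums
-/

set_option autoImplicit false
universe u

open CategoryTheory CategoryTheory.Limits AlgebraicGeometry Opposite TopologicalSpace

namespace Groth.Agent.FormalB.FormalFG

open ModPow ModPowAff CohqB.FiniteType2 FormalLoc

attribute [local instance] Abelian.hasFiniteBiproducts

/-- A finite direct sum of coherent modules is coherent. -/
theorem isCoh_biproduct {X : Scheme.{u}} {J : Type} [Finite J] (A : J → X.Modules)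
    (h : ∀ j, Coh.IsCoh (A j)) : Coh.IsCoh (⨁ A) := by
  have := Fintype.ofFinite J
  have hq : Coh.IsQCoh (⨁ A) := CohqA.HBiprod.isQCoh_biproduct A fun j => (h j).1
  refine ⟨hq, (isFT_iff_finite_sections _).2 fun U hU => ?_⟩
  have : ∀ j, Module.Finite Γ(X, U) Γ(A j, U) := fun j => by
    have := (h j).1
    exact finite_sections_of_isFT _ (h j).2 hU
  let φ : (∀ j, Γ(A j, U)) →ₗ[Γ(X, U)] Γ(⨁ A, U) :=
    { toFun := fun z => ∑ j, (biproduct.ι A j).app U (z j)
      map_add' := fun z w => by
        simp only [Pi.add_apply, map_add, Finset.sum_add_distrib]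
      map_smul' := fun c z => by
        simp only [Pi.smul_apply, Scheme.Modules.Hom.app_smul, Finset.smul_sum, RingHom.id_apply] }
  refine Module.Finite.of_surjective φ fun x => ?_
  exact ⟨fun j => (biproduct.π A j).app U x, (CohqA.HBiprod.eq_sum A U x).symm⟩

section Over

variable {A : Type u} [CommRing A] {X : Scheme.{u}} [X.Over (Spec (CommRingCat.of A))]

/-- On a Noetherian scheme `J·O_X` is generated by finitely many elements of `J`. -/
theorem exists_finite_family [IsNoetherian X] (J : Ideal A) : ∃ (r : ℕ) (a : Fin r → A), (∀ i, a i ∈ J) ∧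
    ∀ x : X, ∃ U : X.Opens, x ∈ U ∧ IsAffineOpen U ∧
      J.map (toΓ A X U) = (Ideal.span (Set.range a)).map (toΓ A X U) := by
  classical
  have h1 : ∀ U : X.affineOpens, ∃ t : Finset A, (t : Set A) ⊆ J ∧
      J.map (toΓ A X U.1) = (Ideal.span (t : Set A)).map (toΓ A X U.1) := by
    intro U
    have hN : IsNoetherianRing Γ(X, U.1) := isNoetherianRing_sections U.2
    have hfg : (Submodule.span Γ(X, U.1) ((toΓ A X U.1) '' J)).FG := hN.noetherian _
    rw [Submodule.fg_span_iff_fg_span_finset_subset] at hfg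
    obtain ⟨s, hs, hs'⟩ := hfg
    obtain ⟨t, ht, rfl⟩ := Finset.subset_set_image_iff.1 hs
    refine ⟨t, ht, ?_⟩
    rw [Ideal.map_span]
    refine hs'.trans ?_
    rw [Finset.coe_image]
  choose t ht ht' using h1
  obtain ⟨S, hS⟩ := (isCompact_univ (X := X)).elim_finite_subcover (fun U : X.affineOpens => ((U : X.Opens) : Set X))
    (fun U => U.1.2) (fun x _ => by
      have : x ∈ (⨆ U : X.affineOpens, (U : X.Opens)) := by rw [iSup_affineOpens_eq_top X]; trivial
      obtain ⟨U, hU⟩ := Opens.mem_iSup.1 this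
      exact Set.mem_iUnion.2 ⟨U, hU⟩)
  let s : Finset A := S.biUnion t
  have hsJ : (s : Set A) ⊆ J := fun a ha => by
    obtain ⟨U, -, haU⟩ := Finset.mem_biUnion.1 (Finset.mem_coe.1 ha)
    exact ht U haU
  refine ⟨s.card, fun i => (s.equivFin.symm i : A), fun i => hsJ (s.equivFin.symm i).2, fun x => ?_⟩
  have hx := hS (Set.mem_univ x)
  simp only [Set.mem_iUnion] at hx
  obtain ⟨U, hUS, hxU⟩ := hx
  refine ⟨U.1, hxU, U.2, le_antisymm ?_ ?_⟩
  · rw [ht' U]
    refine Ideal.map_mono (Ideal.span_mono fun a ha => ?_)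
    have has : a ∈ s := Finset.mem_biUnion.2 ⟨U, hUS, ha⟩
    exact ⟨s.equivFin ⟨a, has⟩, by simp⟩
  · refine Ideal.map_mono (Ideal.span_le.2 ?_)
    rintro _ ⟨i, rfl⟩
    exact hsJ (s.equivFin.symm i).2

/-- being killed by all products of pairs of generators. -/
theorem killedBy_mul_of_family {J : Ideal A} {r : ℕ} {a : Fin r → A}
    (ha : ∀ x : X, ∃ U : X.Opens, x ∈ U ∧ IsAffineOpen U ∧
      J.map (toΓ A X U) = (Ideal.span (Set.range a)).map (toΓ A X U)) {M : X.Modules} (hM : Coh.IsQCoh M)
    (h : ∀ i j, Formal.smulMod A M (a i * a j) = 0) : Formal.KilledBy (J * J) M := by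
  have h1 : Formal.KilledBy (Ideal.span (Set.range a) * Ideal.span (Set.range a)) M := by
    intro b hb
    rw [Ideal.span_mul_span'] at hb
    induction hb using Submodule.span_induction with
    | mem x hx =>
      obtain ⟨_, ⟨i, rfl⟩, _, ⟨j, rfl⟩, rfl⟩ := Set.mem_mul.1 hx
      exact h i j
    | zero => exact smulMod_zero M
    | add x y _ _ hx hy => rw [smulMod_add, hx, hy, add_zero]
    | smul c x _ hx => rw [smul_eq_mul, smulMod_mul, hx]; simp
  refine killedBy_of_cover hM fun x => ?_
  obtain ⟨U, hxU, hU, hUJ⟩ := ha x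
  refine ⟨U, hxU, hU, fun b hb m => smul_eq_zero_of_killedBy h1 U _ ?_ m⟩
  rw [Ideal.map_mul, ← hUJ, ← Ideal.map_mul]
  exact Ideal.mem_map_of_mem _ hb

end Over

end Groth.Agent.FormalB.FormalFG
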