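import Mathlib.LinearAlgebra.Quotient.Pi
import Mathlib.Algebra.Module.Submodule.Range
import Mathlib.RingTheory.Finiteness.Basic
import Mathlib.Data.Finite.Sigma
import Mathlib.Algebra.Module.FinitePresentation

/-!
# Modules which become free after inverting an element, up to bounded torsion

`IsFreeUpTo g B N κ`: the `A`-module `N` is isomorphic to `B^κ` up to multiplication by a power
of `g`.  If a finite family `g i` is given and `N` is free up to each `g i`, then `N` maps to some
`B^a` with kernel killed by powers of the `g i` and the cokernel is again free up to each `g i`.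
-/

set_option autoImplicit false

universe u v

namespace Groth.Agent.FormalB.FreeUpTo

variable {A : Type u} [CommRing A]

/-- `N` is isomorphic to `κ → B` up to multiplication by a power of `g`. -/
def IsFreeUpTo (g : A) (B N : Type u) [AddCommGroup B] [Module A B] [AddCommGroup N] [Module A N]
    (κ : Type) : Prop :=
  ∃ (k : ℕ) (a : N →ₗ[A] (κ → B)) (b : (κ → B) →ₗ[A] N),
    (∀ x, b (a x) = g ^ k • x) ∧ (∀ y, a (b y) = g ^ k • y)

variable {B N : Type u} [AddCommGroup B] [Module A B] [AddCommGroup N] [Module A N]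

/-- The embedding lemma. -/
theorem exists_embedding {ι : Type} [Finite ι] (g : ι → A) (κ : ι → Type)
    (hκ : ∀ i, Finite (κ i)) (h : ∀ i, IsFreeUpTo (g i) B N (κ i)) :
    ∃ (κ' : Type) (_ : Finite κ') (φ : N →ₗ[A] (κ' → B)),
      (∀ i, ∃ k : ℕ, ∀ x, φ x = 0 → g i ^ k • x = 0) ∧
      ∀ i, ∃ (κ'' : Type) (_ : Finite κ''),
        IsFreeUpTo (g i) B ((κ' → B) ⧸ LinearMap.range φ) κ'' := by
  classical
  choose k a b hba hab using h
  -- the product of all the maps
  let κ' := Σ i, κ i
  let φ : N →ₗ[A] (κ' → B) := LinearMap.pi fun j => (LinearMap.proj j.2).comp (a j.1)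
  have hφ : ∀ x (j : κ'), φ x j = a j.1 x j.2 := fun _ _ => rfl
  have hfin : Finite κ' := by
    have := hκ
    infer_instance
  refine ⟨κ', hfin, φ, fun i => ⟨k i, fun x hx => ?_⟩, fun i => ?_⟩
  · rw [← hba i x]
    have : a i x = 0 := by
      ext j
      exact congrFun hx ⟨i, j⟩
    rw [this, map_zero]
  · -- components away from `i`
    let κ'' := {j : κ' // j.1 ≠ i}
    -- the component at `i`
    let p : (κ' → B) →ₗ[A] (κ i → B) := LinearMap.pi fun j => LinearMap.proj (⟨i, j⟩ : κ')
    have hp : ∀ y j, p y j = y ⟨i, j⟩ := fun _ _ => rfl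
    have hpφ : ∀ x, p (φ x) = a i x := fun x => by ext j; rfl
    let ψ₀ : (κ' → B) →ₗ[A] (κ'' → B) :=
      (LinearMap.pi fun j => g i ^ k i • LinearMap.proj (R := A) (φ := fun _ : κ' => B) j.1) -
        (LinearMap.pi fun j : κ'' => (LinearMap.proj j.1).comp (φ.comp ((b i).comp p)))
    have hψ₀ : ∀ y (j : κ''), ψ₀ y j = g i ^ k i • y j.1 - φ (b i (p y)) j.1 := fun _ _ => rfl
    have hψ₀φ : LinearMap.range φ ≤ LinearMap.ker ψ₀ := by
      rintro _ ⟨x, rfl⟩
      rw [LinearMap.mem_ker]
      ext j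
      rw [hψ₀, hpφ, hba, map_smul]
      simp
    let ψ : ((κ' → B) ⧸ LinearMap.range φ) →ₗ[A] (κ'' → B) := (LinearMap.range φ).liftQ ψ₀ hψ₀φ
    let ι₀ : (κ'' → B) →ₗ[A] (κ' → B) :=
      LinearMap.pi fun j => if h : j.1 ≠ i then LinearMap.proj (⟨j, h⟩ : κ'') else 0
    have hι₀ : ∀ y (j : κ') (h : j.1 ≠ i), ι₀ y j = y ⟨j, h⟩ := by
      intro y j h
      change (if h : j.1 ≠ i then LinearMap.proj (R := A) (φ := fun _ => B) (⟨j, h⟩ : κ'')
        else 0 : (κ'' → B) →ₗ[A] B) y = _
      rw [dif_pos h]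
      rfl
    have hι₀' : ∀ y (j : κ i), ι₀ y ⟨i, j⟩ = 0 := by
      intro y j
      change (if h : i ≠ i then LinearMap.proj (R := A) (φ := fun _ => B) (⟨⟨i, j⟩, h⟩ : κ'')
        else 0 : (κ'' → B) →ₗ[A] B) y = _
      rw [dif_neg (by simp)]
      rfl
    refine ⟨κ'', inferInstance, k i, ψ, (LinearMap.range φ).mkQ.comp ι₀, ?_, ?_⟩
    · intro y
      obtain ⟨y, rfl⟩ := Submodule.Quotient.mk_surjective _ y
      change Submodule.Quotient.mk (ι₀ (ψ₀ y)) = _
      rw [← Submodule.Quotient.mk_smul, Submodule.Quotient.eq]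
      refine ⟨-(b i (p y)), ?_⟩
      ext j
      by_cases hj : j.1 = i
      · obtain ⟨i', j⟩ := j
        dsimp only at hj
        subst hj
        rw [map_neg]
        change - (φ (b i' (p y)) ⟨i', j⟩) = ι₀ (ψ₀ y) ⟨i', j⟩ - g i' ^ k i' • y ⟨i', j⟩
        rw [hι₀', zero_sub, hφ, hab]
        rfl
      · change φ (-(b i (p y))) j = ι₀ (ψ₀ y) j - g i ^ k i • y j
        rw [hι₀ _ _ hj, hψ₀, map_neg]
        simp
    · intro y
      change ψ₀ (ι₀ y) = _
      have hp0 : p (ι₀ y) = 0 := by
        ext j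
        rw [hp, hι₀']
        rfl
      ext j
      rw [hψ₀, hp0, map_zero, map_zero, hι₀ _ _ j.2]
      simp

/-- If `N` and `B` are finitely presented and their localizations at `g` are `N_g ≅ (B_g)^κ`, then
`N` is free up to `g`. -/
theorem isFreeUpTo_of_equiv [Module.FinitePresentation A N] [Module.FinitePresentation A B]
    (g : A) {κ : Type} [Finite κ] {N' F' : Type*} [AddCommGroup N'] [Module A N']
    [AddCommGroup F'] [Module A F'] (iN : N →ₗ[A] N') (iF : (κ → B) →ₗ[A] F')
    [IsLocalizedModule (Submonoid.powers g) iN] [IsLocalizedModule (Submonoid.powers g) iF]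
    (e : N' ≃ₗ[A] F') : IsFreeUpTo g B N κ := by
  have : Module.FinitePresentation A (κ → B) := inferInstance
  obtain ⟨a, ⟨_, k, rfl⟩, ha⟩ := Module.FinitePresentation.exists_lift_of_isLocalizedModule
    (Submonoid.powers g) iF (e.toLinearMap.comp iN)
  obtain ⟨b, ⟨_, l, rfl⟩, hb⟩ := Module.FinitePresentation.exists_lift_of_isLocalizedModule
    (Submonoid.powers g) iN (e.symm.toLinearMap.comp iF)
  have ha' : ∀ x, iF (a x) = g ^ k • e (iN x) := fun x => LinearMap.congr_fun ha x
  have hb' : ∀ y, iN (b y) = g ^ l • e.symm (iF y) := fun y => LinearMap.congr_fun hb y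
  obtain ⟨⟨_, m, rfl⟩, hm⟩ := Module.Finite.exists_smul_of_comp_eq_of_isLocalizedModule
    (Submonoid.powers g) iN (b.comp a) (g ^ (k + l) • LinearMap.id) (by
      ext x
      change iN (b (a x)) = iN (g ^ (k + l) • x)
      rw [hb', ha', map_smul, map_smul, e.symm_apply_apply, ← mul_smul, ← pow_add, add_comm])
  obtain ⟨⟨_, n, rfl⟩, hn⟩ := Module.Finite.exists_smul_of_comp_eq_of_isLocalizedModule
    (Submonoid.powers g) iF (a.comp b) (g ^ (k + l) • LinearMap.id) (by
      refine LinearMap.ext fun x => ?_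
      change iF (a (b x)) = iF (g ^ (k + l) • x)
      rw [ha', hb', map_smul, map_smul, e.apply_symm_apply, ← mul_smul, ← pow_add])
  have hm' : ∀ x, g ^ m • b (a x) = g ^ m • g ^ (k + l) • x := fun x => LinearMap.congr_fun hm x
  have hn' : ∀ x, g ^ n • a (b x) = g ^ n • g ^ (k + l) • x := fun x => LinearMap.congr_fun hn x
  refine ⟨(m + n) + (k + l), a, g ^ (m + n) • b, fun x => ?_, fun y => ?_⟩
  · rw [LinearMap.smul_apply, pow_add g m n, mul_comm, mul_smul, hm', pow_add g (m + n),
      pow_add g m n]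
    simp only [smul_smul]
    congr 1
    ring
  · rw [LinearMap.smul_apply, map_smul, pow_add g m n, mul_smul, hn', pow_add g (m + n),
      pow_add g m n]
    simp only [smul_smul]
    congr 1
    ring

end Groth.Agent.FormalB.FreeUpTo
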