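import Groth.Agent.FormalB.FreeUpTo

/-!
# More on modules which are free up to powers of an element
-/

set_option autoImplicit false

universe u v

namespace Groth.Agent.FormalB.FreeUpTo

variable {A : Type u} [CommRing A]
variable {B N Q : Type u} [AddCommGroup B] [Module A B] [AddCommGroup N] [Module A N]
  [AddCommGroup Q] [Module A Q]

/-- the cokernel of `x ↦ (g j ^ e • x)_j` is `N^{ι ∖ i}` up to powers of `g i` -/
theorem isFreeUpTo_coker_smul {ι : Type} [Finite ι] (g : ι → A) (e : ℕ) (i : ι)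
    (φ : N →ₗ[A] (ι → N)) (hφ : ∀ x j, φ x j = g j ^ e • x) :
    IsFreeUpTo (g i) N ((ι → N) ⧸ LinearMap.range φ) {j : ι // j ≠ i} := by
  classical
  let ψ₀ : (ι → N) →ₗ[A] ({j : ι // j ≠ i} → N) :=
    LinearMap.pi fun j => g i ^ e • LinearMap.proj (R := A) (φ := fun _ : ι => N) j.1 -
      g j.1 ^ e • LinearMap.proj (R := A) (φ := fun _ : ι => N) i
  have hψ₀ : ∀ y (j : {j : ι // j ≠ i}), ψ₀ y j = g i ^ e • y j.1 - g j.1 ^ e • y i :=
    fun _ _ => rfl
  have hψ₀φ : LinearMap.range φ ≤ LinearMap.ker ψ₀ := by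
    rintro _ ⟨x, rfl⟩
    rw [LinearMap.mem_ker]
    ext j
    rw [hψ₀, hφ, hφ, smul_smul, smul_smul, mul_comm]
    simp
  let ψ : ((ι → N) ⧸ LinearMap.range φ) →ₗ[A] ({j : ι // j ≠ i} → N) :=
    (LinearMap.range φ).liftQ ψ₀ hψ₀φ
  let ι₀ : ({j : ι // j ≠ i} → N) →ₗ[A] (ι → N) :=
    LinearMap.pi fun j => if h : j ≠ i then LinearMap.proj (⟨j, h⟩ : {j : ι // j ≠ i}) else 0
  have hι₀ : ∀ y (j : ι) (h : j ≠ i), ι₀ y j = y ⟨j, h⟩ := by
    intro y j h
    change (if h : j ≠ i then LinearMap.proj (R := A) (φ := fun _ => N)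
      (⟨j, h⟩ : {j : ι // j ≠ i}) else 0 : ({j : ι // j ≠ i} → N) →ₗ[A] N) y = _
    rw [dif_pos h]
    rfl
  have hι₀' : ∀ y, ι₀ y i = 0 := by
    intro y
    change (if h : i ≠ i then LinearMap.proj (R := A) (φ := fun _ => N)
      (⟨i, h⟩ : {j : ι // j ≠ i}) else 0 : ({j : ι // j ≠ i} → N) →ₗ[A] N) y = _
    rw [dif_neg (by simp)]
    rfl
  refine ⟨e, ψ, (LinearMap.range φ).mkQ.comp ι₀, ?_, ?_⟩
  · intro y
    obtain ⟨y, rfl⟩ := Submodule.Quotient.mk_surjective _ y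
    change Submodule.Quotient.mk (ι₀ (ψ₀ y)) = _
    rw [← Submodule.Quotient.mk_smul, Submodule.Quotient.eq]
    refine ⟨-(y i), ?_⟩
    ext j
    by_cases hj : j = i
    · subst hj
      rw [map_neg]
      change - (φ (y j) j) = ι₀ (ψ₀ y) j - g j ^ e • y j
      rw [hι₀', zero_sub, hφ]
    · change φ (-(y i)) j = ι₀ (ψ₀ y) j - g i ^ e • y j
      rw [hι₀ _ _ hj, hψ₀, map_neg]
      change - (φ (y i) j) = _
      rw [hφ]
      simp
  · intro y
    change ψ₀ (ι₀ y) = _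
    ext j
    rw [hψ₀, hι₀', hι₀ _ _ j.2]
    simp

/-- transitivity -/
theorem IsFreeUpTo.trans {g : A} {κ lam : Type} (h : IsFreeUpTo g B N κ)
    (h' : IsFreeUpTo g N Q lam) : IsFreeUpTo g B Q (lam × κ) := by
  obtain ⟨k, a, b, hba, hab⟩ := h
  obtain ⟨l, a', b', hba', hab'⟩ := h'
  let P : (lam → N) →ₗ[A] (lam × κ → B) :=
    LinearMap.pi fun j => (LinearMap.proj j.2).comp (a.comp (LinearMap.proj j.1))
  let R : (lam × κ → B) →ₗ[A] (lam → N) :=
    LinearMap.pi fun j => b.comp (LinearMap.pi fun m => LinearMap.proj (j, m))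
  have hP : ∀ x j, P x j = a (x j.1) j.2 := fun _ _ => rfl
  have hR : ∀ x j, R x j = b (fun m => x (j, m)) := fun _ _ => rfl
  refine ⟨k + l, P.comp a', b'.comp R, fun x => ?_, fun y => ?_⟩
  · have h1 : R (P (a' x)) = g ^ k • a' x := by
      ext j
      rw [hR]
      have : (fun m => P (a' x) (j, m)) = a (a' x j) := by
        ext m
        rw [hP]
      rw [this, hba]
      rfl
    change b' (R (P (a' x))) = _
    rw [h1, map_smul, hba', smul_smul, ← pow_add]
  · have h1 : ∀ z : lam → N, P (g ^ l • z) = g ^ l • P z := fun z => map_smul _ _ _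
    change P (a' (b' (R y))) = _
    rw [hab', h1]
    ext j
    change g ^ l • P (R y) j = g ^ (k + l) • y j
    rw [hP, hR, hab]
    change g ^ l • g ^ k • y (j.1, j.2) = _
    rw [smul_smul, ← pow_add, add_comm]

end Groth.Agent.FormalB.FreeUpTo
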