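import Groth.Agent.FormalB.HHDelta
import Groth.Agent.FormalB.PuncTheta
import Groth.Agent.CurvesB.HZero

/-!
# `H^0(U, -)` as the right adjoint of `Theta U`
-/

set_option autoImplicit false
universe u

open CategoryTheory CategoryTheory.Limits AlgebraicGeometry Opposite TopologicalSpace
open Groth.Agent.FormalB.PuncTheta Groth.Agent.FormalB.HHDelta

namespace Groth.Agent.FormalB.GamZero

variable {A : Type u} [CommRing A] (U : (Spec (CommRingCat.of A)).Opens)

/-- additive version -/
noncomputable def zeroAdd (F : (U : Scheme.{u}).Modules) :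
    Coh.HH (U : Scheme.{u}) F 0 ≃+ (Gam U).obj F :=
  CurvesB.HZero.equivAdd F

theorem zeroAdd_map {F G : (U : Scheme.{u}).Modules} (φ : F ⟶ G)
    (x : Coh.HH (U : Scheme.{u}) F 0) :
    zeroAdd U G (((hh (U : Scheme.{u}) A 0).map φ).hom x) = ((Gam U).map φ).hom (zeroAdd U F x) :=
  CurvesB.HZero.equivAdd_map φ x

theorem zeroAdd_smul (F : (U : Scheme.{u}).Modules) (a : A)
    (x : Coh.HH (U : Scheme.{u}) F 0) :
    zeroAdd U F (a • x) = a • zeroAdd U F x := by
  have h := zeroAdd_map U (Formal.smulMod A F a) x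
  rw [gam_map_smulMod] at h
  exact h

/-- linear version -/
noncomputable def zeroLin (F : (U : Scheme.{u}).Modules) :
    Coh.HH (U : Scheme.{u}) F 0 ≃ₗ[A] (Gam U).obj F :=
  { zeroAdd U F with map_smul' := fun a x => zeroAdd_smul U F a x }

theorem zeroLin_map {F G : (U : Scheme.{u}).Modules} (φ : F ⟶ G)
    (x : Coh.HH (U : Scheme.{u}) F 0) :
    zeroLin U G (((hh (U : Scheme.{u}) A 0).map φ).hom x) = ((Gam U).map φ).hom (zeroLin U F x) :=
  zeroAdd_map U φ x

/-- `H^0(U, -)` is the right adjoint of `Theta U`. -/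
noncomputable def zeroIso : hh (U : Scheme.{u}) A 0 ≅ Gam U :=
  NatIso.ofComponents (fun F => (zeroLin U F).toModuleIso) (fun {F G} φ => by
    refine ModuleCat.hom_ext (LinearMap.ext fun x => ?_)
    exact zeroLin_map U φ x)

theorem hh_zero_injective {F G : (U : Scheme.{u}).Modules} (φ : F ⟶ G) [Mono φ] :
    Function.Injective ((hh (U : Scheme.{u}) A 0).map φ).hom := by
  have h1 : Mono ((Gam U).map φ) := inferInstance
  have h2 : Function.Injective ((Gam U).map φ).hom := (ModuleCat.mono_iff_injective _).1 h1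
  intro x y hxy
  apply (zeroLin U F).injective
  apply h2
  rw [← zeroLin_map, ← zeroLin_map, hxy]

end Groth.Agent.FormalB.GamZero
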