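import Mathlib.AlgebraicGeometry.Modules.Sheaf
import Mathlib.Topology.Sheaves.SheafCondition.UniqueGluing
import Mathlib.Topology.Sheaves.LocallySurjective

set_option autoImplicit false
set_option linter.unusedSectionVars false

universe u

open CategoryTheory AlgebraicGeometry TopologicalSpace Opposite

namespace Groth.Agent.FormalB.GlueHom

variable {X : Scheme.{u}}

/-- Restriction of a section of an O_X-module. -/
noncomputable def res (M : X.Modules) {U V : X.Opens} (h : V ≤ U) (s : Γ(M, U)) : Γ(M, V) :=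
  M.presheaf.map (homOfLE h).op s

theorem res_def (M : X.Modules) {U V : X.Opens} (h : V ≤ U) (s : Γ(M, U)) :
    res M h s = M.presheaf.map (homOfLE h).op s := rfl

theorem res_res (M : X.Modules) {U V W : X.Opens} (h : V ≤ U) (h' : W ≤ V) (s : Γ(M, U)) :
    res M h' (res M h s) = res M (h'.trans h) s := by
  simp only [res]
  rw [← ConcreteCategory.comp_apply, ← Functor.map_comp]
  rfl

theorem res_self (M : X.Modules) {U : X.Opens} (h : U ≤ U) (s : Γ(M, U)) : res M h s = s := by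
  simp only [res]
  have : (homOfLE h).op = 𝟙 (op U) := rfl
  rw [this, CategoryTheory.Functor.map_id]
  rfl

theorem res_add (M : X.Modules) {U V : X.Opens} (h : V ≤ U) (s t : Γ(M, U)) :
    res M h (s + t) = res M h s + res M h t := by
  simp only [res, map_add]

theorem res_zero (M : X.Modules) {U V : X.Opens} (h : V ≤ U) : res M h (0 : Γ(M, U)) = 0 := by
  simp only [res, map_zero]

theorem res_neg (M : X.Modules) {U V : X.Opens} (h : V ≤ U) (s : Γ(M, U)) :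
    res M h (-s) = - res M h s := by
  simp only [res, map_neg]

theorem res_sub (M : X.Modules) {U V : X.Opens} (h : V ≤ U) (s t : Γ(M, U)) :
    res M h (s - t) = res M h s - res M h t := by
  simp only [res, map_sub]

theorem res_sum (M : X.Modules) {U V : X.Opens} (h : V ≤ U) {ι : Type*} (t : Finset ι) (s : ι → Γ(M, U)) :
    res M h (∑ i ∈ t, s i) = ∑ i ∈ t, res M h (s i) := by
  simp only [res, map_sum]

theorem res_smul (M : X.Modules) {U V : X.Opens} (h : V ≤ U) (c : Γ(X, U)) (s : Γ(M, U)) :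
    res M h (c • s) = (X.presheaf.map (homOfLE h).op c : Γ(X, V)) • res M h s :=
  Scheme.Modules.map_smul M (homOfLE h) c s

theorem app_res {M N : X.Modules} (φ : M ⟶ N) {U V : X.Opens} (h : V ≤ U) (s : Γ(M, U)) :
    φ.app V (res M h s) = res N h (φ.app U s) := by
  have := φ.mapPresheaf.naturality (homOfLE h).op
  exact congr($this s)

theorem eq_of_local (M : X.Modules) {U : X.Opens} {s t : Γ(M, U)}
    (H : ∀ x ∈ U, ∃ (V : X.Opens) (h : V ≤ U), x ∈ V ∧ res M h s = res M h t) : s = t := by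
  choose V hV hx h using H
  exact TopCat.Sheaf.eq_of_locally_eq' ⟨_, M.isSheaf⟩ (fun x : U => V x.1 x.2) U (fun x => homOfLE (hV x.1 x.2))
    (fun x hxU => Opens.mem_iSup.mpr ⟨⟨x, hxU⟩, hx x hxU⟩) s t (fun x => h x.1 x.2)

theorem exists_glue (M : X.Modules) (U : X.Opens) {ι : Type u} (V : ι → X.Opens) (hV : ∀ i, V i ≤ U)
    (hcov : ∀ x ∈ U, ∃ i, x ∈ V i) (s : ∀ i, Γ(M, V i))
    (hs : ∀ i j, res M (inf_le_left : V i ⊓ V j ≤ V i) (s i) = res M (inf_le_right : V i ⊓ V j ≤ V j) (s j)) :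
    ∃ t : Γ(M, U), ∀ i, res M (hV i) t = s i := by
  obtain ⟨t, ht, -⟩ := TopCat.Sheaf.existsUnique_gluing' ⟨_, M.isSheaf⟩ V U (fun i => homOfLE (hV i))
    (fun x hxU => Opens.mem_iSup.mpr (hcov x hxU)) s (fun i j => hs i j)
  exact ⟨t, ht⟩

/-- To define a morphism of O_X-modules, it is enough to prescribe it on enough local sections, consistently. -/
theorem exists_hom_of_rel (G F : X.Modules) (Rel : ∀ U : X.Opens, Γ(G, U) → Γ(F, U) → Prop)
    (h_ex : ∀ (U : X.Opens) (s : Γ(G, U)), ∀ x ∈ U, ∃ (V : X.Opens) (h : V ≤ U) (t : Γ(F, V)),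
      x ∈ V ∧ Rel V (res G h s) t)
    (h_uniq : ∀ (U : X.Opens) (s : Γ(G, U)) (t t' : Γ(F, U)), Rel U s t → Rel U s t' → t = t')
    (h_res : ∀ (U V : X.Opens) (h : V ≤ U) (s : Γ(G, U)) (t : Γ(F, U)), Rel U s t →
      Rel V (res G h s) (res F h t))
    (h_add : ∀ (U : X.Opens) (s s' : Γ(G, U)) (t t' : Γ(F, U)), Rel U s t → Rel U s' t' →
      Rel U (s + s') (t + t'))
    (h_smul : ∀ (U : X.Opens) (c : Γ(X, U)) (s : Γ(G, U)) (t : Γ(F, U)), Rel U s t →
      ∀ x ∈ U, ∃ (V : X.Opens) (h : V ≤ U), x ∈ V ∧ Rel V (res G h (c • s)) (res F h (c • t))) :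
    ∃ φ : G ⟶ F, ∀ (U : X.Opens) (s : Γ(G, U)) (t : Γ(F, U)), Rel U s t → φ.app U s = t := by
  -- local relation
  let LRel : ∀ U : X.Opens, Γ(G, U) → Γ(F, U) → Prop := fun U s t =>
    ∀ x ∈ U, ∃ (V : X.Opens) (h : V ≤ U), x ∈ V ∧ Rel V (res G h s) (res F h t)
  have L_uniq : ∀ (U : X.Opens) (s : Γ(G, U)) (t t' : Γ(F, U)), LRel U s t → LRel U s t' → t = t' := by
    intro U s t t' h1 h2
    refine eq_of_local F fun x hx => ?_
    obtain ⟨V, hV, hxV, r1⟩ := h1 x hx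
    obtain ⟨V', hV', hxV', r2⟩ := h2 x hx
    refine ⟨V ⊓ V', inf_le_left.trans hV, ⟨hxV, hxV'⟩, ?_⟩
    have r1' := h_res _ _ (inf_le_left : V ⊓ V' ≤ V) _ _ r1
    have r2' := h_res _ _ (inf_le_right : V ⊓ V' ≤ V') _ _ r2
    rw [res_res, res_res] at r1' r2'
    exact h_uniq _ _ _ _ r1' r2'
  have L_ex : ∀ (U : X.Opens) (s : Γ(G, U)), ∃ t : Γ(F, U), LRel U s t := by
    intro U s
    choose V hV t hx r using fun x : U => h_ex U s x.1 x.2
    obtain ⟨y, hy⟩ := exists_glue F U V hV (fun x hxU => ⟨⟨x, hxU⟩, hx ⟨x, hxU⟩⟩) t (fun i j => by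
      have r1 := h_res _ _ (inf_le_left : V i ⊓ V j ≤ V i) _ _ (r i)
      have r2 := h_res _ _ (inf_le_right : V i ⊓ V j ≤ V j) _ _ (r j)
      rw [res_res] at r1 r2
      exact h_uniq _ _ _ _ r1 r2)
    exact ⟨y, fun x hxU => ⟨V ⟨x, hxU⟩, hV ⟨x, hxU⟩, hx ⟨x, hxU⟩, by rw [hy]; exact r ⟨x, hxU⟩⟩⟩
  have L_of : ∀ (U : X.Opens) (s : Γ(G, U)) (t : Γ(F, U)), Rel U s t → LRel U s t := fun U s t h x hx =>
    ⟨U, le_rfl, hx, h_res _ _ _ _ _ h⟩
  have L_res : ∀ (U V : X.Opens) (h : V ≤ U) (s : Γ(G, U)) (t : Γ(F, U)), LRel U s t →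
      LRel V (res G h s) (res F h t) := by
    intro U V h s t r x hx
    obtain ⟨W, hW, hxW, rW⟩ := r x (h hx)
    refine ⟨V ⊓ W, inf_le_left, ⟨hx, hxW⟩, ?_⟩
    have := h_res _ _ (inf_le_right : V ⊓ W ≤ W) _ _ rW
    rw [res_res, res_res] at this ⊢
    exact this
  choose Φ hΦ using L_ex
  have Φ_eq : ∀ (U : X.Opens) (s : Γ(G, U)) (t : Γ(F, U)), LRel U s t → Φ U s = t := fun U s t h =>
    L_uniq _ _ _ _ (hΦ U s) h
  have Φ_add : ∀ (U : X.Opens) (s s' : Γ(G, U)), Φ U (s + s') = Φ U s + Φ U s' := by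
    intro U s s'
    refine Φ_eq _ _ _ fun x hx => ?_
    obtain ⟨V, hV, hxV, r1⟩ := hΦ U s x hx
    obtain ⟨V', hV', hxV', r2⟩ := hΦ U s' x hx
    refine ⟨V ⊓ V', inf_le_left.trans hV, ⟨hxV, hxV'⟩, ?_⟩
    have r1' := h_res _ _ (inf_le_left : V ⊓ V' ≤ V) _ _ r1
    have r2' := h_res _ _ (inf_le_right : V ⊓ V' ≤ V') _ _ r2
    rw [res_res, res_res] at r1' r2'
    rw [res_add, res_add]
    exact h_add _ _ _ _ _ r1' r2'
  have Φ_smul : ∀ (U : X.Opens) (c : Γ(X, U)) (s : Γ(G, U)), Φ U (c • s) = c • Φ U s := by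
    intro U c s
    refine Φ_eq _ _ _ fun x hx => ?_
    obtain ⟨V, hV, hxV, r1⟩ := hΦ U s x hx
    obtain ⟨W, hW, hxW, r2⟩ := h_smul V (X.presheaf.map (homOfLE hV).op c) _ _ r1 x hxV
    refine ⟨W, hW.trans hV, hxW, ?_⟩
    rw [← res_smul, ← res_smul, res_res, res_res] at r2
    exact r2
  have Φ_res : ∀ (U V : X.Opens) (h : V ≤ U) (s : Γ(G, U)), Φ V (res G h s) = res F h (Φ U s) :=
    fun U V h s => Φ_eq _ _ _ (L_res _ _ _ _ _ (hΦ U s))
  refine ⟨⟨PresheafOfModules.homMk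
    { app := fun U => AddCommGrpCat.ofHom (AddMonoidHom.mk' (Φ U.unop) (Φ_add U.unop))
      naturality := fun U V i => by
        ext s
        exact Φ_res U.unop V.unop i.unop.le s } (fun U r m => Φ_smul U.unop r m)⟩, fun U s t h => ?_⟩
  exact Φ_eq _ _ _ (L_of _ _ _ h)

/-- A morphism of O_X-modules which is locally injective and locally surjective on sections is an isomorphism. -/
theorem isIso_of_local {G F : X.Modules} (φ : G ⟶ F)
    (h_inj : ∀ (U : X.Opens) (s : Γ(G, U)), φ.app U s = 0 → ∀ x ∈ U, ∃ (V : X.Opens) (h : V ≤ U), x ∈ V ∧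
      res G h s = 0)
    (h_surj : ∀ (U : X.Opens) (t : Γ(F, U)), ∀ x ∈ U, ∃ (V : X.Opens) (h : V ≤ U) (s : Γ(G, V)), x ∈ V ∧
      φ.app V s = res F h t) : IsIso φ := by
  have inj : ∀ (U : X.Opens) (s : Γ(G, U)), φ.app U s = 0 → s = 0 := by
    intro U s hs
    refine eq_of_local G fun x hx => ?_
    obtain ⟨V, h, hxV, hV⟩ := h_inj U s hs x hx
    exact ⟨V, h, hxV, by rw [hV, res_zero]⟩
  have inj' : ∀ (U : X.Opens), Function.Injective (φ.app U) := by
    intro U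
    rw [injective_iff_map_eq_zero]
    exact fun s hs => inj U s hs
  rw [Scheme.Modules.Hom.isIso_iff_isIso_app]
  intro U
  rw [ConcreteCategory.isIso_iff_bijective]
  refine ⟨inj' U, fun t => ?_⟩
  choose V hV s hx hs using fun x : U => h_surj U t x.1 x.2
  obtain ⟨y, hy⟩ := exists_glue G U V hV (fun x hxU => ⟨⟨x, hxU⟩, hx ⟨x, hxU⟩⟩) s (fun i j => by
    apply inj'
    rw [app_res, app_res, hs, hs, res_res, res_res])
  refine ⟨y, eq_of_local F fun x hxU => ⟨V ⟨x, hxU⟩, hV ⟨x, hxU⟩, hx ⟨x, hxU⟩, ?_⟩⟩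
  rw [← app_res, hy, hs]

end Groth.Agent.FormalB.GlueHom
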