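import Groth.Agent.FormalB.GrTildeSect

set_option autoImplicit false
set_option linter.unusedSectionVars false

universe u v

open DirectSum

namespace Groth.Agent.FormalB.GradedQuot

open Groth.Agent.FormalB.GrTildeSect

section Internal

variable {R : Type u} [CommRing R] {M : Type v} [AddCommGroup M] [Module R M] (ℳ : ℕ → Submodule R M)

/-- A criterion for being an internal direct sum, in terms of finite sums. -/
theorem isInternal_of_finset
    (h_span : ∀ x : M, ∃ (s : Finset ℕ) (y : ℕ → M), (∀ n, y n ∈ ℳ n) ∧ x = ∑ n ∈ s, y n)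
    (h_ind : ∀ (s : Finset ℕ) (y : ℕ → M), (∀ n, y n ∈ ℳ n) → ∑ n ∈ s, y n = 0 → ∀ n ∈ s, y n = 0) :
    DirectSum.IsInternal ℳ := by
  classical
  constructor
  · rw [injective_iff_map_eq_zero]
    intro x hx
    rw [DirectSum.coeAddMonoidHom_eq_dfinsuppSum, DFinsupp.sum] at hx
    have := h_ind x.support (fun n => (x n : M)) (fun n => (x n).2) hx
    ext n
    by_cases hn : n ∈ x.support
    · rw [this n hn]; rfl
    · rw [DFinsupp.notMem_support_iff.mp hn]; rfl
  · intro x
    obtain ⟨s, y, hy, rfl⟩ := h_span x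
    refine ⟨∑ n ∈ s, DirectSum.of (fun n => ℳ n) n ⟨y n, hy n⟩, ?_⟩
    rw [map_sum]
    refine Finset.sum_congr rfl fun n _ => ?_
    rw [DirectSum.coeAddMonoidHom_of]

end Internal

section Shift

variable {R A : Type u} [CommRing R] [CommRing A] [Algebra R A] (𝒜 : ℕ → Submodule R A) [GradedAlgebra 𝒜]
variable {J : Type} (e : J → ℕ)

/-- The degree-`n` part of the graded free module `⊕ A(-e j)`. -/
def shiftPart (n : ℕ) : Submodule R (J → A) where
  carrier := {v | ∀ j, v j ∈ zdeg 𝒜 ((n : ℤ) + (-(e j : ℤ)))}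
  add_mem' := fun hx hy j => add_mem (hx j) (hy j)
  zero_mem' := fun _ => zero_mem _
  smul_mem' := fun c _ hv j => Submodule.smul_mem _ c (hv j)

theorem mem_shiftPart {n : ℕ} {v : J → A} :
    v ∈ shiftPart 𝒜 e n ↔ ∀ j, v j ∈ zdeg 𝒜 ((n : ℤ) + (-(e j : ℤ))) := Iff.rfl

/-- The degree-`n` component of a vector. -/
noncomputable def comp (n : ℕ) (v : J → A) : J → A := fun j =>
  if e j ≤ n then (DirectSum.decompose 𝒜 (v j) (n - e j) : A) else 0

theorem comp_mem (n : ℕ) (v : J → A) : comp 𝒜 e n v ∈ shiftPart 𝒜 e n := by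
  intro j
  simp only [comp]
  split_ifs with h
  · exact mem_zdeg_of_eq (i := n - e j) (by push_cast [Nat.cast_sub h]; ring) (SetLike.coe_mem _)
  · exact zero_mem _

theorem comp_of_mem {n : ℕ} {v : J → A} (hv : v ∈ shiftPart 𝒜 e n) : comp 𝒜 e n v = v := by
  funext j
  have := hv j
  simp only [comp]
  split_ifs with h
  · exact DirectSum.decompose_of_mem_same 𝒜 (mem_of_mem_zdeg (i := n - e j) (by push_cast [Nat.cast_sub h]; ring) this)
  · rw [zdeg_of_neg (by omega)] at this
    exact ((Submodule.mem_bot R).mp this).symm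

theorem comp_of_mem_ne {n m : ℕ} (hnm : n ≠ m) {v : J → A} (hv : v ∈ shiftPart 𝒜 e m) : comp 𝒜 e n v = 0 := by
  funext j
  have := hv j
  simp only [comp]
  split_ifs with h
  · rcases mem_zdeg_iff.mp this with ⟨i, hi, hi'⟩ | h0
    · exact DirectSum.decompose_of_mem_ne 𝒜 hi' (by omega)
    · rw [h0]; simp
  · rfl

theorem comp_add (n : ℕ) (v w : J → A) : comp 𝒜 e n (v + w) = comp 𝒜 e n v + comp 𝒜 e n w := by
  funext j
  simp only [comp, Pi.add_apply]
  split_ifs
  · rw [DirectSum.decompose_add]; rfl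
  · simp

theorem comp_zero (n : ℕ) : comp 𝒜 e n (0 : J → A) = 0 := by
  funext j
  simp [comp]

theorem comp_sum {ι : Type*} (n : ℕ) (s : Finset ι) (v : ι → J → A) :
    comp 𝒜 e n (∑ i ∈ s, v i) = ∑ i ∈ s, comp 𝒜 e n (v i) := by
  classical
  induction s using Finset.induction_on with
  | empty => simp [comp_zero]
  | insert a s ha ih => rw [Finset.sum_insert ha, Finset.sum_insert ha, comp_add, ih]

theorem exists_eq_sum_comp [Finite J] (v : J → A) : ∃ s : Finset ℕ, v = ∑ n ∈ s, comp 𝒜 e n v := by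
  classical
  have := Fintype.ofFinite J
  refine ⟨Finset.univ.biUnion (fun j : J => (DirectSum.decompose 𝒜 (v j)).support.image (fun k => k + e j)), ?_⟩
  set s := Finset.univ.biUnion (fun j : J => (DirectSum.decompose 𝒜 (v j)).support.image (fun k => k + e j)) with hs
  funext j
  rw [Finset.sum_apply]
  have h1 : ∑ n ∈ s, comp 𝒜 e n v j = ∑ n ∈ (DirectSum.decompose 𝒜 (v j)).support.image (fun k => k + e j),
      comp 𝒜 e n v j := by
    symm
    apply Finset.sum_subset
    · intro n hn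
      exact Finset.mem_biUnion.mpr ⟨j, Finset.mem_univ _, hn⟩
    · intro n _ hn
      simp only [comp]
      split_ifs with h
      · by_contra hne
        apply hn
        refine Finset.mem_image.mpr ⟨n - e j, ?_, by omega⟩
        rw [DFinsupp.mem_support_iff]
        intro h0
        exact hne (by rw [h0]; rfl)
      · rfl
  rw [h1, Finset.sum_image (fun a _ b _ hab => by simpa using hab)]
  conv_lhs => rw [← DirectSum.sum_support_decompose 𝒜 (v j)]
  refine Finset.sum_congr rfl fun k _ => ?_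
  simp only [comp]
  rw [if_pos (Nat.le_add_left _ _), Nat.add_sub_cancel]

theorem smul_mem_shiftPart {i n : ℕ} {a : A} {v : J → A} (ha : a ∈ 𝒜 i) (hv : v ∈ shiftPart 𝒜 e n) :
    a • v ∈ shiftPart 𝒜 e (i + n) := fun j =>
  smul_mem_zdeg_of_eq 𝒜 ha (hv j) (by push_cast; ring)

variable [Finite J] (K : Submodule A (J → A)) (hK : ∀ v ∈ K, ∀ n, comp 𝒜 e n v ∈ K)

/-- The grading of the quotient of `⊕ A(-e j)` by a homogeneous submodule. -/
def quotPart (n : ℕ) : Submodule R ((J → A) ⧸ K) :=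
  (shiftPart 𝒜 e n).map (K.mkQ.restrictScalars R)

theorem mem_quotPart {n : ℕ} {x : (J → A) ⧸ K} :
    x ∈ quotPart 𝒜 e K n ↔ ∃ v ∈ shiftPart 𝒜 e n, K.mkQ v = x := Iff.rfl

include hK in
theorem isInternal_quotPart : DirectSum.IsInternal (quotPart 𝒜 e K) := by
  refine isInternal_of_finset _ (fun x => ?_) (fun s y hy h0 n hn => ?_)
  · obtain ⟨v, rfl⟩ := K.mkQ_surjective x
    obtain ⟨s, hs⟩ := exists_eq_sum_comp 𝒜 e v
    refine ⟨s, fun n => K.mkQ (comp 𝒜 e n v), fun n => ⟨_, comp_mem 𝒜 e n v, rfl⟩, ?_⟩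
    conv_lhs => rw [hs]
    rw [map_sum]
  · choose v hv hvy using hy
    have h1 : ∑ n ∈ s, v n ∈ K := by
      rw [← Submodule.Quotient.mk_eq_zero, ← Submodule.mkQ_apply, map_sum, ← h0]
      exact Finset.sum_congr rfl fun m _ => hvy m
    have h2 := hK _ h1 n
    rw [comp_sum, Finset.sum_eq_single n (fun m _ hm => comp_of_mem_ne 𝒜 e hm.symm (hv m))
      (fun h => absurd hn h), comp_of_mem 𝒜 e (hv n)] at h2
    rw [← hvy n]
    exact (Submodule.Quotient.mk_eq_zero K).mpr h2

instance gradedSMul_quotPart : SetLike.GradedSMul 𝒜 (quotPart 𝒜 e K) where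
  smul_mem := by
    rintro i n a x ha ⟨v, hv, rfl⟩
    exact ⟨a • v, smul_mem_shiftPart 𝒜 e ha hv, map_smul K.mkQ a v⟩

theorem mem_zdeg_quotPart {n : ℕ} {x : (J → A) ⧸ K} (h : x ∈ zdeg (quotPart 𝒜 e K) ((n : ℤ) + 0)) :
    ∃ v ∈ shiftPart 𝒜 e n, K.mkQ v = x := mem_of_mem_zdeg (ℳ := quotPart 𝒜 e K) (by simp) h

end Shift

end Groth.Agent.FormalB.GradedQuot
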