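import Groth.Agent.FormalB.LESNat
import Groth.Agent.LoccohA.LES2
import Groth.Agent.LoccohA.HTV
import Groth.Agent.Localalg.Depth3
import Groth.Agent.Pi1C.DimFun
import Groth.Agent.S1711
import Groth.Agent.S1727
import Mathlib.RingTheory.KrullDimension.NonZeroDivisors

/-!
# The finiteness inputs (H0), (H1) for the algebraization theorem on the punctured spectrum (Stacks 0DXU)
-/

set_option autoImplicit false
universe u
attribute [local instance] HasDerivedCategory.standard

open CategoryTheory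

namespace Groth.Agent.FormalB.H01

open Groth.Agent.LoccohA.LES Groth.Agent.LoccohA

section General

variable {A : Type u} [CommRing A] (I : Ideal A)

/-- If `f^N c` kills `H^{i+1}_I(M)` and `J` kills `H^i_I(M)`, then `(J + f)(c + f)` kills the image of
`H^i_I(M/f^{N+1}M) → H^i_I(M/fM)`. -/
theorem kill_image (i : ℕ) (f : A) {M QN Q1 : Type u} [AddCommGroup M] [Module A M]
    [AddCommGroup QN] [Module A QN] [AddCommGroup Q1] [Module A Q1]
    (hreg : ∀ x : M, f • x = 0 → x = 0) (N : ℕ) (gN : M →ₗ[A] QN) (g1 : M →ₗ[A] Q1)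
    (hgN : Function.Surjective gN) (hg1 : Function.Surjective g1)
    (hkN : ∀ x, gN x = 0 ↔ ∃ y, f ^ (N + 1) • y = x) (hk1 : ∀ x, g1 x = 0 ↔ ∃ y, f • y = x)
    (π : QN →ₗ[A] Q1) (hπ : ∀ x, π (gN x) = g1 x)
    (c J : Ideal A) (hc : ∀ a ∈ c, ∀ x : LocCoh.H I (i + 1) M, (f ^ N * a) • x = 0)
    (hJ : ∀ a ∈ J, ∀ x : LocCoh.H I i M, a • x = 0) :
    ∀ a ∈ c ⊔ Ideal.span {f}, ∀ b ∈ J ⊔ Ideal.span {f}, ∀ x : LocCoh.H I i QN,
      (b * a) • hmap I i π x = 0 := by
  have hpow : ∀ n : ℕ, ∀ x : M, f ^ n • x = 0 → x = 0 := by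
    intro n
    induction n with
    | zero => intro x hx; simpa using hx
    | succ n ih =>
      intro x hx
      rw [pow_succ, mul_smul] at hx
      exact hreg _ (ih _ hx)
  have hinj : ∀ n : ℕ, Function.Injective (f ^ n • (LinearMap.id : M →ₗ[A] M)) := by
    intro n
    rw [injective_iff_map_eq_zero]
    intro x hx
    exact hpow n x hx
  have hinj1 : Function.Injective (f • (LinearMap.id : M →ₗ[A] M)) := by
    have := hinj 1
    rwa [pow_one] at this
  obtain ⟨δ, δ', hδ, -, -, e1, e2⟩ := LESNat.exists_exact_natural I i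
    (f ^ (N + 1) • (LinearMap.id : M →ₗ[A] M)) gN (hinj _) (fun x => by
      rw [hkN]; rfl) hgN
    (f • (LinearMap.id : M →ₗ[A] M)) g1 hinj1 (fun x => by rw [hk1]; rfl) hg1
    (f ^ N • (LinearMap.id : M →ₗ[A] M)) LinearMap.id π
    (by ext x; simp [pow_succ', mul_smul]) (by ext x; simp [hπ])
  intro a ha b hb x
  -- `δ' (a • hmap π x) = 0`
  have h1 : a • δ' (hmap I i π x) = 0 := by
    obtain ⟨a1, ha1, a2, ha2, rfl⟩ := Submodule.mem_sup.1 ha
    rw [add_smul]
    have t1 : a1 • δ' (hmap I i π x) = 0 := by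
      rw [hδ, hmap_smul, hmap_id, smul_smul, mul_comm]
      exact hc a1 ha1 _
    have t2 : a2 • δ' (hmap I i π x) = 0 := by
      obtain ⟨r, rfl⟩ := Ideal.mem_span_singleton'.1 ha2
      have : hmap I (i + 1) (f • (LinearMap.id : M →ₗ[A] M)) (δ' (hmap I i π x)) = 0 :=
        e2.apply_apply_eq_zero _
      rw [hmap_smul, hmap_id] at this
      rw [mul_smul, this, smul_zero]
    rw [t1, t2, add_zero]
  rw [← map_smul] at h1
  obtain ⟨z, hz⟩ := (e1 _).1 h1
  rw [mul_smul, ← hz]
  obtain ⟨b1, hb1, b2, hb2, rfl⟩ := Submodule.mem_sup.1 hb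
  rw [add_smul]
  have t1 : b1 • hmap I i g1 z = 0 := by
    rw [← map_smul, hJ b1 hb1, map_zero]
  have t2 : b2 • hmap I i g1 z = 0 := by
    obtain ⟨r, rfl⟩ := Ideal.mem_span_singleton'.1 hb2
    have h0 : f • g1 = 0 := by
      ext y
      rw [LinearMap.smul_apply, LinearMap.zero_apply, ← map_smul]
      exact (hk1 _).2 ⟨y, rfl⟩
    rw [mul_smul, ← hmap_smul, h0, hmap_zero, smul_zero]
  rw [t1, t2, add_zero]

end General

section Local

variable (A : Type u) [CommRing A] [IsNoetherianRing A] [IsLocalRing A]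

omit [IsNoetherianRing A] in
theorem krullDim_Icc_closedPoint (p q : PrimeSpectrum A) (hq : q.asIdeal = IsLocalRing.maximalIdeal A) :
    Order.krullDim (Set.Icc p q) = ringKrullDim (A ⧸ p.asIdeal) := by
  rw [ringKrullDim_quotient]
  refine Order.krullDim_eq_of_orderIso
    { toFun := fun x => ⟨x.1, x.2.1⟩
      invFun := fun x => ⟨x.1, x.2, ?_⟩
      left_inv := fun x => rfl
      right_inv := fun x => rfl
      map_rel_iff' := Iff.rfl }
  change x.1.asIdeal ≤ q.asIdeal
  rw [hq]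
  exact IsLocalRing.le_maximalIdeal x.1.2.ne_top

omit [IsNoetherianRing A] in
theorem zeroLocus_maximalIdeal :
    PrimeSpectrum.zeroLocus ((IsLocalRing.maximalIdeal A : Ideal A) : Set A) =
      ({IsLocalRing.closedPoint A} : Set (PrimeSpectrum A)) := by
  ext p
  constructor
  · intro hp
    exact PrimeSpectrum.ext ((IsLocalRing.maximalIdeal.isMaximal A).eq_of_le p.2.ne_top hp).symm
  · rintro rfl
    exact le_refl (IsLocalRing.maximalIdeal A)

/-- Faltings' annihilator theorem at the maximal ideal. -/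
theorem exists_annihilator (hω : ∃ ω : Dual.D A, Dual.IsDualizing A ω) (T' : Set (PrimeSpectrum A))
    (hT' : StableUnderSpecialization T') (hm : IsLocalRing.closedPoint A ∈ T') (s : ℕ)
    (M : Type u) [AddCommGroup M] [Module A M] [Module.Finite A M]
    (h : ∀ p : PrimeSpectrum A, p ∉ T' →
      (s : WithBot ℕ∞) < ((LocCoh.depth (Localization.AtPrime p.asIdeal)
        (LocalizedModule p.asIdeal.primeCompl M) : ℕ∞) : WithBot ℕ∞) + ringKrullDim (A ⧸ p.asIdeal)) :
    ∃ J : Ideal A, PrimeSpectrum.zeroLocus (J : Set A) ⊆ T' ∧ ∀ i : ℕ, i ≤ s → ∀ a ∈ J,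
      ∀ x : LocCoh.H (IsLocalRing.maximalIdeal A) i M, a • x = 0 := by
  have hz := zeroLocus_maximalIdeal A
  obtain ⟨J, hJ1, hJ2⟩ := (Groth.Agent.S1711.result A hω
    (PrimeSpectrum.zeroLocus ((IsLocalRing.maximalIdeal A : Ideal A) : Set A)) T'
    (PrimeSpectrum.isClosed_zeroLocus _).stableUnderSpecialization hT'
    (by rw [hz]; exact Set.singleton_subset_iff.2 hm) s M).2 (by
      intro p q hp hq hpq
      rw [hz, Set.mem_singleton_iff] at hq
      rw [krullDim_Icc_closedPoint A p q (by rw [hq]; rfl)]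
      exact h p hp)
  refine ⟨J, hJ1, fun i hi a ha x => ?_⟩
  let e := HTV.equivH (IsLocalRing.maximalIdeal A) i M
  have h1 := hJ2 i hi a ha (e.symm x)
  rw [← e.apply_symm_apply x, ← map_smul, h1, map_zero]


/-- From an annihilator `J` whose zero locus off `V(f)` only meets primes `p` with `V(p) ∩ V(f) = {m}`, produce
`c` with `c + (f)` primary to `m` and `f^n c ≤ J`. -/
theorem exists_ideal_aux (f : A) (hf : f ∈ IsLocalRing.maximalIdeal A) (J : Ideal A)
    (hJ : ∀ p : Ideal A, p.IsPrime → J ≤ p → f ∉ p →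
      (p ⊔ Ideal.span {f}).radical = IsLocalRing.maximalIdeal A) :
    ∃ (c : Ideal A) (n : ℕ), c ≤ IsLocalRing.maximalIdeal A ∧
      (c ⊔ Ideal.span {f}).radical = IsLocalRing.maximalIdeal A ∧ ∀ a ∈ c, f ^ n * a ∈ J := by
  classical
  -- the chain (J : f^n)
  let K : ℕ →o Ideal A :=
    { toFun := fun k => Submodule.comap (LinearMap.mulLeft A (f ^ k)) J
      monotone' := by
        intro i j hij x hx
        simp only [Submodule.mem_comap, LinearMap.mulLeft_apply] at hx ⊢
        obtain ⟨k, rfl⟩ := Nat.exists_eq_add_of_le hij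
        rw [pow_add, mul_comm (f ^ i), mul_assoc]
        exact J.mul_mem_left _ hx }
  obtain ⟨n, hn⟩ := monotone_stabilizes_iff_noetherian.2 (inferInstance : IsNoetherian A A) K
  have hmem : ∀ k x, x ∈ K k ↔ f ^ k * x ∈ J := fun k x => Iff.rfl
  have hreg : ∀ x, f * x ∈ K n → x ∈ K n := by
    intro x hx
    have h1 : x ∈ K (n + 1) := by
      rw [hmem] at hx ⊢
      rw [pow_succ, mul_assoc]
      exact hx
    rwa [← hn (n + 1) (by omega)] at h1
  have hJK : J ≤ K n := by
    intro x hx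
    rw [hmem]
    exact J.mul_mem_left _ hx
  have hprime_m := (IsLocalRing.maximalIdeal.isMaximal A).isPrime
  refine ⟨K n ⊓ IsLocalRing.maximalIdeal A, n, inf_le_right, ?_, fun a ha => (hmem n a).1 ha.1⟩
  apply le_antisymm
  · rw [← hprime_m.radical]
    apply Ideal.radical_mono
    rw [hprime_m.radical]
    exact sup_le inf_le_right ((Ideal.span_singleton_le_iff_mem _).2 hf)
  · rw [Ideal.radical_eq_sInf]
    refine le_sInf ?_
    rintro q ⟨hq1, hq2⟩
    have hq1' : (K n ⊓ IsLocalRing.maximalIdeal A) ≤ q := le_sup_left.trans hq1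
    have hfq : f ∈ q := hq1 (Ideal.mem_sup_right (Ideal.mem_span_singleton_self f))
    rcases hq2.inf_le.1 hq1' with h | h
    · obtain ⟨p, hp, hpq⟩ := Ideal.exists_minimalPrimes_le h
      have hpp : p.IsPrime := hp.1.1
      have hfp : f ∉ p := by
        intro hfp
        -- elements of minimal primes are zero divisors modulo `K n`
        obtain ⟨x, hx1, hx2⟩ := Ideal.exists_mul_mem_of_mem_minimalPrimes hp hfp
        exact hx1 (hreg x hx2)
      have := hJ p hpp (hJK.trans hp.1.2) hfp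
      rw [← this]
      refine (Ideal.radical_mono (sup_le hpq ((Ideal.span_singleton_le_iff_mem _).2 hfq))).trans ?_
      rw [hq2.radical]
    · exact h

variable {A} (f : A) (hf : f ∈ IsLocalRing.maximalIdeal A)

include hf

theorem radical_sup_self (p : Ideal A) (hp : p = IsLocalRing.maximalIdeal A) :
    (p ⊔ Ideal.span {f}).radical = IsLocalRing.maximalIdeal A := by
  rw [hp, sup_eq_left.2 ((Ideal.span_singleton_le_iff_mem _).2 hf)]
  exact (IsLocalRing.maximalIdeal.isMaximal A).isPrime.radical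

theorem exists_prime_of_radical_ne (p : Ideal A) (hp : p ≤ IsLocalRing.maximalIdeal A)
    (h : (p ⊔ Ideal.span {f}).radical ≠ IsLocalRing.maximalIdeal A) :
    ∃ r : Ideal A, r.IsPrime ∧ p ≤ r ∧ f ∈ r ∧ r ≠ IsLocalRing.maximalIdeal A := by
  by_contra hcon
  push Not at hcon
  apply h
  apply le_antisymm
  · rw [← (IsLocalRing.maximalIdeal.isMaximal A).isPrime.radical]
    exact Ideal.radical_mono (sup_le hp ((Ideal.span_singleton_le_iff_mem _).2 hf))
  · rw [Ideal.radical_eq_sInf]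
    refine le_sInf ?_
    rintro q ⟨hq1, hq2⟩
    exact (hcon q hq2 (le_sup_left.trans hq1)
      (hq1 (Ideal.mem_sup_right (Ideal.mem_span_singleton_self f)))).ge

theorem stable_T : StableUnderSpecialization
    {p : PrimeSpectrum A | (p.asIdeal ⊔ Ideal.span {f}).radical = IsLocalRing.maximalIdeal A} := by
  intro p q hpq hp
  have hle : p.asIdeal ≤ q.asIdeal := (PrimeSpectrum.le_iff_specializes p q).2 hpq
  apply le_antisymm
  · rw [← (IsLocalRing.maximalIdeal.isMaximal A).isPrime.radical]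
    exact Ideal.radical_mono (sup_le (IsLocalRing.le_maximalIdeal q.2.ne_top)
      ((Ideal.span_singleton_le_iff_mem _).2 hf))
  · rw [← hp]
    exact Ideal.radical_mono (sup_le_sup_right hle _)

theorem stable_T' : StableUnderSpecialization
    {p : PrimeSpectrum A | f ∈ p.asIdeal ∨
      (p.asIdeal ⊔ Ideal.span {f}).radical = IsLocalRing.maximalIdeal A} := by
  intro p q hpq hp
  have hle : p.asIdeal ≤ q.asIdeal := (PrimeSpectrum.le_iff_specializes p q).2 hpq
  rcases hp with hp | hp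
  · exact Or.inl (hle hp)
  · exact Or.inr (stable_T f hf hpq hp)

variable (hnzd : f ∈ nonZeroDivisors A)

omit hf in
include hnzd in
theorem depth_eq_add_one (p : Ideal A) [p.IsPrime] (hfp : f ∈ p) :
    LocCoh.depth (Localization.AtPrime p) (LocalizedModule p.primeCompl (A ⧸ Ideal.span {f})) + 1 =
      LocCoh.depth (Localization.AtPrime p) (LocalizedModule p.primeCompl A) := by
  have hreg : IsSMulRegular (LocalizedModule p.primeCompl A)
      (algebraMap A (Localization.AtPrime p) f) := by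
    refine (Localalg.Depth3.isSMulRegular_localized_iff p f).2 fun y hy => ⟨1, ?_, ?_⟩
    · exact fun h => ‹p.IsPrime›.ne_top ((Ideal.eq_top_iff_one _).2 h)
    · rw [one_smul]
      exact (mem_nonZeroDivisors_iff.1 hnzd).1 y hy
  rw [← Localalg.Depth3.depth_localized_quotSMulTop_add_one p A f hfp hreg]
  let e0 : (A ⧸ Ideal.span {f}) ≃ₗ[A] QuotSMulTop f A :=
    Submodule.quotEquivOfEq _ _ (by
      ext x
      rw [Ideal.mem_span_singleton', Submodule.mem_smul_pointwise_iff_exists]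
      constructor
      · rintro ⟨y, rfl⟩
        exact ⟨y, trivial, mul_comm _ _⟩
      · rintro ⟨y, -, rfl⟩
        exact ⟨y, mul_comm _ _⟩)
  rw [LocCoh.depth, LocCoh.depth, Localalg.Depth.idealDepth_congr_equiv _
    (IsLocalizedModule.mapEquiv p.primeCompl (LocalizedModule.mkLinearMap p.primeCompl _)
      (LocalizedModule.mkLinearMap p.primeCompl _) (Localization.AtPrime p) e0)]

variable
    (h₅ : ∀ (p : Ideal A) [p.IsPrime], f ∈ p → p ≠ IsLocalRing.maximalIdeal A →
      (1 : WithBot ℕ∞) < ((LocCoh.depth (Localization.AtPrime p)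
          (LocalizedModule p.primeCompl (A ⧸ Ideal.span {f})) : ℕ∞) : WithBot ℕ∞) + ringKrullDim (A ⧸ p))
    (h₆ : ∀ (p : Ideal A) [p.IsPrime], f ∉ p →
      (∃ r : Ideal A, r.IsPrime ∧ p ≤ r ∧ f ∈ r ∧ r ≠ IsLocalRing.maximalIdeal A) →
      (3 : WithBot ℕ∞) < ((LocCoh.depth (Localization.AtPrime p) (Localization.AtPrime p) : ℕ∞) : WithBot ℕ∞) +
        ringKrullDim (A ⧸ p))

omit hf [IsNoetherianRing A] [IsLocalRing A] in
theorem two_lt_of_one_lt {d : ℕ∞} {e : WithBot ℕ∞} (h : (1 : WithBot ℕ∞) < (d : WithBot ℕ∞) + e) :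
    (2 : WithBot ℕ∞) < ((d + 1 : ℕ∞) : WithBot ℕ∞) + e := by
  have h1 : ((d + 1 : ℕ∞) : WithBot ℕ∞) + e = ((d : WithBot ℕ∞) + e) + 1 := by
    rw [WithBot.coe_add, WithBot.coe_one, add_assoc, add_comm (1 : WithBot ℕ∞) e, ← add_assoc]
  rw [h1]
  generalize (d : WithBot ℕ∞) + e = x at h
  induction x using WithBot.recBotCoe with
  | bot => simp at h
  | coe y =>
    have h2 : (1 : ℕ∞) < y := by exact_mod_cast h
    have h3 : (2 : ℕ∞) < y + 1 := by
      induction y using ENat.recTopCoe with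
      | top => exact ENat.natCast_lt_top 2
      | coe n =>
        have : 1 < n := by exact_mod_cast h2
        exact_mod_cast (by omega : 2 < n + 1)
    exact WithBot.coe_lt_coe.2 h3

include hnzd h₅ in
omit hf in
theorem two_lt_depth (p : Ideal A) [p.IsPrime] (hfp : f ∈ p) (hp : p ≠ IsLocalRing.maximalIdeal A) :
    (2 : WithBot ℕ∞) < ((LocCoh.depth (Localization.AtPrime p)
      (LocalizedModule p.primeCompl A) : ℕ∞) : WithBot ℕ∞) + ringKrullDim (A ⧸ p) := by
  rw [← depth_eq_add_one f hnzd p hfp]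
  exact two_lt_of_one_lt (h₅ p hfp hp)

include hf h₆ in
theorem three_lt_depth (p : Ideal A) [p.IsPrime] (hfp : f ∉ p)
    (hp : (p ⊔ Ideal.span {f}).radical ≠ IsLocalRing.maximalIdeal A) :
    (3 : WithBot ℕ∞) < ((LocCoh.depth (Localization.AtPrime p)
      (LocalizedModule p.primeCompl A) : ℕ∞) : WithBot ℕ∞) + ringKrullDim (A ⧸ p) := by
  rw [Pi1C.DimFun.depth_localizedModule_self p]
  exact h₆ p hfp (exists_prime_of_radical_ne f hf p (IsLocalRing.le_maximalIdeal ‹p.IsPrime›.ne_top) hp)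

include hf hnzd h₅ h₆ in
/-- (H1): for `n` large the image of `H^2_m(A/f^n) → H^2_m(A/f)` is killed by a power of `m`. -/
theorem exists_H1 (hω : ∃ ω : Dual.D A, Dual.IsDualizing A ω) :
    ∃ N k : ℕ, ∀ {QN Q1 : Type u} [AddCommGroup QN] [Module A QN] [AddCommGroup Q1] [Module A Q1]
      (gN : A →ₗ[A] QN) (g1 : A →ₗ[A] Q1) (_ : Function.Surjective gN) (_ : Function.Surjective g1)
      (_ : ∀ x, gN x = 0 ↔ ∃ y, f ^ (N + 1) • y = x) (_ : ∀ x, g1 x = 0 ↔ ∃ y, f • y = x)
      (π : QN →ₗ[A] Q1) (_ : ∀ x, π (gN x) = g1 x),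
      ∀ b ∈ (IsLocalRing.maximalIdeal A) ^ k, ∀ x : LocCoh.H (IsLocalRing.maximalIdeal A) 2 QN,
        b • hmap (IsLocalRing.maximalIdeal A) 2 π x = 0 := by
  set m := IsLocalRing.maximalIdeal A with hm
  have hmp : m.IsPrime := (IsLocalRing.maximalIdeal.isMaximal A).isPrime
  -- the annihilator of `H^3`
  obtain ⟨J', hJ'1, hJ'2⟩ := exists_annihilator A hω
    {p : PrimeSpectrum A | f ∈ p.asIdeal ∨
      (p.asIdeal ⊔ Ideal.span {f}).radical = IsLocalRing.maximalIdeal A} (stable_T' f hf)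
    (Or.inl hf) 3 A (by
      intro p hp
      simp only [Set.mem_ofPred_eq, not_or] at hp
      exact three_lt_depth f hf h₆ p.asIdeal hp.1 hp.2)
  obtain ⟨c, N, hc1, hc2, hc3⟩ := exists_ideal_aux A f hf J' (by
    intro p hp hJp hfp
    have : (⟨p, hp⟩ : PrimeSpectrum A) ∈ PrimeSpectrum.zeroLocus (J' : Set A) := hJp
    have h0 := hJ'1 this
    exact h0.resolve_left hfp)
  -- the annihilator of `H^2`
  obtain ⟨J, hJ1, hJ2⟩ := exists_annihilator A hω
    {p : PrimeSpectrum A | (p.asIdeal ⊔ Ideal.span {f}).radical = IsLocalRing.maximalIdeal A}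
    (stable_T f hf) (radical_sup_self f hf _ rfl) 2 A (by
      intro p hp
      by_cases hfp : f ∈ p.asIdeal
      · exact two_lt_depth f hnzd h₅ p.asIdeal hfp (fun h => hp (radical_sup_self f hf _ h))
      · exact lt_trans (by norm_num) (three_lt_depth f hf h₆ p.asIdeal hfp hp))
  have hJ3 : (J ⊔ Ideal.span {f}).radical ≥ m := by
    rw [Ideal.radical_eq_sInf]
    refine le_sInf ?_
    rintro q ⟨hq1, hq2⟩
    have hfq : f ∈ q := hq1 (Ideal.mem_sup_right (Ideal.mem_span_singleton_self f))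
    have : (⟨q, hq2⟩ : PrimeSpectrum A) ∈ PrimeSpectrum.zeroLocus (J : Set A) :=
      (le_sup_left.trans hq1 : J ≤ q)
    have h0 := hJ1 this
    have h1 : (q ⊔ Ideal.span {f}).radical = IsLocalRing.maximalIdeal A := h0
    rw [sup_eq_left.2 ((Ideal.span_singleton_le_iff_mem _).2 hfq), hq2.radical] at h1
    exact h1.ge
  obtain ⟨k, hk⟩ := Ideal.exists_radical_pow_le_of_fg (c ⊔ Ideal.span {f}) (IsNoetherian.noetherian _)
  obtain ⟨l, hl⟩ := Ideal.exists_radical_pow_le_of_fg (J ⊔ Ideal.span {f}) (IsNoetherian.noetherian _)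
  rw [hc2] at hk
  have hl' : m ^ l ≤ J ⊔ Ideal.span {f} := (Ideal.pow_right_mono hJ3 l).trans hl
  refine ⟨N, l + k, ?_⟩
  intro QN Q1 _ _ _ _ gN g1 hgN hg1 hkN hk1 π hπ
  have key := kill_image m 2 f (M := A) (fun x hx => (mem_nonZeroDivisors_iff.1 hnzd).1 x hx) N gN g1 hgN hg1 hkN hk1
    π hπ c J (fun a ha x => hJ'2 3 le_rfl _ (hc3 a ha) x) (fun a ha x => hJ2 2 le_rfl a ha x)
  have hle : m ^ (l + k) ≤ Module.annihilator A (LinearMap.range (hmap m 2 π)) := by
    rw [pow_add]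
    refine Ideal.mul_le.2 fun b hb a ha => ?_
    rw [Module.mem_annihilator]
    rintro ⟨_, x, rfl⟩
    exact Subtype.ext (key a (hk ha) b (hl' hb) x)
  intro b hb x
  have := Module.mem_annihilator.1 (hle hb) ⟨_, x, rfl⟩
  exact congrArg Subtype.val this

omit hf in
include h₅ in
/-- (H0): `H^1_m(A/f)` is finite. -/
theorem finite_H1 (hω : ∃ ω : Dual.D A, Dual.IsDualizing A ω) :
    Module.Finite A (LocCoh.H (IsLocalRing.maximalIdeal A) 1 (A ⧸ Ideal.span {f})) := by
  have hz := zeroLocus_maximalIdeal A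
  have := (Groth.Agent.S1727.result A hω
    (PrimeSpectrum.zeroLocus ((IsLocalRing.maximalIdeal A : Ideal A) : Set A))
    (PrimeSpectrum.isClosed_zeroLocus _).stableUnderSpecialization 1 (A ⧸ Ideal.span {f})).2 (by
      intro p q hp hq hpq
      rw [hz, Set.mem_singleton_iff] at hp hq
      rw [krullDim_Icc_closedPoint A p q (by rw [hq]; rfl)]
      by_cases hfp : f ∈ p.asIdeal
      · exact h₅ p.asIdeal hfp (fun h => hp (PrimeSpectrum.ext h))
      · have hsub : Subsingleton (LocalizedModule p.asIdeal.primeCompl (A ⧸ Ideal.span {f})) := by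
          rw [LocalizedModule.subsingleton_iff]
          intro y
          refine ⟨f, hfp, ?_⟩
          obtain ⟨y, rfl⟩ := Ideal.Quotient.mk_surjective y
          exact Ideal.Quotient.eq_zero_iff_mem.2
            (Ideal.mul_mem_right _ _ (Ideal.mem_span_singleton_self f))
        have htop : LocCoh.depth (Localization.AtPrime p.asIdeal)
            (LocalizedModule p.asIdeal.primeCompl (A ⧸ Ideal.span {f})) = ⊤ :=
          Localalg.Depth.idealDepth_eq_top_of_subsingleton _ _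
        rw [htop]
        have h0 : (0 : WithBot ℕ∞) ≤ ringKrullDim (A ⧸ p.asIdeal) := ringKrullDim_nonneg_of_nontrivial
        refine lt_of_lt_of_le ?_ (le_add_of_nonneg_right h0)
        exact WithBot.coe_lt_coe.2 (ENat.natCast_lt_top 1)) 1 le_rfl
  exact Module.Finite.equiv (HTV.equivH (IsLocalRing.maximalIdeal A) 1 (A ⧸ Ideal.span {f}))

include hf hnzd h₅ h₆ in
/-- (H1), for the quotients `A/(f)^{n+1} → A/(f)^{0+1}`. -/
theorem exists_H1_pow (hω : ∃ ω : Dual.D A, Dual.IsDualizing A ω) :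
    ∃ n0 c : ℕ, ∀ (π : (A ⧸ Ideal.span {f} ^ (n0 + 1)) →ₗ[A] (A ⧸ Ideal.span {f} ^ (0 + 1)))
      (_ : ∀ a : A, π (Ideal.Quotient.mk _ a) = Ideal.Quotient.mk _ a),
      ∀ a ∈ (IsLocalRing.maximalIdeal A) ^ c,
      ∀ x : LocCoh.H (IsLocalRing.maximalIdeal A) 2 (A ⧸ Ideal.span {f} ^ (n0 + 1)),
        a • ((localCohomology (IsLocalRing.maximalIdeal A) 2).map (ModuleCat.ofHom π)).hom x = 0 := by
  obtain ⟨N, k, h⟩ := exists_H1 f hf hnzd h₅ h₆ hω
  refine ⟨N, k, fun π hπ => ?_⟩
  refine h (Submodule.mkQ _) (Submodule.mkQ _) (Submodule.mkQ_surjective _)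
    (Submodule.mkQ_surjective _) ?_ ?_ π hπ
  · intro x
    rw [Submodule.mkQ_apply, Submodule.Quotient.mk_eq_zero, Ideal.span_singleton_pow,
      Ideal.mem_span_singleton']
    exact exists_congr fun y => by rw [smul_eq_mul, mul_comm]
  · intro x
    rw [Submodule.mkQ_apply, Submodule.Quotient.mk_eq_zero, zero_add, pow_one,
      Ideal.mem_span_singleton']
    exact exists_congr fun y => by rw [smul_eq_mul, mul_comm]

include hf hnzd h₅ h₆ in
/-- (H1), for the quotients `A/(f)^{n+1} → A/(f)`. -/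
theorem exists_H1_pow' (hω : ∃ ω : Dual.D A, Dual.IsDualizing A ω) :
    ∃ n0 c : ℕ, ∀ (π : (A ⧸ Ideal.span {f} ^ (n0 + 1)) →ₗ[A] (A ⧸ Ideal.span {f}))
      (_ : ∀ a : A, π (Ideal.Quotient.mk _ a) = Ideal.Quotient.mk _ a),
      ∀ a ∈ (IsLocalRing.maximalIdeal A) ^ c,
      ∀ x : LocCoh.H (IsLocalRing.maximalIdeal A) 2 (A ⧸ Ideal.span {f} ^ (n0 + 1)),
        a • ((localCohomology (IsLocalRing.maximalIdeal A) 2).map (ModuleCat.ofHom π)).hom x = 0 := by
  obtain ⟨N, k, h⟩ := exists_H1 f hf hnzd h₅ h₆ hω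
  refine ⟨N, k, fun π hπ => ?_⟩
  refine h (Submodule.mkQ _) (Submodule.mkQ _) (Submodule.mkQ_surjective _)
    (Submodule.mkQ_surjective _) ?_ ?_ π hπ
  · intro x
    rw [Submodule.mkQ_apply, Submodule.Quotient.mk_eq_zero, Ideal.span_singleton_pow,
      Ideal.mem_span_singleton']
    exact exists_congr fun y => by rw [smul_eq_mul, mul_comm]
  · intro x
    rw [Submodule.mkQ_apply, Submodule.Quotient.mk_eq_zero, Ideal.mem_span_singleton']
    exact exists_congr fun y => by rw [smul_eq_mul, mul_comm]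

end Local

end Groth.Agent.FormalB.H01
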