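import Groth.Agent.FormalB.HHLes
import Groth.Agent.Localalg.DeltaFun
import Mathlib.Algebra.Category.ModuleCat.Abelian

/-!
# `Coh.HH` as a delta functor with values in `ModuleCat A`, for `X` over `Spec A`
-/

set_option autoImplicit false
universe u

open CategoryTheory CategoryTheory.Limits AlgebraicGeometry Opposite TopologicalSpace
open Groth.Agent.FormalA.HHLin Groth.Agent.Localalg.DeltaFun

namespace Groth.Agent.FormalB.HHDelta

variable (X : Scheme.{u}) (A : Type u) [CommRing A] [X.Over (Spec (CommRingCat.of A))]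

/-- `F ↦ H^n(X, F)` as a functor to `A`-modules. -/
noncomputable def hh (n : ℕ) : X.Modules ⥤ ModuleCat.{u} A where
  obj F := ModuleCat.of A (Coh.HH X F n)
  map φ := ModuleCat.ofHom (HHmap A φ n)
  map_id F := by
    rw [HHmap_id]
    rfl
  map_comp φ ψ := by
    rw [HHmap_comp]
    rfl

instance (n : ℕ) : (hh X A n).Additive where
  map_add {_ _ f g} := by
    change ModuleCat.ofHom (HHmap A (f + g) n) = ModuleCat.ofHom (HHmap A f n) + ModuleCat.ofHom (HHmap A g n)
    rw [HHLes.HHmap_add]
    rfl

/-- The connecting map. -/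
noncomputable def conn {S : ShortComplex X.Modules} (hS : S.ShortExact) (n : ℕ) :
    (hh X A n).obj S.X₃ ⟶ (hh X A (n + 1)).obj S.X₁ :=
  ModuleCat.ofHom (HHLes.δ A hS n)

theorem exact_of_functionExact {R : Type u} [CommRing R] {S : ShortComplex (ModuleCat.{u} R)}
    (h : Function.Exact S.f S.g) : S.Exact :=
  (ShortComplex.moduleCat_exact_iff S).2 fun x hx => (h x).1 hx

/-- `Coh.HH` as a delta functor. -/
noncomputable def hhDelta : DeltaFunctor X.Modules (ModuleCat.{u} A) where
  T := hh X A
  additive := fun n => inferInstance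
  δ hS n := conn X A hS n
  naturality {S S'} hS hS' φ n := by
    refine ModuleCat.hom_ext ?_
    exact HHLes.δ_naturality A hS hS' φ n
  zero₃ {S} hS n := by
    refine ModuleCat.hom_ext (LinearMap.ext fun x => ?_)
    exact CohqB.HSeqMod.δ_hmap hS n x
  zero₁ {S} hS n := by
    refine ModuleCat.hom_ext (LinearMap.ext fun x => ?_)
    exact HHLes.map_δ A hS n x
  exact₂ {S} hS n := exact_of_functionExact (HHLes.exact_map_map A hS n)
  exact₃ {S} hS n := exact_of_functionExact (HHLes.exact_map_δ A hS n)
  exact₁ {S} hS n := exact_of_functionExact (HHLes.exact_δ_map A hS n)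

end Groth.Agent.FormalB.HHDelta
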