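import Groth.Agent.CohqB.HSeqMod
import Groth.Agent.FormalA.HHLin

/-!
# The long exact sequence of `Coh.HH` as a sequence of `A`-modules, `X` over `Spec A`
-/

set_option autoImplicit false
universe u

open CategoryTheory CategoryTheory.Limits AlgebraicGeometry Opposite TopologicalSpace
open Groth.Agent.FormalA.HHLin

namespace Groth.Agent.FormalB.HHLes

variable {X : Scheme.{u}} (A : Type u) [CommRing A] [X.Over (Spec (CommRingCat.of A))]

theorem HHmap_eq {M N : X.Modules} (φ : M ⟶ N) (n : ℕ) (x : Coh.HH X M n) :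
    HHmap A φ n x = CohqB.HSeqMod.hmap φ n x := rfl

theorem HHmap_add {M N : X.Modules} (φ ψ : M ⟶ N) (n : ℕ) :
    HHmap A (φ + ψ) n = HHmap A φ n + HHmap A ψ n :=
  LinearMap.ext fun x => CohqB.HSeqMod.hmap_add_apply φ ψ n x

theorem HHmap_zero {M N : X.Modules} (n : ℕ) :
    HHmap A (0 : M ⟶ N) n = 0 :=
  LinearMap.ext fun x => CohqB.HSeqMod.hmap_zero_apply n x

theorem HHmap_sum {M N : X.Modules} {ι : Type*} (s : Finset ι) (φ : ι → (M ⟶ N)) (n : ℕ) :
    HHmap A (∑ i ∈ s, φ i) n = ∑ i ∈ s, HHmap A (φ i) n :=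
  LinearMap.ext fun x => by
    rw [HHmap_eq, CohqB.HSeqMod.hmap_sum_apply, LinearMap.sum_apply]
    rfl

variable {S T : ShortComplex X.Modules}

/-- multiplication by `a` on a short complex -/
noncomputable def smulComplex (S : ShortComplex X.Modules) (a : A) : S ⟶ S where
  τ₁ := Formal.smulMod A S.X₁ a
  τ₂ := Formal.smulMod A S.X₂ a
  τ₃ := Formal.smulMod A S.X₃ a
  comm₁₂ := (smulMod_naturality A S.f a).symm
  comm₂₃ := (smulMod_naturality A S.g a).symm

/-- The connecting map, `A`-linear. -/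
noncomputable def δ (hS : S.ShortExact) (n : ℕ) :
    Coh.HH X S.X₃ n →ₗ[A] Coh.HH X S.X₁ (n + 1) where
  toFun := CohqB.HSeqMod.δ hS n
  map_add' := map_add _
  map_smul' a x := CohqB.HSeqMod.δ_naturality hS hS (smulComplex A S a) n x

theorem δ_apply (hS : S.ShortExact) (n : ℕ) (x : Coh.HH X S.X₃ n) :
    δ A hS n x = CohqB.HSeqMod.δ hS n x := rfl

theorem δ_naturality (hS : S.ShortExact) (hT : T.ShortExact) (f : S ⟶ T) (n : ℕ) :
    (δ A hT n).comp (HHmap A f.τ₃ n) = (HHmap A f.τ₁ (n + 1)).comp (δ A hS n) :=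
  LinearMap.ext fun x => CohqB.HSeqMod.δ_naturality hS hT f n x

theorem exact_map_map (hS : S.ShortExact) (n : ℕ) :
    Function.Exact (HHmap A S.f n) (HHmap A S.g n) := by
  intro x
  constructor
  · intro h
    exact CohqB.HSeqMod.exact₂ hS n x h
  · rintro ⟨y, rfl⟩
    rw [HHmap_comp_apply, S.zero, HHmap_zero]
    rfl

theorem exact_map_δ (hS : S.ShortExact) (n : ℕ) :
    Function.Exact (HHmap A S.g n) (δ A hS n) := by
  intro x
  constructor
  · intro h
    exact CohqB.HSeqMod.exact₃ hS n x h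
  · rintro ⟨y, rfl⟩
    exact CohqB.HSeqMod.δ_hmap hS n y

theorem map_δ_aux {S : ShortComplex (CohqB.HSeq.Sh X)} (hS : S.ShortExact) (n : ℕ)
    (x : Sheaf.H S.X₃ n) : Sheaf.H.map S.f (n + 1) (CohqB.HSeq.δ hS n x) = 0 := by
  rw [CohqB.HSeq.δ_apply, Sheaf.H.map_apply,
    Abelian.Ext.comp_assoc (X := CohqB.HSeq.ZZ X) x hS.extClass (Abelian.Ext.mk₀ S.f) rfl
      (add_zero 1) (by omega), hS.extClass_comp, Abelian.Ext.comp_zero]

theorem map_δ (hS : S.ShortExact) (n : ℕ) (x : Coh.HH X S.X₃ n) :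
    HHmap A S.f (n + 1) (δ A hS n x) = 0 :=
  map_δ_aux (CohqB.ToSheafExact.shortExact_toAb hS) n x

theorem exact_δ_map (hS : S.ShortExact) (n : ℕ) :
    Function.Exact (δ A hS n) (HHmap A S.f (n + 1)) := by
  intro x
  constructor
  · intro h
    exact CohqB.HSeqMod.exact₁ hS n x h
  · rintro ⟨y, rfl⟩
    exact map_δ A hS n y

end Groth.Agent.FormalB.HHLes
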