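import Groth.Agent.Fdesc.PullbackStalk

/-!
# Direct images of modules supported on a closed set on which the map is a closed embedding

If `Z ⊆ X` is closed, `f : X ⟶ Y` is injective on `Z` and maps closed subsets of `Z` to closed
subsets, and the module `N` vanishes off `Z`, then `(f_* N)_{f x} → N_x` is bijective for `x ∈ Z`.
-/

set_option autoImplicit false
universe u

open CategoryTheory CategoryTheory.Limits AlgebraicGeometry Opposite TopologicalSpace

namespace Groth.Agent.FormalB.TopPush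

open Groth.Agent.Fdesc.Skyscraper Groth.Agent.Fdesc.PullbackStalk

variable {X Y : Scheme.{u}}

/-- `f` restricted to the closed set `Z` is a closed embedding. -/
structure ClosedOn (f : X ⟶ Y) (Z : Set X) : Prop where
  isClosed : IsClosed Z
  inj : Set.InjOn f.base Z
  closed : ∀ C : Set X, C ⊆ Z → IsClosed C → IsClosed (f.base '' C)

/-- `N` vanishes on opens disjoint from `Z`. -/
def SuppIn (N : X.Modules) (Z : Set X) : Prop :=
  ∀ V : X.Opens, Disjoint (V : Set X) Z → Subsingleton Γ(N, V)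

variable {f : X ⟶ Y} {Z : Set X}

/-- The largest open of `Y` whose preimage is contained in `V ∪ Zᶜ`. -/
def ClosedOn.open (h : ClosedOn f Z) (V : X.Opens) : Y.Opens :=
  ⟨(f.base '' (Z \ V))ᶜ, (h.closed _ Set.sdiff_subset (h.isClosed.sdiff V.isOpen)).isOpen_compl⟩

theorem ClosedOn.mem_open (h : ClosedOn f Z) {V : X.Opens} {x : X} (hx : x ∈ Z) (hV : x ∈ V) :
    f.base x ∈ h.open V := by
  rintro ⟨y, ⟨hy, hyV⟩, hxy⟩
  exact hyV (by rw [h.inj hy hx hxy]; exact hV)

theorem ClosedOn.of_mem_open (h : ClosedOn f Z) {V : X.Opens} {y : X}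
    (hy : f.base y ∈ h.open V) (hyZ : y ∈ Z) : y ∈ V := by
  by_contra hc
  exact hy ⟨y, ⟨hyZ, hc⟩, rfl⟩

/-- The complement of `Z`. -/
def ClosedOn.compl (h : ClosedOn f Z) : X.Opens := ⟨Zᶜ, h.isClosed.isOpen_compl⟩

theorem germ_eq_zero_of_notMem (h : ClosedOn f Z) {N : X.Modules} (hN : SuppIn N Z) {U : X.Opens}
    (s : Γ(N, U)) (y : X) (hyU : y ∈ U) (hy : y ∉ Z) : N.presheaf.germ U y hyU s = 0 := by
  let W : X.Opens := U ⊓ h.compl
  have hW : y ∈ W := ⟨hyU, hy⟩
  have := hN W (by
    rw [Set.disjoint_left]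
    rintro z ⟨_, hz⟩ hz'
    exact hz hz')
  rw [← TopCat.Presheaf.germ_res_apply N.presheaf (homOfLE (inf_le_left : W ≤ U)) y hW s,
    Subsingleton.elim (N.presheaf.map (homOfLE (inf_le_left : W ≤ U)).op s) 0, map_zero]

/-- The stalk vanishes off `Z`. -/
theorem stalk_subsingleton (h : ClosedOn f Z) {N : X.Modules} (hN : SuppIn N Z) (y : X)
    (hy : y ∉ Z) : Subsingleton (N.presheaf.stalk y) := by
  refine subsingleton_of_forall_eq 0 fun t => ?_
  obtain ⟨U, hU, s, rfl⟩ := TopCat.Presheaf.exists_germ_eq N.presheaf t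
  exact germ_eq_zero_of_notMem h hN s y hU hy

/-- Extension by zero of a section on `V` to the preimage of `h.open V`. -/
theorem exists_extend (h : ClosedOn f Z) {N : X.Modules} (hN : SuppIn N Z) (V : X.Opens)
    (s : Γ(N, V)) : ∃ t : Γ(N, f ⁻¹ᵁ (h.open V)), ∀ (y : X) (hy : y ∈ f ⁻¹ᵁ (h.open V))
      (hyV : y ∈ V), N.presheaf.germ _ y hy t = N.presheaf.germ V y hyV s := by
  let F : TopCat.Sheaf Ab.{u} X := ⟨N.presheaf, N.isSheaf⟩
  let U' : X.Opens := f ⁻¹ᵁ (h.open V)
  let W : Bool → X.Opens := fun b => if b then U' ⊓ V else U' ⊓ h.compl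
  have hWle : ∀ b, W b ≤ U' := by
    intro b
    cases b
    · exact inf_le_left
    · exact inf_le_left
  have hcover : U' ≤ iSup W := by
    intro y hy
    rw [Opens.mem_iSup]
    by_cases hyZ : y ∈ Z
    · exact ⟨true, hy, h.of_mem_open hy hyZ⟩
    · exact ⟨false, hy, hyZ⟩
  let sf : ∀ b : Bool, Γ(N, W b) := fun b => match b with
    | true => N.presheaf.map (homOfLE (inf_le_right : U' ⊓ V ≤ V)).op s
    | false => 0
  have hsub : ∀ (b : Bool), Subsingleton Γ(N, W b ⊓ W false) := by
    intro b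
    apply hN
    rw [Set.disjoint_left]
    rintro z ⟨_, _, hz⟩ hz'
    exact hz hz'
  have hsub' : ∀ (b : Bool), Subsingleton Γ(N, W false ⊓ W b) := by
    intro b
    apply hN
    rw [Set.disjoint_left]
    rintro z ⟨⟨_, hz⟩, _⟩ hz'
    exact hz hz'
  have hcompat : TopCat.Presheaf.IsCompatible F.1 W sf := by
    intro a b
    cases a
    · exact (hsub' b).elim _ _
    · cases b
      · exact (hsub true).elim _ _
      · rfl
  obtain ⟨t, ht, -⟩ := F.existsUnique_gluing' W U' (fun b => homOfLE (hWle b)) hcover sf hcompat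
  refine ⟨t, fun y hy hyV => ?_⟩
  have h1 := ht true
  have hyW : y ∈ W true := ⟨hy, hyV⟩
  have h2 := congrArg (N.presheaf.germ (W true) y hyW) h1
  have h3 := TopCat.Presheaf.germ_res_apply N.presheaf (homOfLE (hWle true)) y hyW t
  have h4 := TopCat.Presheaf.germ_res_apply N.presheaf
    (homOfLE (inf_le_right : U' ⊓ V ≤ V)) y hyW s
  exact h3.symm.trans (h2.trans h4)

/-- The map on stalks `(f_* N)_{f x} → N_x` is bijective for `x ∈ Z`. -/
theorem pushAdd_bijective (h : ClosedOn f Z) {N : X.Modules} (hN : SuppIn N Z) {x : X}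
    (hx : x ∈ Z) : Function.Bijective (pushAdd f N x) := by
  constructor
  · rw [injective_iff_map_eq_zero]
    intro t ht
    obtain ⟨U, hU, s, rfl⟩ :=
      TopCat.Presheaf.exists_germ_eq ((Scheme.Modules.pushforward f).obj N).presheaf t
    have ht' : N.presheaf.germ (f ⁻¹ᵁ U) x hU s = 0 := (pushAdd_germ f N x U hU s).symm.trans ht
    obtain ⟨W, hW, i1, i2, h12⟩ := TopCat.Presheaf.germ_eq N.presheaf x hU hU s 0
      (ht'.trans (map_zero (N.presheaf.germ (f ⁻¹ᵁ U) x hU).hom).symm)
    let U' : Y.Opens := U ⊓ h.open W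
    have hxU' : f.base x ∈ U' := ⟨hU, h.mem_open hx hW⟩
    have hle : U' ≤ U := inf_le_left
    let s' : Γ(N, f ⁻¹ᵁ U') := N.presheaf.map ((Opens.map f.base).map (homOfLE hle)).op s
    have hs' : s' = 0 := by
      refine TopCat.Presheaf.section_ext (⟨N.presheaf, N.isSheaf⟩ : TopCat.Sheaf Ab.{u} X)
        (f ⁻¹ᵁ U') s' 0 fun y hy => ?_
      change N.presheaf.germ (f ⁻¹ᵁ U') y hy s' = N.presheaf.germ (f ⁻¹ᵁ U') y hy 0
      rw [map_zero]
      by_cases hyZ : y ∈ Z
      · have hyW : y ∈ W := h.of_mem_open hy.2 hyZ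
        have h3 := TopCat.Presheaf.germ_res_apply N.presheaf
          ((Opens.map f.base).map (homOfLE hle)) y hy s
        have h4 := TopCat.Presheaf.germ_res_apply N.presheaf i1 y hyW s
        have h5 : N.presheaf.map i1.op s = 0 := h12.trans (map_zero (N.presheaf.map i2.op).hom)
        rw [h5, map_zero] at h4
        exact h3.trans h4.symm
      · exact germ_eq_zero_of_notMem h hN s' y hy hyZ
    have h6 := TopCat.Presheaf.germ_res_apply ((Scheme.Modules.pushforward f).obj N).presheaf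
      (homOfLE hle) (f.base x) hxU' s
    refine h6.symm.trans ?_
    refine (congrArg (((Scheme.Modules.pushforward f).obj N).presheaf.germ U' (f.base x) hxU')
      hs').trans ?_
    exact map_zero (((Scheme.Modules.pushforward f).obj N).presheaf.germ U' (f.base x) hxU').hom
  · intro t
    obtain ⟨V, hV, s, rfl⟩ := TopCat.Presheaf.exists_germ_eq N.presheaf t
    obtain ⟨t, ht⟩ := exists_extend h hN V s
    refine ⟨((Scheme.Modules.pushforward f).obj N).presheaf.germ (h.open V) (f.base x)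
      (h.mem_open hx hV) t, ?_⟩
    exact (pushAdd_germ f N x (h.open V) (h.mem_open hx hV) t).trans
      (ht x (h.mem_open hx hV) hV)

/-- The direct image vanishes off `f(Z)`. -/
theorem push_suppIn {N : X.Modules} (hN : SuppIn N Z) :
    SuppIn ((Scheme.Modules.pushforward f).obj N) (f.base '' Z) := by
  intro V hV
  refine hN (f ⁻¹ᵁ V) ?_
  rw [Set.disjoint_left] at hV ⊢
  intro y hy hyZ
  exact hV hy ⟨y, hyZ, rfl⟩

end Groth.Agent.FormalB.TopPush
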