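import Groth.Agent.FormalB.IsoModGeom
import Groth.Agent.FormalB.TopPush
import Groth.Agent.FormalB.PullSys
import Groth.Prelude.Def_CohB1

/-!
# Morphisms `X' → X` over `Spec A` which are isomorphisms over `Spec A/I`
-/

set_option autoImplicit false
universe u

open CategoryTheory CategoryTheory.Limits AlgebraicGeometry Opposite TopologicalSpace

namespace Groth.Agent.FormalB.IsoAlong

open Groth.Agent.Fdesc.Skyscraper Groth.Agent.Fdesc.PullbackStalk Groth.Agent.FormalB.TorsionAlg
open Groth.Agent.FormalB.ModPow Groth.Agent.FormalB.TopPush Groth.Agent.FormalB.IsoModGeom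

section Const

variable {A : Type u} [CommRing A] (X : Scheme.{u}) [X.Over (Spec (CommRingCat.of A))]

/-- The ring map `A → O_{X,x}`. -/
noncomputable def cst (A : Type u) [CommRing A] (X : Scheme.{u})
    [X.Over (Spec (CommRingCat.of A))] (x : X) : A →+* X.presheaf.stalk x :=
  (X.presheaf.germ ⊤ x trivial).hom.comp (Coh.toGlobal (X ↘ Spec (CommRingCat.of A)))

theorem cst_eq_germ (x : X) (a : A) (U : X.Opens) (hx : x ∈ U) :
    cst A X x a = X.presheaf.germ U x hx (resΓ X U (Coh.toGlobal (X ↘ Spec (CommRingCat.of A)) a)) :=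
  (TopCat.Presheaf.germ_res_apply X.presheaf (homOfLE (le_top : U ≤ ⊤)) x hx _).symm

theorem fromSpecStalk_structure (x : X) :
    X.fromSpecStalk x ≫ (X ↘ Spec (CommRingCat.of A)) =
      Spec.map (CommRingCat.ofHom (cst A X x)) := by
  apply ext_of_isAffine
  rw [Scheme.Hom.comp_appTop, Scheme.fromSpecStalk_appTop, ← cancel_epi (Scheme.ΓSpecIso _).inv,
    ← Scheme.ΓSpecIso_inv_naturality]
  ext a
  simp only [homOfLE_refl, op_id, CategoryTheory.Functor.map_id, Category.comp_id]
  rfl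

theorem isUnit_cst_iff (x : X) (a : A) :
    IsUnit (cst A X x a) ↔ a ∉ ((X ↘ Spec (CommRingCat.of A)).base x).asIdeal := by
  have h1 : x ∈ X.basicOpen (Coh.toGlobal (X ↘ Spec (CommRingCat.of A)) a : Γ(X, ⊤)) ↔
      IsUnit (cst A X x a) := X.mem_basicOpen_top _ x
  have h2 : (X ↘ Spec (CommRingCat.of A)) ⁻¹ᵁ (Spec (CommRingCat.of A)).basicOpen
      ((Scheme.ΓSpecIso (CommRingCat.of A)).inv a) =
      X.basicOpen (Coh.toGlobal (X ↘ Spec (CommRingCat.of A)) a : Γ(X, ⊤)) :=
    Scheme.preimage_basicOpen_top _ _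
  rw [← h1, ← h2, basicOpen_eq_of_affine]
  rfl

/-- The closed subset `V(I)` of `X`. -/
def zeroSet (I : Ideal A) : Set X := {x | ∀ a ∈ I, ¬ IsUnit (cst A X x a)}

/-- The ideal `I · O_{X,x}`. -/
noncomputable def stkIdeal (I : Ideal A) (x : X) : Ideal (X.presheaf.stalk x) := I.map (cst A X x)

theorem mem_zeroSet_iff (I : Ideal A) (x : X) : x ∈ zeroSet X I ↔ stkIdeal X I x ≠ ⊤ := by
  constructor
  · intro h hI
    have : stkIdeal X I x ≤ IsLocalRing.maximalIdeal _ := by
      rw [stkIdeal, Ideal.map_le_iff_le_comap]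
      intro a ha
      exact h a ha
    rw [hI, top_le_iff] at this
    exact (IsLocalRing.maximalIdeal.isMaximal _).ne_top this
  · intro h a ha hu
    exact h (Ideal.eq_top_of_isUnit_mem _ (Ideal.mem_map_of_mem _ ha) hu)

theorem mem_zeroSet_iff' (I : Ideal A) (x : X) :
    x ∈ zeroSet X I ↔ I ≤ ((X ↘ Spec (CommRingCat.of A)).base x).asIdeal := by
  constructor
  · intro h a ha
    by_contra hc
    exact h a ha ((isUnit_cst_iff X x a).2 hc)
  · intro h a ha hu
    exact (isUnit_cst_iff X x a).1 hu (h ha)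

theorem range_fst (I : Ideal A) :
    Set.range (pullback.fst (X ↘ Spec (CommRingCat.of A)) (CohB1.specQuot I 0)).base =
      zeroSet X I := by
  have h1 : Set.range (CohB1.specQuot I 0).base =
      PrimeSpectrum.zeroLocus (I : Set A) := by
    have := range_comap_of_surjective (A ⧸ I ^ (0 + 1)) (Ideal.Quotient.mk (I ^ (0 + 1)))
      Ideal.Quotient.mk_surjective
    refine this.trans ?_
    rw [Ideal.mk_ker]
    congr 1
    rw [zero_add, pow_one]
  rw [Scheme.Pullback.range_fst, h1]
  ext x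
  rw [mem_zeroSet_iff']
  rfl

/-- Maps from the spectrum of `O_{X,x}/I` to `X` factor through `X ×_A A/I`. -/
theorem exists_factor_quot (I : Ideal A) (x : X) (S₀ : CommRingCat.{u})
    (π : X.presheaf.stalk x ⟶ S₀) (hπ : ∀ a ∈ I, π (cst A X x a) = 0) :
    ∃ α : Spec S₀ ⟶ pullback (X ↘ Spec (CommRingCat.of A)) (CohB1.specQuot I 0),
      α ≫ pullback.fst _ _ = Spec.map π ≫ X.fromSpecStalk x := by
  have h0 : ∀ a ∈ I ^ (0 + 1), (π.hom.comp (cst A X x)) a = 0 := by
    intro a ha
    rw [zero_add, pow_one] at ha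
    exact hπ a ha
  let q : CommRingCat.of (A ⧸ I ^ (0 + 1)) ⟶ S₀ :=
    CommRingCat.ofHom (Ideal.Quotient.lift (I ^ (0 + 1)) (π.hom.comp (cst A X x)) h0)
  refine ⟨pullback.lift (Spec.map π ≫ X.fromSpecStalk x) (Spec.map q) ?_, pullback.lift_fst _ _ _⟩
  rw [Category.assoc, fromSpecStalk_structure, CohB1.specQuot, ← Spec.map_comp, ← Spec.map_comp]
  congr 1

end Const

section Package

variable {A : Type u} [CommRing A] {X X' : Scheme.{u}} [X.Over (Spec (CommRingCat.of A))]
  [X'.Over (Spec (CommRingCat.of A))] (f : X' ⟶ X)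

theorem stalkMap_cst (hf : f ≫ (X ↘ Spec (CommRingCat.of A)) = X' ↘ Spec (CommRingCat.of A))
    (x' : X') (a : A) : f.stalkMap x' (cst A X (f.base x') a) = cst A X' x' a := by
  rw [cst_eq_germ X (f.base x') a ⊤ trivial, cst_eq_germ X' x' a (f ⁻¹ᵁ ⊤) trivial,
    ← PullSys.res_toGlobal f hf a ⊤]
  exact ConcreteCategory.congr_hom (Scheme.Hom.germ_stalkMap f ⊤ x' trivial)
    (resΓ X ⊤ (Coh.toGlobal (X ↘ Spec (CommRingCat.of A)) a))

theorem map_stkIdeal (hf : f ≫ (X ↘ Spec (CommRingCat.of A)) = X' ↘ Spec (CommRingCat.of A))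
    (I : Ideal A) (x' : X') :
    (stkIdeal X I (f.base x')).map (f.stalkMap x').hom = stkIdeal X' I x' := by
  rw [stkIdeal, stkIdeal, Ideal.map_map]
  congr 1
  ext a
  exact stalkMap_cst f hf x' a

/-- `f` is an isomorphism along `V(I)`. -/
structure IsIsoAlong (I : Ideal A) : Prop where
  closedOn : ClosedOn f (zeroSet X' I)
  image : f.base '' (zeroSet X' I) = zeroSet X I
  isoMod : ∀ x' ∈ zeroSet X' I,
    letI := stalkAlg f x'
    IsoMod (stkIdeal X I (f.base x')) (X'.presheaf.stalk x')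

theorem isIsoAlong_of_isIso
    (hf : f ≫ (X ↘ Spec (CommRingCat.of A)) = X' ↘ Spec (CommRingCat.of A)) (I : Ideal A)
    (hZ : IsIso (pullback.map (X' ↘ Spec (CommRingCat.of A)) (CohB1.specQuot I 0)
      (X ↘ Spec (CommRingCat.of A)) (CohB1.specQuot I 0) f (𝟙 _) (𝟙 _)
      ((Category.comp_id _).trans hf.symm)
      ((Category.comp_id _).trans (Category.id_comp _).symm))) :
    IsIsoAlong f I := by
  have : IsClosedImmersion (CohB1.specQuot I 0) :=
    IsClosedImmersion.spec_of_surjective _ Ideal.Quotient.mk_surjective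
  set j := pullback.fst (X ↘ Spec (CommRingCat.of A)) (CohB1.specQuot I 0) with hj
  set j' := pullback.fst (X' ↘ Spec (CommRingCat.of A)) (CohB1.specQuot I 0) with hj'
  set g := pullback.map (X' ↘ Spec (CommRingCat.of A)) (CohB1.specQuot I 0)
      (X ↘ Spec (CommRingCat.of A)) (CohB1.specQuot I 0) f (𝟙 _) (𝟙 _)
      ((Category.comp_id _).trans hf.symm)
      ((Category.comp_id _).trans (Category.id_comp _).symm) with hg
  have hjc : IsClosedImmersion j := inferInstance
  have hjc' : IsClosedImmersion j' := inferInstance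
  have w : j' ≫ f = g ≫ j := by
    rw [hg, hj, pullback.map, pullback.lift_fst]
  have w' : ∀ z, f.base (j'.base z) = j.base (g.base z) := fun z => by
    have := congrArg (fun k => k.base z) w
    simpa using this
  have hginj : Function.Injective g.base := (Scheme.homeoOfIso (asIso g)).injective
  have hgsurj : Function.Surjective g.base := (Scheme.homeoOfIso (asIso g)).surjective
  have hjinj : Function.Injective j.base := j.isClosedEmbedding.injective
  have hr : Set.range j.base = zeroSet X I := range_fst X I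
  have hr' : Set.range j'.base = zeroSet X' I := range_fst X' I
  refine ⟨⟨?_, ?_, ?_⟩, ?_, ?_⟩
  · rw [← hr']
    exact j'.isClosedEmbedding.isClosed_range
  · rw [← hr']
    rintro _ ⟨z₁, rfl⟩ _ ⟨z₂, rfl⟩ h12
    rw [w', w'] at h12
    rw [hginj (hjinj h12)]
  · intro C hC hCc
    rw [← hr'] at hC
    have h1 : f.base '' C = j.base '' (g.base '' (j'.base ⁻¹' C)) := by
      ext y
      constructor
      · rintro ⟨x, hx, rfl⟩
        obtain ⟨z, rfl⟩ := hC hx
        exact ⟨g.base z, ⟨z, hx, rfl⟩, (w' z).symm⟩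
      · rintro ⟨_, ⟨z, hz, rfl⟩, rfl⟩
        exact ⟨j'.base z, hz, w' z⟩
    rw [h1]
    apply j.isClosedEmbedding.isClosedMap
    exact (Scheme.homeoOfIso (asIso g)).isClosedMap _ (hCc.preimage j'.base.hom.continuous)
  · rw [← hr, ← hr']
    ext y
    constructor
    · rintro ⟨_, ⟨z, rfl⟩, rfl⟩
      exact ⟨g.base z, (w' z).symm⟩
    · rintro ⟨z, rfl⟩
      obtain ⟨z, rfl⟩ := hgsurj z
      exact ⟨j'.base z, ⟨z, rfl⟩, w' z⟩
  · intro x' hx'
    have hx : f.base x' ∈ zeroSet X I := by
      rw [← hr]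
      rw [← hr'] at hx'
      obtain ⟨z, rfl⟩ := hx'
      exact ⟨g.base z, (w' z).symm⟩
    refine isoMod_stalk f j' j g w hjinj x' (by rw [hr']; exact hx') _
      ((mem_zeroSet_iff X I _).1 hx) ?_ ?_
    · exact exists_factor_quot X I (f.base x') _ _ (fun a ha =>
        Ideal.Quotient.eq_zero_iff_mem.2 (Ideal.mem_map_of_mem _ ha))
    · refine exists_factor_quot X' I x' _ _ (fun a ha =>
        Ideal.Quotient.eq_zero_iff_mem.2 ?_)
      rw [map_stkIdeal f hf]
      exact Ideal.mem_map_of_mem _ ha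

end Package

end Groth.Agent.FormalB.IsoAlong
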