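import Groth.Agent.FormalB.TorsionAlg
import Groth.Agent.Fdesc.PullbackStalk
import Mathlib.AlgebraicGeometry.Stalk

/-!
# Stalks and morphisms which are isomorphisms on closed subschemes
-/

set_option autoImplicit false
universe u

open CategoryTheory CategoryTheory.Limits AlgebraicGeometry Opposite TopologicalSpace

namespace Groth.Agent.FormalB.IsoModGeom

open Groth.Agent.Fdesc.PullbackStalk Groth.Agent.FormalB.TorsionAlg

/-- The closed point as a point of the scheme `Spec R`. -/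
abbrev cpt (R : CommRingCat.{u}) [IsLocalRing R] : (Spec R : Scheme.{u}) :=
  IsLocalRing.closedPoint R

/-- A morphism from the spectrum of a local ring factors through the local ring of the image of
the closed point. -/
theorem exists_factor {X : Scheme.{u}} {R : CommRingCat.{u}} [IsLocalRing R] (γ : Spec R ⟶ X)
    (x : X) (hx : γ.base (cpt R) = x) :
    ∃ φ : X.presheaf.stalk x ⟶ R, Spec.map φ ≫ X.fromSpecStalk x = γ := by
  subst hx
  exact ⟨Scheme.stalkClosedPointTo γ, Scheme.Spec_stalkClosedPointTo_fromSpecStalk γ⟩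

theorem closedPoint_mk {X : Scheme.{u}} (x : X) {R : CommRingCat.{u}} [IsLocalRing R]
    (φ : X.presheaf.stalk x ⟶ R) [IsLocalHom φ.hom] :
    (Spec.map φ ≫ X.fromSpecStalk x).base (cpt R) = x := by
  have h1 : (Spec.map φ).base (cpt R) = IsLocalRing.closedPoint (X.presheaf.stalk x) :=
    Spec_closedPoint
  refine (Scheme.Hom.comp_apply (Spec.map φ) (X.fromSpecStalk x) (cpt R)).trans ?_
  exact (congrArg (X.fromSpecStalk x).base h1).trans Scheme.fromSpecStalk_closedPoint

section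

variable {X' X Z' Z : Scheme.{u}} (f : X' ⟶ X) (j' : Z' ⟶ X') (j : Z ⟶ X)
  (g : Z' ⟶ Z) [IsIso g] (w : j' ≫ f = g ≫ j)

include w in
theorem exists_retract (hj : Function.Injective j.base) (x' : X') (hx' : x' ∈ Set.range j'.base)
    (R₀ : CommRingCat.{u}) [IsLocalRing R₀] (π : X.presheaf.stalk (f.base x') ⟶ R₀)
    [IsLocalHom π.hom] (α : Spec R₀ ⟶ Z) (hα : α ≫ j = Spec.map π ≫ X.fromSpecStalk (f.base x')) :
    ∃ φ : X'.presheaf.stalk x' ⟶ R₀, Spec.map φ ≫ X'.fromSpecStalk x' = α ≫ inv g ≫ j' ∧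
      f.stalkMap x' ≫ φ = π := by
  obtain ⟨z', hz'⟩ := hx'
  have hγf : (α ≫ inv g ≫ j') ≫ f = Spec.map π ≫ X.fromSpecStalk (f.base x') := by
    simp only [Category.assoc]
    rw [w, IsIso.inv_hom_id_assoc, hα]
  have hgj : Function.Injective (g ≫ j).base := by
    have h1 : Function.Injective g.base := (Scheme.homeoOfIso (asIso g)).injective
    simp only [Scheme.Hom.comp_base, TopCat.coe_comp]
    exact hj.comp h1
  have hγx : (α ≫ inv g ≫ j').base (cpt R₀) = x' := by
    have h1 : ((α ≫ inv g ≫ j') ≫ f).base (cpt R₀) = f.base x' := by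
      rw [hγf]
      exact closedPoint_mk (f.base x') π
    have h2 : (g ≫ j).base ((α ≫ inv g).base (cpt R₀)) = (g ≫ j).base z' := by
      rw [← w]
      have e1 : (j' ≫ f).base z' = f.base x' := (Scheme.Hom.comp_apply j' f z').trans
        (congrArg f.base hz')
      have e2 : (j' ≫ f).base ((α ≫ inv g).base (cpt R₀)) =
          ((α ≫ inv g ≫ j') ≫ f).base (cpt R₀) := by
        simp only [Scheme.Hom.comp_base, TopCat.coe_comp, Function.comp_apply]
      rw [e1, e2, h1]
    have h3 := hgj h2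
    have h4 : (α ≫ inv g ≫ j').base (cpt R₀) = j'.base ((α ≫ inv g).base (cpt R₀)) := by
      simp only [Scheme.Hom.comp_base, TopCat.coe_comp, Function.comp_apply]
    rw [h4, h3]
    exact hz'
  obtain ⟨φ, hφ⟩ := exists_factor (α ≫ inv g ≫ j') x' hγx
  refine ⟨φ, hφ, ?_⟩
  have : Spec.map (f.stalkMap x' ≫ φ) ≫ X.fromSpecStalk (f.base x') =
      Spec.map π ≫ X.fromSpecStalk (f.base x') := by
    rw [← hγf, ← hφ, Spec.map_comp, Category.assoc, Category.assoc]
    congr 1
    exact Scheme.SpecMap_stalkMap_fromSpecStalk f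
  exact Spec.map_injective ((cancel_mono _).1 this)

include w in
theorem retract_comp [Mono j] (x' : X')
    (R₀ S₀ : CommRingCat.{u}) (π : X.presheaf.stalk (f.base x') ⟶ R₀)
    (α : Spec R₀ ⟶ Z) (hα : α ≫ j = Spec.map π ≫ X.fromSpecStalk (f.base x'))
    (φ : X'.presheaf.stalk x' ⟶ R₀)
    (hφ : Spec.map φ ≫ X'.fromSpecStalk x' = α ≫ inv g ≫ j')
    (π' : X'.presheaf.stalk x' ⟶ S₀) (φ' : R₀ ⟶ S₀) (hφ' : π ≫ φ' = f.stalkMap x' ≫ π')
    (β : Spec S₀ ⟶ Z') (hβ : β ≫ j' = Spec.map π' ≫ X'.fromSpecStalk x') :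
    φ ≫ φ' = π' := by
  have h4 : (Spec.map φ' ≫ α ≫ inv g) ≫ g ≫ j = β ≫ g ≫ j := by
    have e1 : β ≫ g ≫ j = Spec.map π' ≫ X'.fromSpecStalk x' ≫ f := by
      rw [← w, ← Category.assoc β, hβ, Category.assoc]
    have e2 : (Spec.map φ' ≫ α ≫ inv g) ≫ g ≫ j =
        Spec.map φ' ≫ Spec.map π ≫ X.fromSpecStalk (f.base x') := by
      simp only [Category.assoc, IsIso.inv_hom_id_assoc]
      rw [hα]
    have e3 : Spec.map (f.stalkMap x') ≫ X.fromSpecStalk (f.base x') = X'.fromSpecStalk x' ≫ f :=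
      Scheme.SpecMap_stalkMap_fromSpecStalk f
    rw [e1, e2, ← e3, ← Spec.map_comp_assoc, hφ', Spec.map_comp_assoc]
  have h5 : Spec.map φ' ≫ α ≫ inv g = β := (cancel_mono (g ≫ j)).1 h4
  have : Spec.map (φ ≫ φ') ≫ X'.fromSpecStalk x' = Spec.map π' ≫ X'.fromSpecStalk x' := by
    rw [Spec.map_comp, Category.assoc, hφ, ← hβ, ← h5]
    simp only [Category.assoc]
  exact Spec.map_injective ((cancel_mono _).1 this)

/-- Quotient map as a morphism in `CommRingCat`. -/
abbrev mkHom {R : CommRingCat.{u}} (J : Ideal R) : R ⟶ CommRingCat.of (R ⧸ J) :=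
  CommRingCat.ofHom (Ideal.Quotient.mk J)

include w in
theorem isoMod_stalk [Mono j] (hj : Function.Injective j.base) (x' : X')
    (hx' : x' ∈ Set.range j'.base)
    (J : Ideal (X.presheaf.stalk (f.base x'))) (hJ : J ≠ ⊤)
    (hα : ∃ α : Spec (CommRingCat.of (X.presheaf.stalk (f.base x') ⧸ J)) ⟶ Z,
      α ≫ j = Spec.map (mkHom J) ≫ X.fromSpecStalk (f.base x'))
    (hβ : ∃ β : Spec (CommRingCat.of (X'.presheaf.stalk x' ⧸
        J.map (f.stalkMap x').hom)) ⟶ Z',
      β ≫ j' = Spec.map (mkHom (J.map (f.stalkMap x').hom)) ≫ X'.fromSpecStalk x') :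
    letI := stalkAlg f x'
    IsoMod J (X'.presheaf.stalk x') := by
  obtain ⟨α, hα⟩ := hα
  obtain ⟨β, hβ⟩ := hβ
  have : Nontrivial (X.presheaf.stalk (f.base x') ⧸ J) := Ideal.Quotient.nontrivial_iff.2 hJ
  have hloc : IsLocalRing (CommRingCat.of (X.presheaf.stalk (f.base x') ⧸ J)) :=
    IsLocalRing.of_surjective' (Ideal.Quotient.mk J) Ideal.Quotient.mk_surjective
  have hlocal : IsLocalHom (mkHom J).hom :=
    IsLocalHom.of_surjective (Ideal.Quotient.mk J) Ideal.Quotient.mk_surjective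
  obtain ⟨φ, hφ, h1⟩ := exists_retract f j' j g w hj x' hx' _ (mkHom J) α hα
  have hJ' : ∀ a ∈ J, ((mkHom (J.map (f.stalkMap x').hom)).hom.comp (f.stalkMap x').hom) a = 0 :=
    fun a ha => Ideal.Quotient.eq_zero_iff_mem.2 (Ideal.mem_map_of_mem _ ha)
  have h2 := retract_comp f j' j g w x' _ _ (mkHom J) α hα φ hφ
    (mkHom (J.map (f.stalkMap x').hom)) (CommRingCat.ofHom (Ideal.Quotient.lift J
      ((mkHom (J.map (f.stalkMap x').hom)).hom.comp (f.stalkMap x').hom) hJ')) (by
      ext r; rfl) β hβ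
  refine @IsoMod.mk _ _ _ _ _ (stalkAlg f x') ?_ ?_
  · intro s
    obtain ⟨r, hr⟩ := Ideal.Quotient.mk_surjective (φ s)
    refine ⟨r, ?_⟩
    have e1 := ConcreteCategory.congr_hom h2 s
    have e2 : (Ideal.Quotient.lift J
      ((mkHom (J.map (f.stalkMap x').hom)).hom.comp (f.stalkMap x').hom) hJ') (φ s) =
        mkHom (J.map (f.stalkMap x').hom) s := e1
    rw [← hr, Ideal.Quotient.lift_mk] at e2
    exact Ideal.Quotient.eq_zero_iff_mem.1 (by
      rw [map_sub]
      exact sub_eq_zero.2 e2.symm)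
  · intro r hr
    have h3 : φ (f.stalkMap x' r) = mkHom J r := ConcreteCategory.congr_hom h1 r
    have h4 : J.map (f.stalkMap x').hom ≤ RingHom.ker φ.hom := by
      rw [Ideal.map_le_iff_le_comap]
      intro a ha
      change φ (f.stalkMap x' a) = 0
      have : φ (f.stalkMap x' a) = mkHom J a := ConcreteCategory.congr_hom h1 a
      rw [this]
      exact Ideal.Quotient.eq_zero_iff_mem.2 ha
    have h5 : mkHom J r = 0 := by rw [← h3]; exact h4 hr
    exact Ideal.Quotient.eq_zero_iff_mem.1 h5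

end

end Groth.Agent.FormalB.IsoModGeom
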