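import Groth.Agent.FormalB.PuncTheta2
import Groth.Agent.FormalB.FreeUpTo
import Mathlib.Algebra.Category.ModuleCat.Biproducts

/-!
# Finite locally free modules over `O_U / f O_U`, in terms of `A`-modules
-/

set_option autoImplicit false
universe u

open CategoryTheory CategoryTheory.Limits AlgebraicGeometry Opposite TopologicalSpace
open Groth.Agent.FormalB.ModPow Groth.Agent.FormalB.PuncTheta Groth.Agent.FormalB.FreeUpTo

namespace Groth.Agent.FormalB.LocFreeTheta

variable {A : Type u} [CommRing A] (U : (Spec (CommRingCat.of A)).Opens)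

/-- `R^r~|_V` is free of rank `r`. -/
noncomputable def freeIso (R : CommRingCat.{u}) {V : Scheme.{u}} (j : V ⟶ Spec R)
    [IsOpenImmersion j] (F : ModuleCat.{u} R ⥤ V.Modules)
    (hF : F = tilde.functor R ⋙ Scheme.Modules.restrictFunctor j)
    [F.Additive] [PreservesFiniteColimits F] (r : ℕ) :
    F.obj (ModuleCat.of R (Fin r → R)) ≅ FlatMod.freeMod V r :=
  F.mapIso ((ModuleCat.biproductIsoPi (fun _ : Fin r => ModuleCat.of R R)).symm ≪≫
      biproduct.isoCoproduct _) ≪≫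
    PreservesCoproduct.iso F (fun _ : Fin r => ModuleCat.of R R) ≪≫
    Sigma.mapIso (fun _ => eqToIso (by rw [hF]; rfl) ≪≫ Scheme.Modules.restrictUnitIso j)

/-- `A^r~|_U` is free of rank `r`. -/
noncomputable def thetaFree (r : ℕ) :
    (Theta U).obj (ModuleCat.of A (Fin r → A)) ≅ FlatMod.freeMod (U : Scheme.{u}) r :=
  freeIso (CommRingCat.of A) U.ι (Theta U) rfl r

/-- reduction modulo `J` -/
def redMap (J : Ideal A) (r : ℕ) : (Fin r → A) →ₗ[A] (Fin r → A ⧸ J) :=
  LinearMap.pi fun i => (Submodule.mkQ J).comp (LinearMap.proj i)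

theorem redMap_surjective (J : Ideal A) (r : ℕ) : Function.Surjective (redMap J r) := by
  intro y
  choose x hx using fun i => Submodule.Quotient.mk_surjective J (y i)
  exact ⟨x, funext hx⟩

theorem ker_redMap (J : Ideal A) (r : ℕ) :
    LinearMap.ker (redMap J r) = J • (⊤ : Submodule A (Fin r → A)) := by
  classical
  apply le_antisymm
  · intro x hx
    have h1 : ∀ i, x i ∈ J := fun i => (Submodule.Quotient.mk_eq_zero J).1 (congrFun hx i)
    have h2 : x = ∑ i, x i • (Pi.single i (1 : A) : Fin r → A) := by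
      ext j
      simp [Finset.sum_apply, Pi.single_apply]
    rw [h2]
    exact Submodule.sum_mem _ fun i _ => Submodule.smul_mem_smul (h1 i) trivial
  · rw [Submodule.smul_le]
    intro a ha x _
    rw [LinearMap.mem_ker]
    ext i
    refine (Submodule.Quotient.mk_eq_zero J).2 ?_
    exact Ideal.mul_mem_right _ _ ha

/-- `(A/J)^r~|_U` is `O_U^r / J O_U^r`. -/
theorem exists_modPow_iso (I : Ideal A) (n r : ℕ) :
    Nonempty (Formal.modPow I n (FlatMod.freeMod (U : Scheme.{u}) r) ≅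
      (Theta U).obj (ModuleCat.of A (Fin r → A ⧸ I ^ n))) := by
  have h1 := isModPow_thetaMap U (I ^ n) (redMap (I ^ n) r) (redMap_surjective _ r)
    (ker_redMap _ r)
  have h2 := h1.iso_comp (thetaFree U r).inv
  obtain ⟨e, -, -⟩ := (isModPow_modPowπ I n (FlatMod.freeMod (U : Scheme.{u}) r)).exists_iso h2
  exact ⟨e⟩

theorem smul_restrict {X Y : Scheme.{u}} (f : X ⟶ Y) [IsOpenImmersion f] (M : Y.Modules)
    (W : X.Opens) (c : Γ(Y, f ''ᵁ W)) (y : Γ(M, f ''ᵁ W)) :
    (show Γ(M.restrict f, W) from c • y) =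
      ((f.appIso W).hom c) • (show Γ(M.restrict f, W) from y) := by
  exact congrArg (fun t => t.hom y) (Scheme.Modules.smul_restrictAppIso_inv f M W c)

theorem exists_scalar (R : CommRingCat.{u}) (U : (Spec R).Opens) (V : (U : Scheme.{u}).Opens)
    (W : (V : Scheme.{u}).Opens) (a : R) : ∃ d : Γ((V : Scheme.{u}), W), ∀ (F : (Spec R).Modules)
      (y : Γ(F, U.ι ''ᵁ (V.ι ''ᵁ W))),
      (show Γ((F.restrict U.ι).restrict V.ι, W) from (a • y)) =
        d • (show Γ((F.restrict U.ι).restrict V.ι, W) from y) := by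
  refine ⟨(V.ι.appIso W).hom ((U.ι.appIso (V.ι ''ᵁ W)).hom
    (((Spec R).presheaf.map (U.ι ''ᵁ (V.ι ''ᵁ W)).leTop.op) ((Scheme.ΓSpecIso R).inv a))), ?_⟩
  intro F y
  rw [Scheme.Modules.smul_Spec_def]
  have h1 := smul_restrict U.ι F (V.ι ''ᵁ W)
    (((Spec R).presheaf.map (U.ι ''ᵁ (V.ι ''ᵁ W)).leTop.op) ((Scheme.ΓSpecIso R).inv a)) y
  have h2 := smul_restrict V.ι (F.restrict U.ι) W ((U.ι.appIso (V.ι ''ᵁ W)).hom
    (((Spec R).presheaf.map (U.ι ''ᵁ (V.ι ''ᵁ W)).leTop.op) ((Scheme.ΓSpecIso R).inv a))) y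
  exact (congrArg (fun t : Γ(F.restrict U.ι, V.ι ''ᵁ W) =>
    (show Γ((F.restrict U.ι).restrict V.ι, W) from t)) h1).trans h2

/-- The map induced on sections is linear. -/
noncomputable def secLin (R : CommRingCat.{u}) (U : (Spec R).Opens) (V : (U : Scheme.{u}).Opens)
    (W : (V : Scheme.{u}).Opens) (F G : (Spec R).Modules)
    (ψ : (F.restrict U.ι).restrict V.ι ⟶ (G.restrict U.ι).restrict V.ι) :
    Γ(F, U.ι ''ᵁ (V.ι ''ᵁ W)) →ₗ[R] Γ(G, U.ι ''ᵁ (V.ι ''ᵁ W)) where
  toFun y := ψ.app W (show Γ((F.restrict U.ι).restrict V.ι, W) from y)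
  map_add' := map_add (ψ.app W).hom
  map_smul' a y := by
    obtain ⟨d, hd⟩ := exists_scalar R U V W a
    have h1 := hd F y
    have h2 := hd G (ψ.app W (show Γ((F.restrict U.ι).restrict V.ι, W) from y))
    have h3 : ψ.app W (d • (show Γ((F.restrict U.ι).restrict V.ι, W) from y)) =
        d • ψ.app W (show Γ((F.restrict U.ι).restrict V.ι, W) from y) := ψ.app_smul _ _
    exact (congrArg (fun t => ψ.app W t) h1).trans (h3.trans h2.symm)

theorem secLin_apply (R : CommRingCat.{u}) (U : (Spec R).Opens) (V : (U : Scheme.{u}).Opens)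
    (W : (V : Scheme.{u}).Opens) (F G : (Spec R).Modules)
    (ψ : (F.restrict U.ι).restrict V.ι ⟶ (G.restrict U.ι).restrict V.ι)
    (y : Γ(F, U.ι ''ᵁ (V.ι ''ᵁ W))) :
    secLin R U V W F G ψ y = ψ.app W (show Γ((F.restrict U.ι).restrict V.ι, W) from y) := rfl

/-- The equivalence induced on sections by an isomorphism. -/
noncomputable def secEquiv (R : CommRingCat.{u}) (U : (Spec R).Opens)
    (V : (U : Scheme.{u}).Opens) (W : (V : Scheme.{u}).Opens) (F G : (Spec R).Modules)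
    (ψ : (F.restrict U.ι).restrict V.ι ≅ (G.restrict U.ι).restrict V.ι) :
    Γ(F, U.ι ''ᵁ (V.ι ''ᵁ W)) ≃ₗ[R] Γ(G, U.ι ''ᵁ (V.ι ''ᵁ W)) :=
  { secLin R U V W F G ψ.hom with
    invFun := secLin R U V W G F ψ.inv
    left_inv := fun y => by
      change ψ.inv.app W (ψ.hom.app W _) = _
      exact congrArg (fun t => t.app W (show Γ((F.restrict U.ι).restrict V.ι, W) from y))
        ψ.hom_inv_id
    right_inv := fun y => by
      change ψ.hom.app W (ψ.inv.app W _) = _
      exact congrArg (fun t => t.app W (show Γ((G.restrict U.ι).restrict V.ι, W) from y))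
        ψ.inv_hom_id }

theorem isLocalizedModule_toO_of_eq (M : Type u) [AddCommGroup M] [Module A M] (g : A)
    {O : (Spec (CommRingCat.of A)).Opens} (h : O = D g) :
    IsLocalizedModule (Submonoid.powers g) (toO M O) := by
  subst h
  exact isLocalizedModule_toO M g

theorem isFreeUpTo_of_iso {N B : Type u} [AddCommGroup N] [Module A N] [AddCommGroup B]
    [Module A B] [Module.FinitePresentation A N] [Module.FinitePresentation A B]
    (V : (U : Scheme.{u}).Opens) (r : ℕ)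
    (ψ : (Scheme.Modules.restrictFunctor V.ι).obj ((Theta U).obj (ModuleCat.of A N)) ≅
      (Scheme.Modules.restrictFunctor V.ι).obj ((Theta U).obj (ModuleCat.of A (Fin r → B))))
    (g : A) (hg : D g ≤ U.ι ''ᵁ V) : IsFreeUpTo g B N (Fin r) := by
  let W : (V : Scheme.{u}).Opens := V.ι ⁻¹ᵁ (U.ι ⁻¹ᵁ D g)
  have hgU : D g ≤ U := hg.trans (by
    intro x hx
    obtain ⟨y, _, rfl⟩ := hx
    exact y.2)
  have hgV : U.ι ⁻¹ᵁ D g ≤ V := by
    intro x hx
    obtain ⟨y, hy, hyx⟩ := hg hx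
    have : y = x := U.ι.isOpenEmbedding.injective hyx
    rw [← this]
    exact hy
  have hO : U.ι ''ᵁ (V.ι ''ᵁ W) = D g := by
    rw [image_preimage_eq hgV, image_preimage_eq hgU]
  have h1 := isLocalizedModule_toO_of_eq N g hO
  have h2 := isLocalizedModule_toO_of_eq (Fin r → B) g hO
  exact isFreeUpTo_of_equiv g (toO N _) (toO (Fin r → B) _)
    (secEquiv (CommRingCat.of A) U V W (tilde (R := CommRingCat.of A) (ModuleCat.of A N))
      (tilde (R := CommRingCat.of A) (ModuleCat.of A (Fin r → B))) ψ)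

/-- Finite locally free modules over `O_U / I^n O_U`, coming from an `A`-module `N`. -/
theorem exists_isFreeUpTo {N : Type u} [AddCommGroup N] [Module A N]
    [Module.FinitePresentation A N] (I : Ideal A) (n : ℕ) [Module.FinitePresentation A (A ⧸ I ^ n)]
    (G : (U : Scheme.{u}).Modules) (hG : Formal2.IsFinLocFreeMod I n G)
    (e : (Theta U).obj (ModuleCat.of A N) ≅ G) (x : Spec (CommRingCat.of A)) (hx : x ∈ U) :
    ∃ g : A, x ∈ D g ∧ D g ≤ U ∧ ∃ r : ℕ, IsFreeUpTo g (A ⧸ I ^ n) N (Fin r) := by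
  obtain ⟨V, r, hxV, ⟨φ⟩⟩ := hG ⟨x, hx⟩
  obtain ⟨e'⟩ := exists_modPow_iso U I n r
  have hxV' : x ∈ U.ι ''ᵁ V := ⟨⟨x, hx⟩, hxV, rfl⟩
  obtain ⟨g, hxg, hgV⟩ := exists_D_le hxV'
  refine ⟨g, hxg, hgV.trans ?_, r, isFreeUpTo_of_iso U V r
    ((Scheme.Modules.restrictFunctor V.ι).mapIso e ≪≫ φ ≪≫
      (Scheme.Modules.restrictFunctor V.ι).mapIso e') g hgV⟩
  intro y hy
  obtain ⟨z, _, rfl⟩ := hy
  exact z.2

end Groth.Agent.FormalB.LocFreeTheta
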