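import Groth.Agent.FormalB.GamZero
import Groth.Agent.FormalB.DeltaComp
import Groth.Agent.FormalA.InjAcyc
import Groth.Agent.CohqA.HOpen

/-!
# Cohomology of `M~` on the punctured spectrum `U = Spec A ∖ V(𝔞)` and local cohomology
-/

set_option autoImplicit false
universe u

open CategoryTheory CategoryTheory.Limits AlgebraicGeometry Opposite TopologicalSpace
open Groth.Agent.FormalB.PuncTheta Groth.Agent.FormalB.HHDelta Groth.Agent.FormalB.GamZero
open Groth.Agent.Localalg.DeltaFun Groth.Agent.Localalg.LCAbs Groth.Agent.Localalg.Gam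

namespace Groth.Agent.FormalB.PuncDelta

section Precomp

variable {C C' D : Type*} [Category C] [Abelian C] [Category C'] [Abelian C'] [Category D]
  [Abelian D]

/-- precomposition of a delta functor with an exact functor -/
def precomp (F : C ⥤ C') [F.Additive] [PreservesFiniteLimits F] [PreservesFiniteColimits F]
    (T : DeltaFunctor C' D) : DeltaFunctor C D where
  T n := F ⋙ T.T n
  additive n := by
    have := T.additive n
    infer_instance
  δ hS n := T.δ (hS.map_of_exact F) n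
  naturality hS hS' φ n :=
    T.naturality (hS.map_of_exact F) (hS'.map_of_exact F) (F.mapShortComplex.map φ) n
  zero₃ hS n := T.zero₃ (hS.map_of_exact F) n
  zero₁ hS n := T.zero₁ (hS.map_of_exact F) n
  exact₂ hS n := T.exact₂ (hS.map_of_exact F) n
  exact₃ hS n := T.exact₃ (hS.map_of_exact F) n
  exact₁ hS n := T.exact₁ (hS.map_of_exact F) n

end Precomp

variable {A : Type u} [CommRing A] (U : (Spec (CommRingCat.of A)).Opens)

theorem unit_app' (R : CommRingCat.{u}) (U : (Spec R).Opens) (M : ModuleCat.{u} R) (m : M) :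
    (((tilde.adjunction (R := R)).comp (Scheme.Modules.restrictAdjunction U.ι)).unit.app M).hom m =
      (show Γ(tilde M, U.ι ''ᵁ (U.ι ⁻¹ᵁ ⊤)) from
        (tilde.toOpen M (U.ι ''ᵁ (U.ι ⁻¹ᵁ ⊤))).hom m) := by
  rw [Adjunction.comp_unit_app]
  exact congrArg (fun t => t.hom m) (tilde.toOpen_res M ⊤ (U.ι ''ᵁ (U.ι ⁻¹ᵁ ⊤)) (homOfLE le_top))

theorem unit_app (M : Type u) [AddCommGroup M] [Module A M] (m : M) :
    ((adj U).unit.app (ModuleCat.of A M)).hom m =
      (show Γ(tilde (R := CommRingCat.of A) (ModuleCat.of A M), U.ι ''ᵁ (U.ι ⁻¹ᵁ ⊤)) from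
        toO M (U.ι ''ᵁ (U.ι ⁻¹ᵁ ⊤)) m) :=
  unit_app' (CommRingCat.of A) U (ModuleCat.of A M) m

theorem toOpen_eq_zero (R : CommRingCat.{u}) (M : ModuleCat.{u} R) (f : R) (m : M) (k : ℕ)
    (hk : f ^ k • m = 0) : (tilde.toOpen M (PrimeSpectrum.basicOpen f)).hom m = 0 :=
  (IsLocalizedModule.eq_zero_iff (Submonoid.powers f)
    (tilde.toOpen M (PrimeSpectrum.basicOpen f)).hom).2 ⟨⟨_, k, rfl⟩, hk⟩

open Groth.Agent.FormalA.TildeAb Groth.Agent.FormalA.InjSec in
/-- the kernel of the unit consists of the torsion elements. -/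
theorem unit_eq_zero_iff (M : Type u) [AddCommGroup M] [Module A M] (m : M) :
    ((adj U).unit.app (ModuleCat.of A M)).hom m = 0 ↔
      ∀ g : A, D g ≤ U → ∃ k : ℕ, g ^ k • m = 0 := by
  have h := unit_app U M m
  have hV : U.ι ''ᵁ (U.ι ⁻¹ᵁ ⊤) = U := by simp
  constructor
  · intro h0 g hg
    have h1 : toSec (ModuleCat.of A M) (U.ι ''ᵁ (U.ι ⁻¹ᵁ ⊤)) m = 0 := h.symm.trans h0
    have hg' : D g ≤ U.ι ''ᵁ (U.ι ⁻¹ᵁ ⊤) := by rw [hV]; exact hg
    exact toSec_eq_zero (ModuleCat.of A M) g hg' m h1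
  · intro h0
    refine h.trans ?_
    have : toSec (ModuleCat.of A M) (U.ι ''ᵁ (U.ι ⁻¹ᵁ ⊤)) m = 0 := by
      refine sec_ext _ _ _ _ (fun f hf => ?_)
      rw [toSec_res_apply, map_zero]
      obtain ⟨k, hk⟩ := h0 f (by rw [hV] at hf; exact hf)
      exact toOpen_eq_zero (CommRingCat.of A) (ModuleCat.of A M) f m k hk
    exact this

open Groth.Agent.FormalA.TildeAb Groth.Agent.FormalA.InjSec in
theorem unit_surjective [IsNoetherianRing A] (E : ModuleCat.{u} A) [Injective E] :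
    Function.Surjective ((adj U).unit.app E).hom := by
  intro s
  have hE : Module.Baer A E := Module.Baer.of_injective (moduleInjective E)
  obtain ⟨e, he⟩ := toSec_surjective E hE (U.ι ''ᵁ (U.ι ⁻¹ᵁ ⊤)) s
  exact ⟨e, (unit_app U E e).trans he⟩

theorem isFlasque_restrict {X Y : Scheme.{u}} (f : X ⟶ Y) [IsOpenImmersion f] (M : Y.Modules)
    (h : TopCat.Sheaf.IsFlasque (X := Y.toTopCat) (Coh.toAb M)) :
    TopCat.Sheaf.IsFlasque (X := X.toTopCat) (Coh.toAb (M.restrict f)) := by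
  rw [Groth.Agent.CohqA.HOpen.toAb_restrict]
  exact Groth.Agent.CohqA.HOpen.isFlasque_resFunctor f.isOpenEmbedding (Coh.toAb M)

theorem subsingleton_HH_of_isFlasque (X : Scheme.{u}) (F : X.Modules)
    (h2 : TopCat.Sheaf.IsFlasque (X := X.toTopCat) (Coh.toAb F)) (n : ℕ) :
    Subsingleton (Coh.HH X F (n + 1)) :=
  Groth.Agent.CohtopA.Flasque.subsingleton_H_succ (X := X.toTopCat) (Coh.toAb F) n

theorem isFlasque_theta [IsNoetherianRing A] (E : ModuleCat.{u} A) [Injective E] :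
    TopCat.Sheaf.IsFlasque (X := (U : Scheme.{u}).toTopCat) (Coh.toAb ((Theta U).obj E)) :=
  isFlasque_restrict U.ι (tilde (R := CommRingCat.of A) E)
    (Groth.Agent.FormalA.InjAcyc.isFlasque E (Module.Baer.of_injective (moduleInjective E)))

theorem isZero_hh_injective [IsNoetherianRing A] (E : ModuleCat.{u} A) [Injective E] (n : ℕ) :
    IsZero ((hh (U : Scheme.{u}) A (n + 1)).obj ((Theta U).obj E)) :=
  @ModuleCat.isZero_of_subsingleton A _
    (ModuleCat.of A (Coh.HH (U : Scheme.{u}) ((Theta U).obj E) (n + 1)))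
    (subsingleton_HH_of_isFlasque _ _ (isFlasque_theta U E) n)

/-- the delta functor `M ↦ H^n(U, M~)`. -/
noncomputable def TU : DeltaFunctor (ModuleCat.{u} A) (ModuleCat.{u} A) :=
  precomp (Theta U) (hhDelta (U : Scheme.{u}) A)

/-- the canonical map `M → H^0(U, M~)`. -/
noncomputable def η : 𝟭 (ModuleCat.{u} A) ⟶ (TU U).T 0 :=
  (adj U).unit ≫ Functor.whiskerLeft (Theta U) (zeroIso U).inv

theorem η_app (M : ModuleCat.{u} A) (m : M) :
    ((η U).app M).hom m = (zeroLin U ((Theta U).obj M)).symm (((adj U).unit.app M).hom m) := rfl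

theorem η_surjective [IsNoetherianRing A] (E : ModuleCat.{u} A) [Injective E] :
    Function.Surjective ((η U).app E).hom := by
  intro s
  obtain ⟨e, he⟩ := unit_surjective U E (zeroLin U ((Theta U).obj E) s)
  refine ⟨e, ?_⟩
  rw [η_app, he]
  exact (zeroLin U ((Theta U).obj E)).symm_apply_apply s

theorem TU_zero_injective {M N : ModuleCat.{u} A} (φ : M ⟶ N) [Mono φ] :
    Function.Injective (((TU U).T 0).map φ).hom :=
  hh_zero_injective U ((Theta U).map φ)

theorem D_le_puncturedOpen (𝔞 : Ideal A) (g : A) :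
    D g ≤ LocCoh.puncturedOpen A 𝔞 ↔ g ∈ 𝔞.radical := by
  have h1 : D g ≤ LocCoh.puncturedOpen A 𝔞 ↔
      PrimeSpectrum.zeroLocus (R := A) (𝔞 : Set A) ⊆ PrimeSpectrum.zeroLocus {g} := by
    constructor
    · intro h x hx
      by_contra hx'
      have : x ∈ (D g : Set (Spec (CommRingCat.of A))) := by
        change g ∉ x.asIdeal
        simpa using hx'
      exact h this hx
    · intro h x hx hx'
      have h2 := h hx'
      have h3 : g ∉ (show PrimeSpectrum A from x).asIdeal := hx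
      exact h3 (by simpa using h2)
  rw [h1, ← PrimeSpectrum.zeroLocus_span {g}, PrimeSpectrum.zeroLocus_subset_zeroLocus_iff]
  rw [Ideal.span_le, Set.singleton_subset_iff]
  rfl

theorem mem_gam_iff [IsNoetherianRing A] (𝔞 : Ideal A) {M : Type u} [AddCommGroup M] [Module A M]
    (m : M) : (∀ g : A, D g ≤ LocCoh.puncturedOpen A 𝔞 → ∃ k : ℕ, g ^ k • m = 0) ↔
      m ∈ gam 𝔞 M := by
  constructor
  · intro h
    have h1 : 𝔞 ≤ (Ideal.torsionOf A M m).radical := by
      intro g hg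
      obtain ⟨k, hk⟩ := h g ((D_le_puncturedOpen 𝔞 g).2 (Ideal.le_radical hg))
      exact ⟨k, hk⟩
    obtain ⟨n, hn⟩ := Ideal.exists_pow_le_of_le_radical_of_fg h1 (IsNoetherian.noetherian 𝔞)
    exact ⟨n, fun a ha => hn ha⟩
  · rintro ⟨n, hn⟩ g hg
    obtain ⟨k, hk⟩ := (D_le_puncturedOpen 𝔞 g).1 hg
    refine ⟨k * n, ?_⟩
    rw [pow_mul]
    exact hn _ (Ideal.pow_mem_pow hk n)

theorem η_eq_zero_iff [IsNoetherianRing A] (𝔞 : Ideal A) (M : ModuleCat.{u} A) (m : M) :
    ((η (LocCoh.puncturedOpen A 𝔞)).app M).hom m = 0 ↔ m ∈ gam 𝔞 M := by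
  rw [← mem_gam_iff]
  refine Iff.trans ?_ (unit_eq_zero_iff (LocCoh.puncturedOpen A 𝔞) M m)
  exact (zeroLin (LocCoh.puncturedOpen A 𝔞)
    ((Theta (LocCoh.puncturedOpen A 𝔞)).obj M)).symm.map_eq_zero_iff

section Final

variable [IsNoetherianRing A] (𝔞 : Ideal A) (M : Type u) [AddCommGroup M] [Module A M]

/-- `H^0(U, M~)` is finite when `M` and `H^1_𝔞(M)` are. -/
theorem finite_HH_zero [Module.Finite A M] (h : Module.Finite A (LocCoh.H 𝔞 1 M)) :
    Module.Finite A (Coh.HH (LocCoh.puncturedOpen A 𝔞 : Scheme.{u})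
      ((Theta (LocCoh.puncturedOpen A 𝔞)).obj (ModuleCat.of A M)) 0) :=
  DeltaComp.finite_zero (lc 𝔞) (TU (LocCoh.puncturedOpen A 𝔞)) (η _)
    (fun J _ => η_surjective _ J) (η_eq_zero_iff 𝔞) (fun φ _ => TU_zero_injective _ φ)
    (ModuleCat.of A M) inferInstance h

/-- `H^1(U, M~)` is finite when `H^2_𝔞(M)` is. -/
theorem finite_HH_one (h : Module.Finite A (LocCoh.H 𝔞 2 M)) :
    Module.Finite A (Coh.HH (LocCoh.puncturedOpen A 𝔞 : Scheme.{u})
      ((Theta (LocCoh.puncturedOpen A 𝔞)).obj (ModuleCat.of A M)) 1) :=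
  DeltaComp.finite_one (lc 𝔞) (TU (LocCoh.puncturedOpen A 𝔞)) (η _)
    (fun J _ => η_surjective _ J) (η_eq_zero_iff 𝔞) (fun φ _ => TU_zero_injective _ φ)
    (fun J _ => isZero_hh_injective _ J 0) (ModuleCat.of A M) h

/-- `H^1(U, M~)` is `𝔞`-power torsion. -/
theorem torsion_HH_one (y : Coh.HH (LocCoh.puncturedOpen A 𝔞 : Scheme.{u})
      ((Theta (LocCoh.puncturedOpen A 𝔞)).obj (ModuleCat.of A M)) 1) :
    ∃ n : ℕ, ∀ a ∈ 𝔞 ^ n, a • y = 0 :=
  DeltaComp.torsion_one (lc 𝔞) (TU (LocCoh.puncturedOpen A 𝔞)) (η _)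
    (fun J _ => η_surjective _ J) (η_eq_zero_iff 𝔞) (fun φ _ => TU_zero_injective _ φ)
    (fun J _ => isZero_hh_injective _ J 0) (ModuleCat.of A M) y

end Final

end Groth.Agent.FormalB.PuncDelta
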