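import Groth.Agent.FormalB.DeltaCompMap
import Groth.Agent.FormalB.PuncDelta
import Groth.Agent.FormalB.LocFreeTheta

/-!
# The image of `H^1(U, G_n) → H^1(U, G_0)` for locally free systems
-/

set_option autoImplicit false
universe u

open CategoryTheory CategoryTheory.Limits AlgebraicGeometry Opposite TopologicalSpace
open Groth.Agent.Localalg.DeltaFun Groth.Agent.FormalB.PuncTheta Groth.Agent.FormalB.FreeUpTo
open Groth.Agent.FormalB.ModPow Groth.Agent.Localalg.LCAbs

namespace Groth.Agent.FormalB.KillImage567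

variable {A : Type u} [CommRing A]

section Algebra

variable (F : ModuleCat.{u} A ⥤ ModuleCat.{u} A) [F.Additive]
    {B B' : Type u} [AddCommGroup B] [Module A B] [AddCommGroup B'] [Module A B']

/-- the power of a linear map -/
def piMap (κ : Type) (π : B →ₗ[A] B') : (κ → B) →ₗ[A] (κ → B') :=
  LinearMap.pi fun k => π.comp (LinearMap.proj k)

theorem piMap_apply (κ : Type) (π : B →ₗ[A] B') (x : κ → B) (k : κ) :
    piMap κ π x k = π (x k) := rfl

theorem kill_pi (π : B →ₗ[A] B') (a : A)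
    (h : ∀ x : F.obj (ModuleCat.of A B), a • (F.map (ModuleCat.ofHom π)).hom x = 0)
    (κ : Type) [Finite κ] (y : F.obj (ModuleCat.of A (κ → B))) :
    a • (F.map (ModuleCat.ofHom (piMap κ π))).hom y = 0 := by
  classical
  have := Fintype.ofFinite κ
  let p : ∀ k : κ, ModuleCat.of A (κ → B) ⟶ ModuleCat.of A B :=
    fun k => ModuleCat.ofHom (LinearMap.proj k)
  let s : ∀ k : κ, ModuleCat.of A B' ⟶ ModuleCat.of A (κ → B') :=
    fun k => ModuleCat.ofHom (LinearMap.single A (fun _ : κ => B') k)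
  have hsum : ∑ k : κ, p k ≫ ModuleCat.ofHom π ≫ s k = ModuleCat.ofHom (piMap κ π) := by
    refine ModuleCat.hom_ext (LinearMap.ext fun x => ?_)
    rw [ModuleCat.hom_sum, LinearMap.sum_apply]
    change ∑ k : κ, (Pi.single k (π (x k)) : κ → B') = piMap κ π x
    exact Finset.univ_sum_single (piMap κ π x)
  rw [← hsum, F.map_sum, ModuleCat.hom_sum, LinearMap.sum_apply, Finset.smul_sum]
  refine Finset.sum_eq_zero fun k _ => ?_
  rw [Functor.map_comp, Functor.map_comp]
  change a • (F.map (s k)).hom ((F.map (ModuleCat.ofHom π)).hom ((F.map (p k)).hom y)) = 0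
  rw [← map_smul, h, map_zero]

end Algebra

theorem ker_piMap (I J : Ideal A) (r : ℕ) (π : (A ⧸ J) →ₗ[A] (A ⧸ I))
    (hπ : ∀ a : A, π (Ideal.Quotient.mk _ a) = Ideal.Quotient.mk _ a) :
    LinearMap.ker (piMap (Fin r) π) = I • (⊤ : Submodule A (Fin r → A ⧸ J)) := by
  classical
  apply le_antisymm
  · intro x hx
    choose y hy using fun i => Ideal.Quotient.mk_surjective (x i)
    have h1 : ∀ i, y i ∈ I := fun i => by
      have h2 : π (x i) = 0 := congrFun hx i
      rw [← hy i, hπ] at h2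
      exact Ideal.Quotient.eq_zero_iff_mem.1 h2
    have h2 : x = ∑ i, y i • (Pi.single i (1 : A ⧸ J) : Fin r → A ⧸ J) := by
      ext j
      rw [Finset.sum_apply, Finset.sum_eq_single j]
      · rw [Pi.smul_apply, Pi.single_eq_same, ← hy j, Algebra.smul_def, mul_one]
        rfl
      · intro b _ hb
        rw [Pi.smul_apply, Pi.single_eq_of_ne (Ne.symm hb), smul_zero]
      · intro h
        exact absurd (Finset.mem_univ j) h
    rw [h2]
    exact Submodule.sum_mem _ fun i _ => Submodule.smul_mem_smul (h1 i) trivial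
  · rw [Submodule.smul_le]
    intro a ha x _
    rw [LinearMap.mem_ker]
    ext i
    rw [piMap_apply, Pi.smul_apply, map_smul]
    obtain ⟨b, hb⟩ := Ideal.Quotient.mk_surjective (π (x i))
    rw [← hb]
    change Ideal.Quotient.mk I (a * b) = 0
    exact Ideal.Quotient.eq_zero_iff_mem.2 (I.mul_mem_right _ ha)

theorem piMap_surjective (I J : Ideal A) (r : ℕ) (π : (A ⧸ J) →ₗ[A] (A ⧸ I))
    (hπ : ∀ a : A, π (Ideal.Quotient.mk _ a) = Ideal.Quotient.mk _ a) :
    Function.Surjective (piMap (Fin r) π) := by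
  intro y
  choose x hx using fun i => Ideal.Quotient.mk_surjective (y i)
  refine ⟨fun i => Ideal.Quotient.mk _ (x i), ?_⟩
  ext i
  rw [piMap_apply, hπ, hx]

variable (U : (Spec (CommRingCat.of A)).Opens)
  (F : (U : Scheme.{u}).Modules ⥤ ModuleCat.{u} A) [F.Additive]
  (hlin : ∀ (M : (U : Scheme.{u}).Modules) (a : A) (x : F.obj M),
      (F.map (Formal.smulMod A M a)).hom x = a • x)

include hlin in
theorem kill_piece (I J : Ideal A) (r : ℕ) (g : A) {N : Type u} [AddCommGroup N] [Module A N]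
    (h : IsFreeUpTo g (A ⧸ J) N (Fin r)) {G0 : (U : Scheme.{u}).Modules}
    (hG0 : Formal.KilledBy I G0) (φ : (Theta U).obj (ModuleCat.of A N) ⟶ G0)
    (π : (A ⧸ J) →ₗ[A] (A ⧸ I))
    (hπ : ∀ a : A, π (Ideal.Quotient.mk _ a) = Ideal.Quotient.mk _ a) :
    ∃ k : ℕ, ∀ a : A, (∀ x : F.obj ((Theta U).obj (ModuleCat.of A (A ⧸ J))),
        a • (F.map (thetaMap U π)).hom x = 0) →
      ∀ x, (g ^ k * a) • (F.map φ).hom x = 0 := by
  obtain ⟨k, α, β, hβα, -⟩ := h
  refine ⟨k, fun a ha x => ?_⟩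
  have h1 : Formal.smulMod A ((Theta U).obj (ModuleCat.of A N)) (g ^ k) =
      thetaMap U α ≫ thetaMap U β := by
    rw [← theta_map_smul, ← Functor.map_comp]
    congr 1
    ext y
    exact (hβα y).symm
  have h2 := isModPow_thetaMap U I (piMap (Fin r) π) (piMap_surjective I J r π hπ)
    (ker_piMap I J r π hπ)
  obtain ⟨d, hd⟩ := h2.desc (thetaMap U β ≫ φ) (fun b hb => by
    rw [smulMod_naturality, hG0 b hb, comp_zero])
  have h3 : Formal.smulMod A ((Theta U).obj (ModuleCat.of A N)) (g ^ k) ≫ φ =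
      thetaMap U α ≫ thetaMap U (piMap (Fin r) π) ≫ d := by
    rw [h1, Category.assoc, hd]
  have h4 : g ^ k • (F.map φ).hom x = (F.map d).hom ((F.map (thetaMap U (piMap (Fin r) π))).hom
      ((F.map (thetaMap U α)).hom x)) := by
    have h5 := congrArg (fun t => (F.map t).hom x) h3
    simp only [Functor.map_comp, ModuleCat.hom_comp, LinearMap.comp_apply] at h5
    rw [hlin, map_smul] at h5
    exact h5
  rw [mul_comm, mul_smul, h4, ← map_smul]
  have h6 := kill_pi (Theta U ⋙ F) π a ha (Fin r) ((F.map (thetaMap U α)).hom x)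
  have h7 : a • (F.map (thetaMap U (piMap (Fin r) π))).hom ((F.map (thetaMap U α)).hom x) = 0 := h6
  rw [h7, map_zero]

/-- The map `H^1(U, M~) → H^1(U, M'~)` is killed by what kills `H^2_𝔞(M) → H^2_𝔞(M')`. -/
theorem kill_HH_one [IsNoetherianRing A] (𝔞 : Ideal A) {M M' : Type u} [AddCommGroup M]
    [Module A M] [AddCommGroup M'] [Module A M'] (φ : M →ₗ[A] M') (a : A)
    (h : ∀ x : LocCoh.H 𝔞 2 M, a • ((localCohomology 𝔞 2).map (ModuleCat.ofHom φ)).hom x = 0)
    (y : (HHDelta.hh (LocCoh.puncturedOpen A 𝔞 : Scheme.{u}) A 1).obj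
      ((Theta (LocCoh.puncturedOpen A 𝔞)).obj (ModuleCat.of A M))) :
    a • ((HHDelta.hh (LocCoh.puncturedOpen A 𝔞 : Scheme.{u}) A 1).map
      (thetaMap (LocCoh.puncturedOpen A 𝔞) φ)).hom y = 0 :=
  DeltaCompMap.kill_map_one (lc 𝔞) (PuncDelta.TU (LocCoh.puncturedOpen A 𝔞)) (PuncDelta.η _)
    (fun J _ => PuncDelta.η_surjective _ J) (PuncDelta.η_eq_zero_iff 𝔞)
    (fun φ _ => PuncDelta.TU_zero_injective _ φ)
    (fun J _ => PuncDelta.isZero_hh_injective _ J 0) (ModuleCat.ofHom φ) a h y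

end Groth.Agent.FormalB.KillImage567
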