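import Groth.Agent.FormalB.IsoAlong
import Groth.Agent.Sga67.FlatPre

/-!
# Pullback along a flat morphism which is an isomorphism over `V(I)`: modules killed by `I^k`
-/

set_option autoImplicit false
universe u

open CategoryTheory CategoryTheory.Limits AlgebraicGeometry Opposite TopologicalSpace

namespace Groth.Agent.FormalB.KilledEquiv

open Groth.Agent.Fdesc.Skyscraper Groth.Agent.Fdesc.PullbackStalk Groth.Agent.FormalB.TorsionAlg
open Groth.Agent.FormalB.ModPow Groth.Agent.FormalB.TopPush Groth.Agent.FormalB.IsoAlong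
open Groth.Agent.FormalB.PullSys
open Groth.Agent.Sga67.FlatPre (isIso_of_stalkMap_bijective)

section Killed

variable {A : Type u} [CommRing A] {X : Scheme.{u}} [X.Over (Spec (CommRingCat.of A))]

theorem cst_smul_germ (N : X.Modules) (x : X) (U : X.Opens) (hx : x ∈ U) (a : A) (m : Γ(N, U)) :
    cst A X x a • N.presheaf.germ U x hx m =
      N.presheaf.germ U x hx ((Formal.smulMod A N a).app U m) := by
  rw [smulMod_app, germ_smul, ← cst_eq_germ]

theorem cst_smul (N : X.Modules) (x : X) (a : A) (t : N.presheaf.stalk x) :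
    cst A X x a • t = stalkMap (Formal.smulMod A N a) x t := by
  obtain ⟨U, hU, s, rfl⟩ := TopCat.Presheaf.exists_germ_eq N.presheaf t
  rw [cst_smul_germ, stalkMap_germ]

/-- Stalks of a module killed by `J` are killed by `J O_{X,x}`. -/
theorem smul_stalk_eq_zero {J : Ideal A} {N : X.Modules} (hN : Formal.KilledBy J N) (x : X)
    (r : X.presheaf.stalk x) (hr : r ∈ J.map (cst A X x)) (t : N.presheaf.stalk x) : r • t = 0 := by
  refine Submodule.span_induction (p := fun r _ => r • t = 0) ?_ ?_ ?_ ?_ hr
  · rintro _ ⟨a, ha, rfl⟩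
    rw [cst_smul, hN a ha]
    obtain ⟨U, hU, s, rfl⟩ := TopCat.Presheaf.exists_germ_eq N.presheaf t
    rw [stalkMap_germ]
    exact map_zero (N.presheaf.germ U x hU).hom
  · exact zero_smul _ _
  · intro a b _ _ ha hb
    rw [add_smul, ha, hb, add_zero]
  · intro a b _ hb
    rw [smul_eq_mul, mul_smul, hb, smul_zero]

theorem smul_stalk_pow_eq_zero {I : Ideal A} {k : ℕ} {N : X.Modules}
    (hN : Formal.KilledBy (I ^ k) N) (x : X)
    (r : X.presheaf.stalk x) (hr : r ∈ (stkIdeal X I x) ^ k) (t : N.presheaf.stalk x) :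
    r • t = 0 := by
  apply smul_stalk_eq_zero hN x r
  rwa [Ideal.map_pow]

theorem stalk_subsingleton_of_killed {I : Ideal A} {k : ℕ} {N : X.Modules}
    (hN : Formal.KilledBy (I ^ k) N) (x : X) (hx : x ∉ zeroSet X I) :
    Subsingleton (N.presheaf.stalk x) := by
  have h1 : stkIdeal X I x = ⊤ := by
    by_contra h
    exact hx ((mem_zeroSet_iff X I x).2 h)
  refine subsingleton_of_forall_eq 0 fun t => ?_
  rw [← one_smul (X.presheaf.stalk x) t]
  refine smul_stalk_pow_eq_zero hN x 1 ?_ t
  rw [h1, Ideal.top_pow]
  trivial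

theorem suppIn_of_killed {I : Ideal A} {k : ℕ} {N : X.Modules}
    (hN : Formal.KilledBy (I ^ k) N) : SuppIn N (zeroSet X I) := by
  intro V hV
  refine subsingleton_of_forall_eq 0 fun s => ?_
  refine TopCat.Presheaf.section_ext (⟨N.presheaf, N.isSheaf⟩ : TopCat.Sheaf Ab.{u} X)
    V s 0 fun y hy => ?_
  have := stalk_subsingleton_of_killed hN y (Set.disjoint_left.1 hV hy)
  exact Subsingleton.elim _ _

end Killed

section Equiv

variable {A : Type u} [CommRing A] {X X' : Scheme.{u}} [X.Over (Spec (CommRingCat.of A))]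
  [X'.Over (Spec (CommRingCat.of A))] {f : X' ⟶ X}
  {I : Ideal A}

theorem pushforward_killedBy (hf : f ≫ (X ↘ Spec (CommRingCat.of A)) = X' ↘ Spec (CommRingCat.of A))
    {J : Ideal A} {N : X'.Modules} (hN : Formal.KilledBy J N) :
    Formal.KilledBy J ((Scheme.Modules.pushforward f).obj N) := by
  intro a ha
  rw [← pushforward_smulMod f hf, hN a ha, Functor.map_zero]

/-- The canonical map `M_{f x'} → (f^* M)_{x'}` is bijective at points of `V(I)`. -/
theorem canAdd_bijective [Flat f] (h : IsIsoAlong f I) {k : ℕ} {M : X.Modules}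
    (hM : Formal.KilledBy (I ^ k) M) (x' : X') (hx' : x' ∈ zeroSet X' I) :
    Function.Bijective (canAdd f M x') := by
  let := stalkAlg f x'
  have hflat : Module.Flat (X.presheaf.stalk (f.base x')) (X'.presheaf.stalk x') :=
    Flat.stalkMap f x'
  have h1 := bijective_of_killed_pow (M := M.presheaf.stalk (f.base x')) (h.isoMod x' hx') k
    (fun a ha m => smul_stalk_pow_eq_zero hM (f.base x') a ha m)
  have h2 : (canAdd f M x' : _ → _) = fun m => stalkPullbackEquiv f M x'
      ((1 : X'.presheaf.stalk x') ⊗ₜ[X.presheaf.stalk (f.base x')] m) := by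
    funext m
    rw [stalkPullbackEquiv_tmul, one_smul]
  rw [h2]
  exact (stalkPullbackEquiv f M x').bijective.comp h1

/-- The unit `M → f_* f^* M` is an isomorphism for `M` killed by a power of `I`. -/
theorem isIso_unit [Flat f] (h : IsIsoAlong f I)
    (hf : f ≫ (X ↘ Spec (CommRingCat.of A)) = X' ↘ Spec (CommRingCat.of A)) {k : ℕ} {M : X.Modules}
    (hM : Formal.KilledBy (I ^ k) M) :
    IsIso ((Scheme.Modules.pullbackPushforwardAdjunction f).unit.app M) := by
  apply isIso_of_stalkMap_bijective
  intro x
  by_cases hx : x ∈ zeroSet X I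
  · rw [← h.image] at hx
    obtain ⟨x', hx', rfl⟩ := hx
    have h1 := canAdd_bijective h hM x' hx'
    have h2 := pushAdd_bijective h.closedOn
      (suppIn_of_killed (pullback_killedBy f hf hM)) hx'
    have h3 : (canAdd f M x' : _ → _) = (pushAdd f _ x') ∘
      (stalkMap ((Scheme.Modules.pullbackPushforwardAdjunction f).unit.app M) (f.base x')) := rfl
    rw [h3] at h1
    exact (Function.Bijective.of_comp_iff' h2 _).1 h1
  · have h1 := stalk_subsingleton_of_killed hM x hx
    have h2 := stalk_subsingleton_of_killed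
      (pushforward_killedBy hf (pullback_killedBy f hf hM)) x hx
    exact ⟨fun a b _ => h1.elim a b, fun b => ⟨0, h2.elim _ _⟩⟩

theorem pushAdd_naturality {N₁ N₂ : X'.Modules} (φ : N₁ ⟶ N₂) (x' : X')
    (t : ((Scheme.Modules.pushforward f).obj N₁).presheaf.stalk (f.base x')) :
    pushAdd f N₂ x' (stalkMap ((Scheme.Modules.pushforward f).map φ) (f.base x') t) =
      stalkMap φ x' (pushAdd f N₁ x' t) := by
  obtain ⟨U, hU, s, rfl⟩ := TopCat.Presheaf.exists_germ_eq
    ((Scheme.Modules.pushforward f).obj N₁).presheaf t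
  refine (congrArg (pushAdd f N₂ x') (stalkMap_germ _ (f.base x') U hU s)).trans ?_
  refine (pushAdd_germ f N₂ x' U hU _).trans ?_
  refine Eq.trans ?_ (congrArg (stalkMap φ x') (pushAdd_germ f N₁ x' U hU s)).symm
  exact (stalkMap_germ φ x' (f ⁻¹ᵁ U) hU s).symm

/-- The direct image functor reflects isomorphisms between modules killed by a power of `I`. -/
theorem isIso_of_isIso_pushforward (h : IsIsoAlong f I) {k : ℕ} {N₁ N₂ : X'.Modules}
    (h₁ : Formal.KilledBy (I ^ k) N₁) (h₂ : Formal.KilledBy (I ^ k) N₂) (φ : N₁ ⟶ N₂)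
    [IsIso ((Scheme.Modules.pushforward f).map φ)] : IsIso φ := by
  apply isIso_of_stalkMap_bijective
  intro x
  by_cases hx : x ∈ zeroSet X' I
  · have b1 := pushAdd_bijective h.closedOn (suppIn_of_killed h₁) hx
    have b2 := pushAdd_bijective h.closedOn (suppIn_of_killed h₂) hx
    have b3 : Function.Bijective
        (stalkMap ((Scheme.Modules.pushforward f).map φ) (f.base x)) := by
      constructor
      · exact (Groth.Agent.Sga67.FlatPre.mono_iff_stalkMap_injective _).1 inferInstance _
      · intro b
        refine ⟨stalkMap (inv ((Scheme.Modules.pushforward f).map φ)) (f.base x) b, ?_⟩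
        have := congrArg (fun g => g b) (congrArg DFunLike.coe (stalkMap_comp
          (inv ((Scheme.Modules.pushforward f).map φ)) ((Scheme.Modules.pushforward f).map φ)
          (f.base x)))
        rw [IsIso.inv_hom_id, stalkMap_id] at this
        exact this.symm
    have e : (stalkMap φ x : _ → _) ∘ (pushAdd f N₁ x) =
        (pushAdd f N₂ x) ∘ (stalkMap ((Scheme.Modules.pushforward f).map φ) (f.base x)) := by
      funext t
      exact (pushAdd_naturality φ x t).symm
    have b4 : Function.Bijective ((stalkMap φ x : _ → _) ∘ (pushAdd f N₁ x)) := by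
      rw [e]
      exact b2.comp b3
    exact (Function.Bijective.of_comp_iff _ b1).1 b4
  · have h1 := stalk_subsingleton_of_killed h₁ x hx
    have h2 := stalk_subsingleton_of_killed h₂ x hx
    exact ⟨fun a b _ => h1.elim a b, fun b => ⟨0, h2.elim _ _⟩⟩

/-- The counit `f^* f_* N → N` is an isomorphism for `N` killed by a power of `I`. -/
theorem isIso_counit [Flat f] (h : IsIsoAlong f I)
    (hf : f ≫ (X ↘ Spec (CommRingCat.of A)) = X' ↘ Spec (CommRingCat.of A)) {k : ℕ}
    {N : X'.Modules} (hN : Formal.KilledBy (I ^ k) N) :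
    IsIso ((Scheme.Modules.pullbackPushforwardAdjunction f).counit.app N) := by
  have hN' := pushforward_killedBy hf hN
  have h1 := isIso_unit h hf hN'
  have h2 := (Scheme.Modules.pullbackPushforwardAdjunction f).right_triangle_components N
  have h3 : IsIso ((Scheme.Modules.pushforward f).map
      ((Scheme.Modules.pullbackPushforwardAdjunction f).counit.app N)) := by
    have : (Scheme.Modules.pushforward f).map
        ((Scheme.Modules.pullbackPushforwardAdjunction f).counit.app N) =
        inv ((Scheme.Modules.pullbackPushforwardAdjunction f).unit.app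
          ((Scheme.Modules.pushforward f).obj N)) :=
      IsIso.eq_inv_of_hom_inv_id h2
    rw [this]
    infer_instance
  exact isIso_of_isIso_pushforward h (pullback_killedBy f hf hN') hN _

/-- Direct image commutes with forming `N / J N` on modules killed by powers of `I`. -/
theorem pushforward_isModPow [Flat f] (h : IsIsoAlong f I)
    (hf : f ≫ (X ↘ Spec (CommRingCat.of A)) = X' ↘ Spec (CommRingCat.of A)) {k l : ℕ}
    {N N' : X'.Modules} (hN : Formal.KilledBy (I ^ k) N) {p : N ⟶ N'}
    (hp : IsModPow (I ^ l) p) : IsModPow (I ^ l) ((Scheme.Modules.pushforward f).map p) := by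
  let adj := Scheme.Modules.pullbackPushforwardAdjunction f
  let M := (Scheme.Modules.pushforward f).obj N
  let q : M ⟶ Formal.modPow I l M := Formal.modPowπ I l M
  have hq : IsModPow (I ^ l) q := isModPow_modPowπ I l M
  have hQ := hq.killedBy
  have hq' := pullback_isModPow f hf hq
  have hc := isIso_counit h hf hN
  have hc' : IsModPow (I ^ l) (adj.counit.app N ≫ p) := hp.iso_comp _
  obtain ⟨e, he, -⟩ := hq'.exists_iso hc'
  have hu := isIso_unit h hf hQ
  have key : (Scheme.Modules.pushforward f).map p =
      q ≫ (adj.unit.app (Formal.modPow I l M) ≫ (Scheme.Modules.pushforward f).map e.hom) := by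
    have h1 : q ≫ adj.unit.app (Formal.modPow I l M) = adj.unit.app M ≫
        (Scheme.Modules.pushforward f).map ((Scheme.Modules.pullback f).map q) :=
      adj.unit.naturality q
    rw [reassoc_of% h1, ← Functor.map_comp, he, Functor.map_comp]
    have h2 := adj.right_triangle_components N
    rw [reassoc_of% h2]
  rw [key]
  exact hq.comp_iso _

/-- The direct image of a formal system is formal. -/
theorem pushforward_isFormal [Flat f] (h : IsIsoAlong f I)
    (hf : f ≫ (X ↘ Spec (CommRingCat.of A)) = X' ↘ Spec (CommRingCat.of A))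
    {G : ℕᵒᵖ ⥤ X'.Modules} (hG : IsFormal I G) :
    IsFormal I (G ⋙ Scheme.Modules.pushforward f) where
  killed n := pushforward_killedBy hf (hG.killed n)
  succ n := pushforward_isModPow h hf (hG.killed (n + 1)) (hG.succ n)

end Equiv

end Groth.Agent.FormalB.KilledEquiv
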