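import Groth.Agent.LoccohA.LES

/-!
# Naturality of the connecting maps of local cohomology
-/

set_option autoImplicit false
universe u

open CategoryTheory

namespace Groth.Agent.FormalB.LESNat

open Groth.Agent.LoccohA.LES Groth.Agent.LoccohA Groth.Agent.LoccohA.LCTColim
  Groth.Agent.LoccohA.LCTBase

variable {A : Type u} [CommRing A] (I : Ideal A)

/-- The connecting map of local cohomology, with its formula on the colimit of the `Ext` groups. -/
theorem exists_exact_formula (i : ℕ) {M₁ M₂ M₃ : Type u} [AddCommGroup M₁] [Module A M₁]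
    [AddCommGroup M₂] [Module A M₂] [AddCommGroup M₃] [Module A M₃] (f : M₁ →ₗ[A] M₂)
    (g : M₂ →ₗ[A] M₃) (w : ModuleCat.ofHom f ≫ ModuleCat.ofHom g = 0)
    (hS : (ShortComplex.mk (ModuleCat.ofHom f) (ModuleCat.ofHom g) w).ShortExact) :
    ∃ δ : LocCoh.H I i M₃ →ₗ[A] LocCoh.H I (i + 1) M₁,
      (∀ (k : ℕᵒᵖᵒᵖ) (x : Abelian.Ext.{u} (qm I k) (ModuleCat.of A M₃) i),
        δ (toH I i M₃ k x) = toH I (i + 1) M₁ k (x.comp hS.extClass rfl)) ∧
      Function.Exact (hmap I i g) δ ∧ Function.Exact δ (hmap I (i + 1) f) := by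
  obtain ⟨δ, hδ⟩ := exists_desc I i M₃ (P := LocCoh.H I (i + 1) M₁)
    (fun k => toH I (i + 1) M₁ k ∘ₗ
      ((Abelian.Ext.bilinearCompOfLinear A (qm I k) (ModuleCat.of A M₃) (ModuleCat.of A M₁)
        i 1 (i + 1) rfl).flip hS.extClass)) (by
      intro k k' φ x
      change toH I (i + 1) M₁ k' (((Abelian.Ext.mk₀ (prk I φ)).comp x (zero_add i)).comp
        hS.extClass rfl) = toH I (i + 1) M₁ k (x.comp hS.extClass rfl)
      rw [Abelian.Ext.comp_assoc (Abelian.Ext.mk₀ (prk I φ)) x hS.extClass (zero_add i) rfl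
        (by omega), toH_compat])
  replace hδ : ∀ k (x : Abelian.Ext.{u} (qm I k) (ModuleCat.of A M₃) i),
      δ (toH I i M₃ k x) = toH I (i + 1) M₁ k (x.comp hS.extClass rfl) := hδ
  refine ⟨δ, hδ, ?_, ?_⟩
  · intro h
    constructor
    · intro h0
      obtain ⟨k, x, rfl⟩ := toH_surj I i M₃ h
      rw [hδ] at h0
      obtain ⟨k', φ, hφ⟩ := toH_eq_zero I (i + 1) M₁ k _ h0
      rw [← Abelian.Ext.comp_assoc (Abelian.Ext.mk₀ (prk I φ)) x hS.extClass (zero_add i) rfl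
        (by omega)] at hφ
      obtain ⟨y, hy⟩ := Abelian.Ext.covariant_sequence_exact₃ _ hS _ rfl hφ
      refine ⟨toH I i M₂ k' y, ?_⟩
      rw [hmap_toH, ← toH_compat I i M₃ φ x, ← hy]
    · rintro ⟨h', rfl⟩
      obtain ⟨k, x, rfl⟩ := toH_surj I i M₂ h'
      rw [hmap_toH, hδ, Abelian.Ext.comp_assoc x (Abelian.Ext.mk₀ (ModuleCat.ofHom g)) hS.extClass
        (add_zero i) (zero_add 1) (by omega)]
      have h1 : (Abelian.Ext.mk₀ (ModuleCat.ofHom g)).comp hS.extClass (zero_add 1) = 0 :=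
        hS.comp_extClass
      rw [h1, Abelian.Ext.comp_zero, map_zero]
  · intro h
    constructor
    · intro h0
      obtain ⟨k, x, rfl⟩ := toH_surj I (i + 1) M₁ h
      rw [hmap_toH] at h0
      obtain ⟨k', φ, hφ⟩ := toH_eq_zero I (i + 1) M₂ k _ h0
      rw [← Abelian.Ext.comp_assoc (Abelian.Ext.mk₀ (prk I φ)) x
        (Abelian.Ext.mk₀ (ModuleCat.ofHom f)) (zero_add _) (add_zero _) (by omega)] at hφ
      obtain ⟨y, hy⟩ := Abelian.Ext.covariant_sequence_exact₁ _ hS _ hφ rfl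
      refine ⟨toH I i M₃ k' y, ?_⟩
      rw [hδ, ← toH_compat I (i + 1) M₁ φ x, ← hy]
    · rintro ⟨h', rfl⟩
      obtain ⟨k, x, rfl⟩ := toH_surj I i M₃ h'
      rw [hδ, hmap_toH, Abelian.Ext.comp_assoc x hS.extClass (Abelian.Ext.mk₀ (ModuleCat.ofHom f))
        rfl (add_zero 1) (by omega)]
      have h1 : hS.extClass.comp (Abelian.Ext.mk₀ (ModuleCat.ofHom f)) (add_zero 1) = 0 :=
        hS.extClass_comp
      rw [h1, Abelian.Ext.comp_zero, map_zero]

/-- Connecting maps for two short exact sequences, natural for a given map between them. -/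
theorem exists_exact_natural (i : ℕ) {M₁ M₂ M₃ N₁ N₂ N₃ : Type u} [AddCommGroup M₁] [Module A M₁]
    [AddCommGroup M₂] [Module A M₂] [AddCommGroup M₃] [Module A M₃]
    [AddCommGroup N₁] [Module A N₁]
    [AddCommGroup N₂] [Module A N₂] [AddCommGroup N₃] [Module A N₃]
    (f : M₁ →ₗ[A] M₂) (g : M₂ →ₗ[A] M₃) (hf : Function.Injective f) (hfg : Function.Exact f g)
    (hg : Function.Surjective g)
    (f' : N₁ →ₗ[A] N₂) (g' : N₂ →ₗ[A] N₃) (hf' : Function.Injective f') (hfg' : Function.Exact f' g')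
    (hg' : Function.Surjective g')
    (a : M₁ →ₗ[A] N₁) (b : M₂ →ₗ[A] N₂) (c : M₃ →ₗ[A] N₃)
    (h1 : b ∘ₗ f = f' ∘ₗ a) (h2 : c ∘ₗ g = g' ∘ₗ b) :
    ∃ (δ : LocCoh.H I i M₃ →ₗ[A] LocCoh.H I (i + 1) M₁)
      (δ' : LocCoh.H I i N₃ →ₗ[A] LocCoh.H I (i + 1) N₁),
      (∀ x, δ' (hmap I i c x) = hmap I (i + 1) a (δ x)) ∧
      Function.Exact (hmap I i g) δ ∧ Function.Exact δ (hmap I (i + 1) f) ∧
      Function.Exact (hmap I i g') δ' ∧ Function.Exact δ' (hmap I (i + 1) f') := by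
  have w : ModuleCat.ofHom f ≫ ModuleCat.ofHom g = 0 := by
    rw [← ModuleCat.ofHom_comp, hfg.linearMap_comp_eq_zero]
    rfl
  have w' : ModuleCat.ofHom f' ≫ ModuleCat.ofHom g' = 0 := by
    rw [← ModuleCat.ofHom_comp, hfg'.linearMap_comp_eq_zero]
    rfl
  have hS : (ShortComplex.mk (ModuleCat.ofHom f) (ModuleCat.ofHom g) w).ShortExact :=
    { exact := (ShortComplex.ShortExact.moduleCat_exact_iff_function_exact _).mpr hfg
      mono_f := (ModuleCat.mono_iff_injective _).mpr hf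
      epi_g := (ModuleCat.epi_iff_surjective _).mpr hg }
  have hS' : (ShortComplex.mk (ModuleCat.ofHom f') (ModuleCat.ofHom g') w').ShortExact :=
    { exact := (ShortComplex.ShortExact.moduleCat_exact_iff_function_exact _).mpr hfg'
      mono_f := (ModuleCat.mono_iff_injective _).mpr hf'
      epi_g := (ModuleCat.epi_iff_surjective _).mpr hg' }
  obtain ⟨δ, hδ, e1, e2⟩ := exists_exact_formula I i f g w hS
  obtain ⟨δ', hδ', e1', e2'⟩ := exists_exact_formula I i f' g' w' hS'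
  refine ⟨δ, δ', ?_, e1, e2, e1', e2'⟩
  intro x
  obtain ⟨k, x, rfl⟩ := toH_surj I i M₃ x
  let φ : ShortComplex.mk (ModuleCat.ofHom f) (ModuleCat.ofHom g) w ⟶
      ShortComplex.mk (ModuleCat.ofHom f') (ModuleCat.ofHom g') w' :=
    { τ₁ := ModuleCat.ofHom a
      τ₂ := ModuleCat.ofHom b
      τ₃ := ModuleCat.ofHom c
      comm₁₂ := by
        change ModuleCat.ofHom a ≫ ModuleCat.ofHom f' = ModuleCat.ofHom f ≫ ModuleCat.ofHom b
        rw [← ModuleCat.ofHom_comp, ← ModuleCat.ofHom_comp, h1]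
      comm₂₃ := by
        change ModuleCat.ofHom b ≫ ModuleCat.ofHom g' = ModuleCat.ofHom g ≫ ModuleCat.ofHom c
        rw [← ModuleCat.ofHom_comp, ← ModuleCat.ofHom_comp, h2] }
  have key := ShortComplex.ShortExact.extClass_naturality hS hS' φ
  rw [hmap_toH, hδ, hδ', hmap_toH]
  congr 1
  rw [Abelian.Ext.comp_assoc x (Abelian.Ext.mk₀ (ModuleCat.ofHom c)) hS'.extClass
    (add_zero i) (zero_add 1) (by omega),
    Abelian.Ext.comp_assoc x hS.extClass (Abelian.Ext.mk₀ (ModuleCat.ofHom a))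
      rfl (add_zero 1) (by omega)]
  exact congrArg (fun t => x.comp t rfl) key.symm

end Groth.Agent.FormalB.LESNat
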