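import Groth.Prelude.Def_Formal2
import Groth.Agent.FormalB.SysSect
import Groth.Agent.FormalB.ModPow
import Groth.Agent.FormalB.ModPowAff
import Mathlib.AlgebraicGeometry.Noetherian

/-!
# Sections of the limit of a quasi-coherent formal system over affine opens

`X` over `Spec A`, `I` an ideal of `A`, `G` a quasi-coherent formal system.  Over an affine open `U` such that the
ideal `I Γ(X, U)` is finitely generated (e.g. `X` locally Noetherian), the projection
`Γ(lim G, U) → Γ(G_n, U)` is surjective with kernel `I^(n+1) Γ(lim G, U)`.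
-/

set_option autoImplicit false
universe w u

open CategoryTheory CategoryTheory.Limits AlgebraicGeometry Opposite TopologicalSpace

namespace Groth.Agent.FormalB.LimAff

open ModPowAff

variable {A : Type u} [CommRing A] {I : Ideal A} {X : Scheme.{u}}
    [X.Over (Spec (CommRingCat.of A))] {G : ℕᵒᵖ ⥤ X.Modules}

/-- Transition maps on sections over `U`, as `Γ(X, U)`-linear maps. -/
noncomputable def transL (G : ℕᵒᵖ ⥤ X.Modules) (U : X.Opens) (k : ℕ) :
    Γ(G.obj (op (k + 1)), U) →ₗ[Γ(X, U)] Γ(G.obj (op k), U) :=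
  { toFun := (G.map (homOfLE (Nat.le_succ k)).op).app U
    map_add' := map_add _
    map_smul' := fun a m => (G.map (homOfLE (Nat.le_succ k)).op).app_smul a m }

/-- A map of modules on sections over `U`, as a `Γ(X, U)`-linear map. -/
noncomputable def appL {M N : X.Modules} (φ : M ⟶ N) (U : X.Opens) : Γ(M, U) →ₗ[Γ(X, U)] Γ(N, U) :=
  { toFun := φ.app U
    map_add' := map_add _
    map_smul' := fun a m => φ.app_smul a m }

theorem isModPow_succ (hG : Formal2.IsQCohFormal I G) (k : ℕ) :
    ModPow.IsModPow (I ^ (k + 1)) (G.map (homOfLE (Nat.le_succ k)).op) :=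
  (ModPow.isModPow_iff _).2 (hG.2.2 k)

theorem surjective_transL (hG : Formal2.IsQCohFormal I G) {U : X.Opens} (hU : IsAffineOpen U) (k : ℕ) :
    Function.Surjective (transL G U k) :=
  IsModPow.app_surjective (hG.1 (k + 1)) (isModPow_succ hG k) hU

theorem ker_transL (hG : Formal2.IsQCohFormal I G) {U : X.Opens} (hU : IsAffineOpen U) (k : ℕ) :
    LinearMap.ker (transL G U k) =
      (I.map (toΓ A X U)) ^ (k + 1) • (⊤ : Submodule Γ(X, U) Γ(G.obj (op (k + 1)), U)) := by
  ext m
  exact IsModPow.pow_app_eq_zero_iff (hG.1 (k + 1)) (isModPow_succ hG k) hU m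

theorem mem_lim_π (U : X.Opens) (s : Γ(limit G, U)) :
    (fun k => (limit.π G (op k)).app U s) ∈ LimSys.lim (fun k => Γ(G.obj (op k), U)) (transL G U) := by
  intro k
  have := limit.w G (homOfLE (Nat.le_succ k)).op
  exact congr(($this).app U s)

/-- Projections from the limit are surjective over affine opens. -/
theorem π_app_surjective (hG : Formal2.IsQCohFormal I G) {U : X.Opens} (hU : IsAffineOpen U) (n : ℕ) :
    Function.Surjective ((limit.π G (op n)).app U) := by
  intro m
  obtain ⟨x, hx, hm⟩ := LimSys.exists_lift n (fun k => Γ(G.obj (op k), U)) (transL G U)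
    (fun k => surjective_transL hG hU k) m
  obtain ⟨y, hy⟩ := SysSect.exists_limit_section G U x hx
  exact ⟨y, (hy n).trans hm⟩

/-- Kernels of the projections from the limit over affine opens. -/
theorem π_app_eq_zero_iff (hG : Formal2.IsQCohFormal I G) {U : X.Opens} (hU : IsAffineOpen U)
    (hI : (I.map (toΓ A X U)).FG) (n : ℕ) (s : Γ(limit G, U)) :
    (limit.π G (op n)).app U s = 0 ↔
      s ∈ (I.map (toΓ A X U)) ^ (n + 1) • (⊤ : Submodule Γ(X, U) Γ(limit G, U)) := by
  constructor
  · intro hs
    obtain ⟨r, g, hg⟩ := Submodule.fg_iff_exists_fin_generating_family.mp (Ideal.FG.pow (n := n + 1) hI)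
    have hg' : Ideal.span (Set.range g) = (I.map (toΓ A X U)) ^ (n + 1) := hg
    have hgm : ∀ j, g j ∈ (I.map (toΓ A X U)) ^ (n + 1) := fun j => hg' ▸ Ideal.subset_span ⟨j, rfl⟩
    obtain ⟨y, hy, hxy⟩ := LimSys.mem_smul_lim (I.map (toΓ A X U)) (M := fun k => Γ(G.obj (op k), U))
      (f := transL G U) (fun k => surjective_transL hG hU k) (fun k => ker_transL hG hU k) g hg'
      (fun k => (limit.π G (op k)).app U s) (mem_lim_π U s) hs
    have hz : ∀ j, ∃ z : Γ(limit G, U), ∀ k, (limit.π G (op k)).app U z = y j k := fun j =>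
      SysSect.exists_limit_section G U (y j) (hy j)
    choose z hz using hz
    have key : s = ∑ j, g j • z j := by
      apply SysSect.limit_section_ext
      intro k
      rw [map_sum]
      refine (congr_fun hxy k).trans ?_
      rw [Finset.sum_apply]
      refine Finset.sum_congr rfl fun j _ => ?_
      rw [Scheme.Modules.Hom.app_smul, hz]
      rfl
    rw [key]
    exact Submodule.sum_mem _ fun j _ => Submodule.smul_mem_smul (hgm j) Submodule.mem_top
  · intro hs
    have h1 : (I.map (toΓ A X U)) ^ (n + 1) • (⊤ : Submodule Γ(X, U) Γ(limit G, U)) ≤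
        LinearMap.ker (appL (limit.π G (op n)) U) := by
      rw [← Ideal.map_pow, Submodule.smul_le]
      intro b hb m _
      refine Submodule.span_induction (p := fun b _ => b • m ∈ LinearMap.ker (appL (limit.π G (op n)) U))
        ?_ ?_ ?_ ?_ hb
      · rintro _ ⟨a, ha, rfl⟩
        have h2 := ModPow.smulMod_naturality (limit.π G (op n)) a
        rw [hG.2.1 n a ha, comp_zero] at h2
        exact congr(($h2).app U m)
      · rw [zero_smul]
        exact Submodule.zero_mem _
      · intro x y _ _ hx hy
        rw [add_smul]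
        exact Submodule.add_mem _ hx hy
      · intro c x _ hx
        rw [smul_assoc]
        exact Submodule.smul_mem _ _ hx
    exact h1 hs

/-- The projection from the limit identifies `G_n` with `lim G / I^(n+1) lim G`, for any `X` on which `I` generates
finitely generated ideals over affine opens. -/
theorem isModPow_π (hG : Formal2.IsQCohFormal I G)
    (hI : ∀ U : X.Opens, IsAffineOpen U → (I.map (toΓ A X U)).FG) (n : ℕ) :
    ModPow.IsModPow (I ^ (n + 1)) (limit.π G (op n)) := by
  refine ⟨SysSect.epi_of_affine _ fun U hU => π_app_surjective hG hU n, fun a ha => ?_, fun {Z} φ hφ => ?_⟩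
  · rw [ModPow.smulMod_naturality, hG.2.1 n a ha, comp_zero]
  · refine SysSect.exists_factor_of_affine (limit.π G (op n))
      (fun a : ↥(I ^ (n + 1)) => Formal.smulMod A (limit G) (a : A))
      (fun U hU => π_app_surjective hG hU n) (fun U hU m hm => ?_) φ (fun a => hφ a a.2)
    have h1 := (π_app_eq_zero_iff hG hU (hI U hU) n m).1 hm
    rw [← Ideal.map_pow] at h1
    refine Submodule.smul_induction_on (p := fun m => m ∈ AddSubgroup.closure {x : Γ(limit G, U) |
      ∃ (a : ↥(I ^ (n + 1))) (m' : Γ(limit G, U)), (Formal.smulMod A (limit G) (a : A)).app U m' = x}) h1 ?_ ?_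
    · intro b hb m _
      refine Submodule.span_induction (p := fun b _ => ∀ m : Γ(limit G, U),
        b • m ∈ AddSubgroup.closure {x : Γ(limit G, U) |
          ∃ (a : ↥(I ^ (n + 1))) (m' : Γ(limit G, U)), (Formal.smulMod A (limit G) (a : A)).app U m' = x})
        ?_ ?_ ?_ ?_ hb m
      · rintro _ ⟨a, ha, rfl⟩ m
        exact AddSubgroup.subset_closure ⟨⟨a, ha⟩, m, rfl⟩
      · intro m
        rw [zero_smul]
        exact AddSubgroup.zero_mem _
      · intro x y _ _ hx hy m
        rw [add_smul]
        exact AddSubgroup.add_mem _ (hx m) (hy m)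
      · intro c x _ hx m
        rw [smul_eq_mul, mul_comm, mul_smul]
        exact hx _
    · intro x y hx hy
      exact AddSubgroup.add_mem _ hx hy

/-- The completion of `lim G` is `G`. -/
noncomputable def completionLimitIso (hG : Formal2.IsQCohFormal I G)
    (hI : ∀ U : X.Opens, IsAffineOpen U → (I.map (toΓ A X U)).FG) :
    Formal.completion I (limit G) ≅ G :=
  ModPow.completionIso I (fun n => limit.π G (op n)) (isModPow_π hG hI)
    (fun n => limit.w G (homOfLE (Nat.le_succ n)).op)

@[reassoc (attr := simp)]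
theorem cπ_completionLimitIso_hom (hG : Formal2.IsQCohFormal I G)
    (hI : ∀ U : X.Opens, IsAffineOpen U → (I.map (toΓ A X U)).FG) (n : ℕ) :
    ModPow.cπ I (limit G) n ≫ (completionLimitIso hG hI).hom.app (op n) = limit.π G (op n) :=
  ModPow.cπ_completionIso_hom I _ _ _ n

theorem fg_of_isLocallyNoetherian [IsLocallyNoetherian X] (I : Ideal A) (U : X.Opens) (hU : IsAffineOpen U) :
    (I.map (toΓ A X U)).FG := by
  have : IsNoetherianRing Γ(X, U) := IsLocallyNoetherian.component_noetherian ⟨U, hU⟩
  exact IsNoetherian.noetherian _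

theorem isQCohFormal_of_isCohFormal (hG : Formal.IsCohFormal I G) : Formal2.IsQCohFormal I G :=
  ⟨fun n => (hG.1 n).1, hG.2.1, hG.2.2⟩

end Groth.Agent.FormalB.LimAff
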