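/-
Computing old-style `Ext` by projective resolutions (naturality), representing classes by cocycles, and the
vanishing of classes in the colimit defining `localCohomology`.
-/
import Mathlib.CategoryTheory.Abelian.Ext
import Mathlib.Algebra.Homology.LocalCohomology
import Mathlib.Algebra.Homology.ShortComplex.ModuleCat
import Mathlib.Algebra.Category.ModuleCat.FilteredColimits
import Mathlib.CategoryTheory.Limits.Preserves.Filtered

set_option autoImplicit false
universe u

namespace Groth.Agent.FormalB.LocCohCol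

section Prelims
open CategoryTheory Limits Opposite

section
variable {R : Type*} [Ring R] {C : Type*} [Category C] [Abelian C] [Linear R C] 

noncomputable def linMap {X X' : ChainComplex C ℕ} (φ : X' ⟶ X) (Y : C) :
    X.linearYonedaObj R Y ⟶ X'.linearYonedaObj R Y :=
  (HomologicalComplex.unopFunctor _ _).map
    ((((linearYoneda R C).obj Y).rightOp.mapHomologicalComplex _).map φ).op

theorem linMap_f {X X' : ChainComplex C ℕ} (φ : X' ⟶ X) (Y : C) (i : ℕ) (x : X.X i ⟶ Y) :
    ((linMap (R := R) φ Y).f i).hom x = φ.f i ≫ x := rfl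

theorem iso_square_aux {C : Type*} [Category C] {X Y Z W : C} (e : X ≅ Y) (e' : Z ≅ W) (A : X ⟶ Z) (M : Y ⟶ W) 
    (h : e.inv ≫ A = M ≫ e'.inv) : A ≫ e'.hom = e.hom ≫ M := by
  rw [← cancel_epi e.inv, ← Category.assoc, h, Category.assoc, Iso.inv_hom_id, Category.comp_id, Iso.inv_hom_id_assoc]

variable [EnoughProjectives C]

set_option backward.isDefEq.respectTransparency false in
theorem isoExt_naturality {X X' : C} (f : X' ⟶ X) (P' : ProjectiveResolution X') (P : ProjectiveResolution X)
    (φ : P'.complex ⟶ P.complex) (comm : φ.f 0 ≫ P.π.f 0 = P'.π.f 0 ≫ f) (Y : C) (n : ℕ) :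
    ((Ext R C n).map f.op).app Y ≫ (P'.isoExt n Y).hom =
      (P.isoExt n Y).hom ≫ HomologicalComplex.homologyMap (linMap φ Y) n := by
  have h1 := congrArg Quiver.Hom.unop (ProjectiveResolution.isoLeftDerivedObj_inv_naturality f P' P φ comm
    ((linearYoneda R C).obj Y).rightOp n)
  have h2 := congrArg Quiver.Hom.unop (HomologicalComplex.homologyOp_hom_naturality (linMap (R := R) φ Y) n)
  have e1 : ((Ext R C n).map f.op).app Y = ((((linearYoneda R C).obj Y).rightOp.leftDerived n).map f).unop := rfl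
  have e2 : ∀ {X : C} (P : ProjectiveResolution X), (P.isoExt n Y).hom = 
    (P.isoLeftDerivedObj ((linearYoneda R C).obj Y).rightOp n).inv.unop ≫ 
      ((P.complex.linearYonedaObj R Y).homologyOp n).inv.unop := fun _ => rfl
  rw [e1, e2, e2, unop_comp, unop_comp] at *
  rw [← Category.assoc, h1, Category.assoc, Category.assoc]
  congr 1
  exact iso_square_aux ((P.complex.linearYonedaObj R Y).homologyOp n).unop.symm ((P'.complex.linearYonedaObj R Y).homologyOp n).unop.symm 
    _ _ h2

end

section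
variable {R : Type u} [Ring R]

theorem exists_cycle (K : CochainComplex (ModuleCat.{u} R) ℕ) (n : ℕ) (z : K.X n) 
    (hz : (K.d n (n+1)).hom z = 0) :
    ∃ c : K.cycles n, (K.iCycles n).hom c = z := by
  have h : (ShortComplex.mk (K.iCycles n) (K.d n (n+1)) (by simp)).Exact := 
    ShortComplex.exact_of_f_is_kernel _ (K.cyclesIsKernel n (n+1) (by simp))
  rw [ShortComplex.moduleCat_exact_iff] at h
  exact h z hz

theorem exists_of_homologyπ_eq_zero (K : CochainComplex (ModuleCat.{u} R) ℕ) (n : ℕ) (z : K.cycles (n+1)) 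
    (hz : (K.homologyπ (n+1)).hom z = 0) :
    ∃ w : K.X n, (K.d n (n+1)).hom w = (K.iCycles (n+1)).hom z := by
  have h : (ShortComplex.mk (K.toCycles n (n+1)) (K.homologyπ (n+1)) (by simp)).Exact := 
    ShortComplex.exact_of_g_is_cokernel _ (K.homologyIsCokernel n (n+1) (by simp))
  rw [ShortComplex.moduleCat_exact_iff] at h
  obtain ⟨w, hw⟩ := h z hz
  refine ⟨w, ?_⟩
  rw [← hw, ← K.toCycles_i]
  rfl

end

section
variable {A : Type u} [CommRing A]

theorem colim_zero' {D : ℕᵒᵖᵒᵖ ⥤ ModuleCat.{u} A ⥤ ModuleCat.{u} A} (K : ModuleCat.{u} A) 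
    (h : Subsingleton ((colimit D).obj K)) (m : ℕ) (x : ((D.obj (op (op m))).obj K)) :
    ∃ (k : ℕᵒᵖᵒᵖ) (f : op (op m) ⟶ k), ((D.map f).app K).hom x = 0 := by
  let e := colimitObjIsoColimitCompEvaluation D K
  let E := D ⋙ (evaluation _ _).obj K
  let x' : E.obj (op (op m)) := x
  have h2 : (ConcreteCategory.hom (colimit.ι E (op (op m)))) x' = 
      (ConcreteCategory.hom (colimit.ι E (op (op m)))) 0 := by
    have : Subsingleton (↑(colimit E)) := 
      e.symm.toLinearEquiv.toEquiv.subsingleton
    exact Subsingleton.elim _ _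
  have : PreservesFilteredColimitsOfSize.{0, 0} (forget (ModuleCat.{u} A)) := 
    preservesFilteredColimitsOfSize_shrink.{0, u, 0, u} _
  obtain ⟨k, f, g, hfg⟩ := Concrete.colimit_exists_of_rep_eq E x' 0 h2
  refine ⟨k, f, ?_⟩
  have h3 : (E.map f).hom x' = 0 := by
    refine hfg.trans ?_
    exact map_zero (E.map g).hom
  exact h3

theorem colim_zero (J : Ideal A) (i : ℕ) (K : ModuleCat.{u} A) 
    (h : Subsingleton ((localCohomology J i).obj K)) (m : ℕ) 
    (x : ((Ext A (ModuleCat.{u} A) i).obj (op (ModuleCat.of A (A ⧸ (J ^ m))))).obj K) :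
    ∃ (m' : ℕ) (hm : m ≤ m'), 
      ((((Ext A (ModuleCat.{u} A) i).map (ModuleCat.ofHom (Submodule.mapQ (J ^ m') (J ^ m) LinearMap.id 
        (Ideal.pow_le_pow_right hm))).op).app K).hom x) = 0 := by
  obtain ⟨k, f, hf⟩ := colim_zero' (D := localCohomology.diagram (localCohomology.idealPowersDiagram J) i) K h m x
  exact ⟨k.unop.unop, f.unop.unop.le, hf⟩

end

end Prelims

end Groth.Agent.FormalB.LocCohCol
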