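import Groth.Agent.FormalB.ExtProd2
import Groth.Prelude.Def_Formal2

/-!
# The Milnor exact sequence for Ext into an inverse limit
-/

universe w v u

open CategoryTheory CategoryTheory.Limits CategoryTheory.Abelian

namespace Groth.Agent.FormalB.Milnor

open Groth.Agent.FormalB.ExtProd

variable {C : Type u} [Category.{v} C] [Abelian C] [HasExt.{w} C]

/-- The map induced on `Ext^n(E, -)` by a morphism. -/
noncomputable abbrev extMap (E : C) {A B : C} (f : A ⟶ B) (n : ℕ) : Ext E A n →+ Ext E B n :=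
  (Ext.mk₀ f).postcomp E (add_zero n)

/-- If `G` is a tower, `P` its product, `0 → L → P → P → 0` exact (with second map `1 - shift`), and
`Ext^n(E, P) = ∏ Ext^n(E, G k)` for all `n`, then `Ext^{n+1}(E, L)` is an extension of the limit of the
`Ext^{n+1}(E, G k)` by the `lim¹` of the `Ext^n(E, G k)`. -/
theorem milnor_of_shortExact (E : C) (G : ℕ → C) (t : ∀ n, G (n + 1) ⟶ G n) {L P : C}
    (a : ∀ n, L ⟶ G n) (p : ∀ n, P ⟶ G n) (d : P ⟶ P) (hd : ∀ n, d ≫ p n = p n - p (n + 1) ≫ t n)
    (l : L ⟶ P) (hl : ∀ n, l ≫ p n = a n) (w : l ≫ d = 0)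
    (hS : (ShortComplex.mk l d w).ShortExact) (n : ℕ)
    (hb₀ : Function.Bijective (extPi E p n)) (hb₁ : Function.Bijective (extPi E p (n + 1))) :
    ∃ (α : Formal2.limOne (fun k => Ext E (G k) n) (fun k => extMap E (t k) n) →+ Ext E L (n + 1))
      (β : Ext E L (n + 1) →+
        Formal2.limZero (fun k => Ext E (G k) (n + 1)) (fun k => extMap E (t k) (n + 1))),
      Function.Injective α ∧ Function.Surjective β ∧ α.range = β.ker ∧
      ∀ (x : Ext E L (n + 1)) (k : ℕ), (β x : ∀ k, Ext E (G k) (n + 1)) k = extMap E (a k) (n + 1) x := by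
  have hdiff : ∀ (m : ℕ) (x : Ext E P m), extPi E p m (x.comp (Ext.mk₀ d) (add_zero m)) =
      Formal2.towerDiff (fun k => Ext E (G k) m) (fun k => extMap E (t k) m) (extPi E p m x) := by
    intro m x
    funext k
    change (x.comp (Ext.mk₀ d) (add_zero m)).comp (Ext.mk₀ (p k)) (add_zero m) =
      x.comp (Ext.mk₀ (p k)) (add_zero m) -
        (x.comp (Ext.mk₀ (p (k + 1))) (add_zero m)).comp (Ext.mk₀ (t k)) (add_zero m)
    rw [Ext.comp_assoc_of_third_deg_zero, Ext.comp_assoc_of_third_deg_zero, Ext.mk₀_comp_mk₀,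
      Ext.mk₀_comp_mk₀, hd, sub_eq_add_neg, Ext.mk₀_add, Ext.mk₀_neg, Ext.comp_add, Ext.comp_neg,
      ← sub_eq_add_neg]
  -- the inverse of the comparison isomorphism in degree `n`
  let e : Ext E P n ≃+ ∀ k, Ext E (G k) n := AddEquiv.ofBijective (extPi E p n) hb₀
  let δ : Ext E P n →+ Ext E L (n + 1) := hS.extClass.postcomp E rfl
  let α₀ : (∀ k, Ext E (G k) n) →+ Ext E L (n + 1) := δ.comp e.symm.toAddMonoidHom
  have hα₀ : ∀ x : Ext E P n, α₀ (extPi E p n x) = x.comp hS.extClass rfl := by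
    intro x
    change (e.symm (e x)).comp hS.extClass rfl = _
    rw [AddEquiv.symm_apply_apply]
  have hker : (Formal2.towerDiff (fun k => Ext E (G k) n) (fun k => extMap E (t k) n)).range ≤
      α₀.ker := by
    rintro _ ⟨y, rfl⟩
    obtain ⟨x, rfl⟩ := hb₀.surjective y
    rw [AddMonoidHom.mem_ker, ← hdiff, hα₀]
    have := hS.comp_extClass
    change (x.comp (Ext.mk₀ d) (add_zero n)).comp hS.extClass rfl = 0
    rw [Ext.comp_assoc_of_second_deg_zero]
    change x.comp ((Ext.mk₀ (ShortComplex.mk l d w).g).comp hS.extClass (zero_add 1)) rfl = 0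
    rw [this, Ext.comp_zero]
  let α : Formal2.limOne (fun k => Ext E (G k) n) (fun k => extMap E (t k) n) →+ Ext E L (n + 1) :=
    QuotientAddGroup.lift _ α₀ hker
  have hβmem : ∀ x : Ext E L (n + 1), (fun k => extMap E (a k) (n + 1) x) ∈
      Formal2.limZero (fun k => Ext E (G k) (n + 1)) (fun k => extMap E (t k) (n + 1)) := by
    intro x
    rw [AddMonoidHom.mem_ker]
    have h1 : (fun k => extMap E (a k) (n + 1) x) =
        extPi E p (n + 1) (x.comp (Ext.mk₀ l) (add_zero _)) := by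
      funext k
      rw [extPi_apply, Ext.comp_assoc_of_third_deg_zero, Ext.mk₀_comp_mk₀, hl]
      rfl
    rw [h1, ← hdiff, Ext.comp_assoc_of_third_deg_zero, Ext.mk₀_comp_mk₀, w, Ext.mk₀_zero,
      Ext.comp_zero, map_zero]
  let β : Ext E L (n + 1) →+
      Formal2.limZero (fun k => Ext E (G k) (n + 1)) (fun k => extMap E (t k) (n + 1)) :=
    { toFun := fun x => ⟨fun k => extMap E (a k) (n + 1) x, hβmem x⟩
      map_zero' := by
        apply Subtype.ext
        funext k
        simp
      map_add' := fun x y => by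
        apply Subtype.ext
        funext k
        simp }
  have hβl : ∀ x : Ext E L (n + 1), (β x : ∀ k, Ext E (G k) (n + 1)) =
      extPi E p (n + 1) (x.comp (Ext.mk₀ l) (add_zero _)) := by
    intro x
    funext k
    rw [extPi_apply, Ext.comp_assoc_of_third_deg_zero, Ext.mk₀_comp_mk₀, hl]
    rfl
  refine ⟨α, β, ?_, ?_, ?_, fun x k => rfl⟩
  · rw [injective_iff_map_eq_zero]
    intro q hq
    obtain ⟨y, rfl⟩ := QuotientAddGroup.mk_surjective q
    obtain ⟨x, rfl⟩ := hb₀.surjective y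
    have hq' : x.comp hS.extClass rfl = 0 := by
      rw [← hα₀]
      exact hq
    obtain ⟨z, hz⟩ := Ext.covariant_sequence_exact₃ E hS x rfl hq'
    rw [QuotientAddGroup.eq_zero_iff]
    refine ⟨extPi E p n z, ?_⟩
    rw [← hdiff]
    exact congrArg _ hz
  · rintro ⟨y, hy⟩
    obtain ⟨x, rfl⟩ := hb₁.surjective y
    rw [AddMonoidHom.mem_ker, ← hdiff] at hy
    have hy' : x.comp (Ext.mk₀ d) (add_zero _) = 0 := hb₁.injective (hy.trans (map_zero _).symm)
    obtain ⟨z, hz⟩ := Ext.covariant_sequence_exact₂ E hS x hy'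
    refine ⟨z, Subtype.ext ?_⟩
    rw [hβl]
    exact congrArg _ hz
  · ext x
    constructor
    · rintro ⟨q, rfl⟩
      obtain ⟨y, rfl⟩ := QuotientAddGroup.mk_surjective q
      obtain ⟨z, rfl⟩ := hb₀.surjective y
      rw [AddMonoidHom.mem_ker]
      apply Subtype.ext
      rw [hβl]
      change extPi E p (n + 1) ((α₀ (extPi E p n z)).comp (Ext.mk₀ l) (add_zero _)) = 0
      rw [hα₀]
      have := hS.extClass_comp
      have h2 : (z.comp hS.extClass rfl).comp (Ext.mk₀ l) (add_zero (n + 1)) = 0 := by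
        rw [Ext.comp_assoc_of_third_deg_zero]
        change z.comp (hS.extClass.comp (Ext.mk₀ (ShortComplex.mk l d w).f) (add_zero 1)) rfl = 0
        rw [this, Ext.comp_zero]
      rw [h2, map_zero]
    · intro hx
      rw [AddMonoidHom.mem_ker] at hx
      have h1 : extPi E p (n + 1) (x.comp (Ext.mk₀ l) (add_zero _)) = 0 := by
        rw [← hβl, hx]
        rfl
      have h2 : x.comp (Ext.mk₀ l) (add_zero _) = 0 := hb₁.injective (h1.trans (map_zero _).symm)
      obtain ⟨z, hz⟩ := Ext.covariant_sequence_exact₁ E hS x h2 rfl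
      refine ⟨QuotientAddGroup.mk (extPi E p n z), ?_⟩
      change α₀ (extPi E p n z) = x
      rw [hα₀, hz]

end Groth.Agent.FormalB.Milnor
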