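import Groth.Agent.FormalB.Milnor
import Mathlib.CategoryTheory.Functor.OfSequence

/-!
# The Milnor exact sequence for towers that are surjective and acyclic on a separating class
-/

universe w v u

open CategoryTheory CategoryTheory.Limits CategoryTheory.Abelian Opposite

namespace Groth.Agent.FormalB.Milnor

open Groth.Agent.FormalB.ExtProd

variable {C : Type u} [Category.{v} C]

/-- The transition map of a tower. -/
abbrev tr (G : ℕᵒᵖ ⥤ C) (n : ℕ) : G.obj (op (n + 1)) ⟶ G.obj (op n) :=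
  G.map (homOfLE (Nat.le_succ n)).op

/-- A cone over a tower from compatible maps. -/
def coneMk (G : ℕᵒᵖ ⥤ C) (W : C) (z : ∀ n, W ⟶ G.obj (op n)) (hz : ∀ n, z (n + 1) ≫ tr G n = z n) :
    Cone G where
  pt := W
  π := NatTrans.ofOpSequence z (fun n => by
    rw [Functor.const_obj_map]
    exact (Category.id_comp _).trans (hz n).symm)

theorem coneMk_π (G : ℕᵒᵖ ⥤ C) (W : C) (z : ∀ n, W ⟶ G.obj (op n))
    (hz : ∀ n, z (n + 1) ≫ tr G n = z n) (n : ℕ) : (coneMk G W z hz).π.app (op n) = z n := rfl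

/-- Lifting compatible maps to the limit of a tower. -/
theorem exists_lift_tower {G : ℕᵒᵖ ⥤ C} {c : Cone G} (hc : IsLimit c) {W : C}
    (z : ∀ n, W ⟶ G.obj (op n)) (hz : ∀ n, z (n + 1) ≫ tr G n = z n) :
    ∃ y : W ⟶ c.pt, ∀ n, y ≫ c.π.app (op n) = z n :=
  ⟨hc.lift (coneMk G W z hz), fun n => hc.fac (coneMk G W z hz) (op n)⟩

/-- A tower that is surjective on homs out of `Z`: every map to a term lifts to the limit. -/
theorem exists_lift_to_limit {G : ℕᵒᵖ ⥤ C} {c : Cone G} (hc : IsLimit c) (Z : C)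
    (hsurj : ∀ (n : ℕ) (z : Z ⟶ G.obj (op n)), ∃ y : Z ⟶ G.obj (op (n + 1)), y ≫ tr G n = z)
    (n : ℕ) (z : Z ⟶ G.obj (op n)) : ∃ y : Z ⟶ c.pt, y ≫ c.π.app (op n) = z := by
  classical
  choose s hs using hsurj
  -- above `n`: lift successively; below `n`: project
  let up : ∀ k : ℕ, Z ⟶ G.obj (op (n + k)) := fun k =>
    Nat.rec (motive := fun k => Z ⟶ G.obj (op (n + k))) z (fun k y => s (n + k) y) k
  have hup : ∀ k, up (k + 1) ≫ tr G (n + k) = up k := fun k => hs _ _
  let zz : ∀ m : ℕ, Z ⟶ G.obj (op m) := fun m =>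
    up m ≫ G.map (homOfLE (Nat.le_add_left m n)).op
  have hzz : ∀ m, zz (m + 1) ≫ tr G m = zz m := by
    intro m
    change (up (m + 1) ≫ G.map _) ≫ G.map _ = up m ≫ G.map _
    rw [← hup m, Category.assoc, Category.assoc, ← G.map_comp, ← G.map_comp]
    rfl
  obtain ⟨y, hy⟩ := exists_lift_tower hc zz hzz
  refine ⟨y, ?_⟩
  rw [hy]
  have : ∀ k, up k ≫ G.map (homOfLE (Nat.le_add_right n k)).op = z := by
    intro k
    induction k with
    | zero =>
      change z ≫ G.map _ = z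
      have : (homOfLE (Nat.le_add_right n 0)).op = 𝟙 (op n) := rfl
      rw [this]
      exact (congrArg (fun q => z ≫ q) (G.map_id _)).trans (Category.comp_id _)
    | succ k ih =>
      rw [← ih, ← hup k, Category.assoc, ← G.map_comp]
      rfl
  exact this n

variable [Abelian C] [HasExt.{w} C]

/-- **The Milnor sequence** for a tower which is acyclic and surjective on a separating class. -/
theorem milnor [EnoughInjectives C] [HasProductsOfShape ℕ C] (𝒢 : C → Prop)
    (hsep : ∀ ⦃K W : C⦄ (h : K ⟶ W), (∀ Z, 𝒢 Z → ∀ z : Z ⟶ K, z ≫ h = 0) → h = 0)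
    (G : ℕᵒᵖ ⥤ C) (c : Cone G) (hc : IsLimit c)
    (hext : ∀ n Z, 𝒢 Z → ∀ p : ℕ, Subsingleton (Ext Z (G.obj (op n)) (p + 1)))
    (hsurj : ∀ (n : ℕ) (Z), 𝒢 Z → ∀ (z : Z ⟶ G.obj (op n)),
      ∃ y : Z ⟶ G.obj (op (n + 1)), y ≫ tr G n = z)
    (E : C) (n : ℕ) :
    ∃ (α : Formal2.limOne (fun k => Ext E (G.obj (op k)) n) (fun k => extMap E (tr G k) n) →+
        Ext E c.pt (n + 1))
      (β : Ext E c.pt (n + 1) →+
        Formal2.limZero (fun k => Ext E (G.obj (op k)) (n + 1)) (fun k => extMap E (tr G k) (n + 1))),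
      Function.Injective α ∧ Function.Surjective β ∧ α.range = β.ker ∧
      ∀ (x : Ext E c.pt (n + 1)) (k : ℕ),
        (β x : ∀ k, Ext E (G.obj (op k)) (n + 1)) k = extMap E (c.π.app (op k)) (n + 1) x := by
  let P : C := ∏ᶜ fun k : ℕ => G.obj (op k)
  let p : ∀ k, P ⟶ G.obj (op k) := fun k => Pi.π (fun k : ℕ => G.obj (op k)) k
  let d : P ⟶ P := Pi.lift fun k => p k - p (k + 1) ≫ tr G k
  have hd : ∀ k, d ≫ p k = p k - p (k + 1) ≫ tr G k := fun k => Pi.lift_π _ _
  let l : c.pt ⟶ P := Pi.lift fun k => c.π.app (op k)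
  have hl : ∀ k, l ≫ p k = c.π.app (op k) := fun k => Pi.lift_π _ _
  have w : l ≫ d = 0 := by
    apply Pi.hom_ext
    intro k
    change (l ≫ d) ≫ p k = 0 ≫ p k
    rw [Category.assoc, hd, Preadditive.comp_sub, hl, reassoc_of% hl, zero_comp]
    have := c.w (homOfLE (Nat.le_succ k)).op
    rw [sub_eq_zero]
    exact this.symm
  have hmono : Mono l := by
    refine Preadditive.mono_of_cancel_zero l fun z hz => ?_
    apply hc.hom_ext
    intro k
    have : z ≫ l ≫ p k.unop = 0 := by rw [reassoc_of% hz, zero_comp]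
    rw [hl] at this
    rw [zero_comp]
    exact this
  have hepi : Epi d := by
    refine epi_of_surjective_on 𝒢 hsep d fun Z hZ z => ?_
    choose s hs using fun n => hsurj n Z hZ
    let y : ∀ k : ℕ, Z ⟶ G.obj (op k) := fun k =>
      Nat.rec (motive := fun k => Z ⟶ G.obj (op k)) 0 (fun k q => s k (q - z ≫ p k)) k
    have hy : ∀ k, y (k + 1) ≫ tr G k = y k - z ≫ p k := fun k => hs _ _
    refine ⟨Pi.lift y, Pi.hom_ext _ _ fun k => ?_⟩
    change (Pi.lift y ≫ d) ≫ p k = z ≫ p k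
    have hyk : ∀ k, Pi.lift y ≫ p k = y k := fun k => Pi.lift_π _ _
    rw [Category.assoc, hd, Preadditive.comp_sub, hyk, reassoc_of% hyk, hy, sub_sub_cancel]
  have hex : (ShortComplex.mk l d w).Exact := by
    have hk : ∀ (W : C) (z : W ⟶ P), z ≫ d = 0 → ∃ y : W ⟶ c.pt, y ≫ l = z := by
      intro W z hz
      have h1 : ∀ k, (z ≫ p (k + 1)) ≫ tr G k = z ≫ p k := by
        intro k
        have : z ≫ d ≫ p k = 0 := by rw [reassoc_of% hz, zero_comp]
        rw [hd, Preadditive.comp_sub, sub_eq_zero] at this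
        rw [Category.assoc, this]
      obtain ⟨y, hy⟩ := exists_lift_tower hc (fun k => z ≫ p k) h1
      refine ⟨y, Pi.hom_ext _ _ fun k => ?_⟩
      change (y ≫ l) ≫ p k = z ≫ p k
      rw [Category.assoc, hl, hy]
    have : IsLimit (KernelFork.ofι l w) :=
      KernelFork.IsLimit.ofι l w (fun z hz => (hk _ z hz).choose)
        (fun z hz => (hk _ z hz).choose_spec)
        (fun z hz m hm => by rw [← cancel_mono l, hm, (hk _ z hz).choose_spec])
    exact ShortComplex.exact_of_f_is_kernel _ this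
  have hb : ∀ m, Function.Bijective (extPi E p m) := fun m =>
    extPi_bijective_of_separating 𝒢 hsep E m (fun k => G.obj (op k)) (fun k Z hZ q => hext k Z hZ q)
      P p (productIsProduct _)
  exact milnor_of_shortExact E (fun k => G.obj (op k)) (tr G) (fun k => c.π.app (op k)) p d hd l hl w
    ⟨hex⟩ n (hb n) (hb (n + 1))

/-- Surjective towers of abelian groups have vanishing `lim¹`. -/
theorem subsingleton_limOne (A : ℕ → Type u) [∀ n, AddCommGroup (A n)] (t : ∀ n, A (n + 1) →+ A n)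
    (ht : ∀ n, Function.Surjective (t n)) : Subsingleton (Formal2.limOne A t) := by
  refine subsingleton_of_forall_eq 0 fun q => ?_
  obtain ⟨z, rfl⟩ := QuotientAddGroup.mk_surjective q
  rw [QuotientAddGroup.eq_zero_iff]
  choose s hs using ht
  let y : ∀ k : ℕ, A k := fun k => Nat.rec (motive := fun k => A k) 0 (fun k q => s k (q - z k)) k
  have hy : ∀ k, t k (y (k + 1)) = y k - z k := fun k => hs _ _
  refine ⟨y, ?_⟩
  funext k
  change y k - t k (y (k + 1)) = z k
  rw [hy, sub_sub_cancel]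

/-- The limit of a tower which is acyclic and surjective on a separating class `𝒢` is acyclic on `𝒢`. -/
theorem subsingleton_ext_limit [EnoughInjectives C] [HasProductsOfShape ℕ C] (𝒢 : C → Prop)
    (hsep : ∀ ⦃K W : C⦄ (h : K ⟶ W), (∀ Z, 𝒢 Z → ∀ z : Z ⟶ K, z ≫ h = 0) → h = 0)
    (G : ℕᵒᵖ ⥤ C) (c : Cone G) (hc : IsLimit c)
    (hext : ∀ n Z, 𝒢 Z → ∀ p : ℕ, Subsingleton (Ext Z (G.obj (op n)) (p + 1)))
    (hsurj : ∀ (n : ℕ) (Z), 𝒢 Z → ∀ (z : Z ⟶ G.obj (op n)),
      ∃ y : Z ⟶ G.obj (op (n + 1)), y ≫ tr G n = z)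
    (Z : C) (hZ : 𝒢 Z) (p : ℕ) : Subsingleton (Ext Z c.pt (p + 1)) := by
  obtain ⟨α, β, -, -, hαβ, -⟩ := milnor 𝒢 hsep G c hc hext hsurj Z p
  have h1 : Subsingleton (Formal2.limOne (fun k => Ext Z (G.obj (op k)) p)
      (fun k => extMap Z (tr G k) p)) := by
    cases p with
    | zero =>
      apply subsingleton_limOne
      intro k x
      obtain ⟨f, rfl⟩ := (Ext.mk₀_bijective Z _).surjective x
      obtain ⟨y, rfl⟩ := hsurj k Z hZ f
      exact ⟨Ext.mk₀ y, by simp [extMap]⟩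
    | succ p =>
      have := fun k => hext k Z hZ p
      apply subsingleton_limOne
      intro k x
      exact ⟨0, Subsingleton.elim _ _⟩
  refine subsingleton_of_forall_eq 0 fun x => ?_
  have hx : x ∈ β.ker := by
    rw [AddMonoidHom.mem_ker]
    apply Subtype.ext
    funext k
    have := hext k Z hZ p
    exact Subsingleton.elim _ _
  rw [← hαβ] at hx
  obtain ⟨q, rfl⟩ := hx
  rw [Subsingleton.elim q 0, map_zero]

end Groth.Agent.FormalB.Milnor
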