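import Mathlib.CategoryTheory.Sites.SheafCohomology.Basic
import Mathlib.CategoryTheory.Adjunction.Whiskering
import Mathlib.CategoryTheory.Sites.LocallySurjective

/-!
# Sections over `U` as homs out of the free abelian sheaf on `U`
-/

universe w v u

open CategoryTheory CategoryTheory.Limits CategoryTheory.Abelian Opposite

namespace Groth.Agent.FormalB.SectHom

variable {C : Type u} [Category.{v} C] (J : GrothendieckTopology C) [HasSheafify J AddCommGrpCat.{v}]

/-- The free abelian sheaf on an object (the first argument of Mathlib's `Sheaf.H'`). -/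
noncomputable abbrev Zsh (U : C) : Sheaf J AddCommGrpCat.{v} :=
  (yoneda ⋙ (Functor.whiskeringRight _ _ _).obj AddCommGrpCat.free ⋙ presheafToSheaf J _).obj U

variable {J}

/-- Homs out of the free abelian sheaf on `U` are sections over `U`. -/
noncomputable def sectEquiv (U : C) (F : Sheaf J AddCommGrpCat.{v}) :
    (Zsh J U ⟶ F) ≃ F.obj.obj (op U) :=
  ((sheafificationAdjunction J AddCommGrpCat.{v}).homEquiv _ _).trans <|
    ((AddCommGrpCat.adj.{v}.whiskerRight Cᵒᵖ).homEquiv _ _).trans yonedaEquiv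

theorem sectEquiv_comp (U : C) {F G : Sheaf J AddCommGrpCat.{v}} (z : Zsh J U ⟶ F) (f : F ⟶ G) :
    sectEquiv U G (z ≫ f) = f.hom.app (op U) (sectEquiv U F z) := by
  simp only [sectEquiv, Equiv.trans_apply]
  erw [Adjunction.homEquiv_naturality_right, Adjunction.homEquiv_naturality_right]
  rfl

/-- The free abelian sheaves on a class of objects which covers everything form a separating class. -/
theorem separating (B : C → Prop)
    (hB : ∀ U : C, ∃ (T : Sieve U), T ∈ J U ∧ ∀ ⦃V : C⦄ (f : V ⟶ U), T f → ∃ (W : C) (g : V ⟶ W) (h : W ⟶ U),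
      B W ∧ g ≫ h = f)
    {K W : Sheaf J AddCommGrpCat.{v}} (h : K ⟶ W)
    (hh : ∀ U, B U → ∀ z : Zsh J U ⟶ K, z ≫ h = 0) : h = 0 := by
  have h0 : ∀ U, B U → ∀ s : K.obj.obj (op U), h.hom.app (op U) s = 0 := by
    intro U hU s
    obtain ⟨z, rfl⟩ := (sectEquiv U K).surjective s
    rw [← sectEquiv_comp, hh U hU z]
    have : sectEquiv U W ((0 : Zsh J U ⟶ K) ≫ h) = 0 := by
      rw [sectEquiv_comp]
      have : sectEquiv U K (0 : Zsh J U ⟶ K) = 0 := by
        have h1 := sectEquiv_comp U (0 : Zsh J U ⟶ K) (0 : K ⟶ K)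
        rw [zero_comp] at h1
        rw [h1]
        rfl
      rw [this]
      exact map_zero _
    rwa [zero_comp] at this
  apply Sheaf.hom_ext
  ext ⟨U⟩ s
  obtain ⟨T, hT, hTB⟩ := hB U
  have hsh : Presheaf.IsSheaf J (W.obj ⋙ forget AddCommGrpCat.{v}) :=
    ((sheafCompose J (forget AddCommGrpCat.{v})).obj W).property
  have hsep : Presieve.IsSeparated J (W.obj ⋙ forget AddCommGrpCat.{v}) :=
    Presieve.IsSheaf.isSeparated ((isSheaf_iff_isSheaf_of_type _ _).1 hsh)
  have := hsep T hT
  refine Presieve.IsSeparatedFor.ext this ?_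
  intro V f hf
  obtain ⟨W', g, k, hW', rfl⟩ := hTB f hf
  change W.obj.map (g ≫ k).op (h.hom.app (op U) s) = W.obj.map (g ≫ k).op ((0 : K ⟶ W).hom.app (op U) s)
  have h2 : W.obj.map k.op (h.hom.app (op U) s) = 0 := by
    rw [← NatTrans.naturality_apply]
    exact h0 W' hW' _
  rw [op_comp, W.obj.map_comp, AddCommGrpCat.comp_apply, h2, map_zero]
  have h3 : (0 : K ⟶ W).hom.app (op U) s = 0 := rfl
  rw [h3, map_zero]

end Groth.Agent.FormalB.SectHom
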