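import Groth.Agent.FormalB.Milnor2
import Groth.Agent.FormalB.SectHom
import Groth.Prelude.Def_CohTop

/-!
# Sheaf cohomology of products and limits of towers on a topological space

The free abelian sheaves on the members of a basis of opens form a separating class, so the abstract
results of `ExtProd2` and `Milnor2` apply to the category of abelian sheaves.
(For the Milnor sequence itself apply `Milnor.milnor` with `𝒢 = freeOn B`, as in `S0827`.)
-/

universe u

open CategoryTheory CategoryTheory.Limits CategoryTheory.Abelian Opposite TopologicalSpace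

namespace Groth.Agent.FormalB.MilnorSheaf

open Groth.Agent.FormalB.ExtProd Groth.Agent.FormalB.Milnor Groth.Agent.FormalB.SectHom

variable {X : TopCat.{u}}

instance : IsGrothendieckAbelian.{u} (CohTop.Ab X) :=
  Sheaf.isGrothendieckAbelian_of_essentiallySmall _ _

/-- The class of free abelian sheaves on the members of a family `B` of opens. -/
def freeOn (B : Set (Opens X)) (Z : CohTop.Ab X) : Prop :=
  ∃ U ∈ B, Z = Zsh (Opens.grothendieckTopology X) U

theorem separating_of_isBasis (B : Set (Opens X)) (hB : Opens.IsBasis B) {K W : CohTop.Ab X}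
    (h : K ⟶ W) (hh : ∀ Z, freeOn B Z → ∀ z : Z ⟶ K, z ≫ h = 0) : h = 0 := by
  refine separating (fun U => U ∈ B) ?_ h fun U hU z => hh _ ⟨U, hU, rfl⟩ z
  intro U
  let T : Sieve U :=
    { arrows := fun V _ => ∃ W ∈ B, W ≤ U ∧ V ≤ W
      downward_closed := by
        rintro V V' f ⟨W, hW, hWU, hVW⟩ g
        exact ⟨W, hW, hWU, g.le.trans hVW⟩ }
  refine ⟨T, ?_, ?_⟩
  · intro x hx
    obtain ⟨W, hW, hxW, hWU⟩ := Opens.isBasis_iff_nbhd.1 hB hx
    exact ⟨W, homOfLE hWU, ⟨W, hW, hWU, le_rfl⟩, hxW⟩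
  · rintro V f ⟨W, hW, hWU, hVW⟩
    exact ⟨W, homOfLE hVW, homOfLE hWU, hW, rfl⟩

/-- A map of sheaves that is surjective on sections over a basis lifts maps from the free sheaves. -/
theorem exists_lift_of_surjective {K W : CohTop.Ab X} (f : K ⟶ W) (U : Opens X)
    (hf : Function.Surjective (f.hom.app (op U))) (z : Zsh (Opens.grothendieckTopology X) U ⟶ W) :
    ∃ y : Zsh (Opens.grothendieckTopology X) U ⟶ K, y ≫ f = z := by
  obtain ⟨s, hs⟩ := hf (sectEquiv U W z)
  obtain ⟨y, rfl⟩ := (sectEquiv U K).surjective s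
  exact ⟨y, (sectEquiv U W).injective (by rw [sectEquiv_comp, hs])⟩

/-- **Cohomology of a product** of abelian sheaves acyclic on a basis: the canonical map
`H^n(X, ∏ F) → ∏ H^n(X, F i)` is bijective. -/
theorem H_pi_bijective {ι : Type u} (B : Set (Opens X)) (hB : Opens.IsBasis B) (F : ι → CohTop.Ab X)
    (hF : ∀ i, ∀ U ∈ B, ∀ p : ℕ, Subsingleton (CohTop.HU (F i) (p + 1) U))
    (P : CohTop.Ab X) (p : ∀ i, P ⟶ F i) (hP : IsLimit (Fan.mk P p)) (n : ℕ) :
    Function.Bijective (fun (x : CohTop.H P n) (i : ι) => Sheaf.H.map (p i) n x) := by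
  refine extPi_bijective_of_separating (freeOn B) (fun K W h hh => separating_of_isBasis B hB h hh)
    _ n F ?_ P p hP
  rintro i _ ⟨U, hU, rfl⟩ q
  exact hF i U hU q

/-- The same over an open `U`. -/
theorem HU_pi_bijective {ι : Type u} (B : Set (Opens X)) (hB : Opens.IsBasis B) (F : ι → CohTop.Ab X)
    (hF : ∀ i, ∀ U ∈ B, ∀ p : ℕ, Subsingleton (CohTop.HU (F i) (p + 1) U))
    (P : CohTop.Ab X) (p : ∀ i, P ⟶ F i) (hP : IsLimit (Fan.mk P p)) (n : ℕ) (U : Opens X) :
    Function.Bijective (fun (x : CohTop.HU P n U) (i : ι) => CohTop.HUmap (p i) n U x) := by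
  refine extPi_bijective_of_separating (freeOn B) (fun K W h hh => separating_of_isBasis B hB h hh)
    (Zsh (Opens.grothendieckTopology X) U) n F ?_ P p hP
  rintro i _ ⟨U, hU, rfl⟩ q
  exact hF i U hU q

section Tower

variable (B : Set (Opens X)) (hB : Opens.IsBasis B) (G : ℕᵒᵖ ⥤ CohTop.Ab X) (c : Cone G)
  (hc : IsLimit c)
  (hext : ∀ n, ∀ U ∈ B, ∀ p : ℕ, Subsingleton (CohTop.HU (G.obj (op n)) (p + 1) U))
  (hsurj : ∀ n, ∀ U ∈ B, Function.Surjective
    (((G.map (homOfLE (Nat.le_succ n)).op).hom.app (op U) :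
      (G.obj (op (n + 1))).obj.obj (op U) ⟶ (G.obj (op n)).obj.obj (op U))))

include hB hc hext hsurj

/-- The limit is again acyclic on the basis. -/
theorem subsingleton_HU_limit (U : Opens X) (hU : U ∈ B) (p : ℕ) :
    Subsingleton (CohTop.HU c.pt (p + 1) U) := by
  refine subsingleton_ext_limit (freeOn B) (fun K W h hh => separating_of_isBasis B hB h hh) G c hc
    ?_ ?_ (Zsh (Opens.grothendieckTopology X) U) ⟨U, hU, rfl⟩ p
  · rintro n _ ⟨U, hU, rfl⟩ p
    exact hext n U hU p
  · rintro n _ ⟨U, hU, rfl⟩ z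
    exact exists_lift_of_surjective _ U (hsurj n U hU) z

end Tower

end Groth.Agent.FormalB.MilnorSheaf
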