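import Groth.Prelude.Def_Coh
import Mathlib.Algebra.Category.ModuleCat.Sheaf.Limits

/-!
# The underlying abelian sheaf of a limit of O_X-modules
-/

universe u

open CategoryTheory CategoryTheory.Limits AlgebraicGeometry Opposite TopologicalSpace

namespace Groth.Agent.FormalB.ToSheafLimits

variable {X : Scheme.{u}}

theorem preservesLimitsOfShape_toSheaf (D : Type) [SmallCategory D] :
    PreservesLimitsOfShape D (SheafOfModules.toSheaf.{u} X.ringCatSheaf) := by
  have h1 : PreservesLimitsOfShape D (SheafOfModules.forget.{u} X.ringCatSheaf ⋙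
      PresheafOfModules.toPresheaf X.ringCatSheaf.obj) := inferInstance
  have h2 : PreservesLimitsOfShape D
      (SheafOfModules.toSheaf.{u} X.ringCatSheaf ⋙ sheafToPresheaf _ _) := h1
  exact preservesLimitsOfShape_of_reflects_of_preserves _ (sheafToPresheaf _ _)

/-- The underlying abelian sheaf of the limit of a tower is the limit of the underlying sheaves. -/
theorem nonempty_isLimit_toSheaf (G : ℕᵒᵖ ⥤ X.Modules) :
    Nonempty (IsLimit ((SheafOfModules.toSheaf.{u} X.ringCatSheaf).mapCone (limit.cone G))) := by
  have := preservesLimitsOfShape_toSheaf (X := X) ℕᵒᵖ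
  exact ⟨isLimitOfPreserves _ (limit.isLimit G)⟩

end Groth.Agent.FormalB.ToSheafLimits
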