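import Groth.Agent.FormalB.Milnor2
import Groth.Agent.FormalB.ToSheafLimits

/-!
# Degree zero of the Milnor sequence: compatible families in degree zero come from the limit
-/

universe w v u

open CategoryTheory CategoryTheory.Limits CategoryTheory.Abelian AlgebraicGeometry Opposite

namespace Groth.Agent.FormalB.Milnor

/-- Compatible families in `Ext^0(E, G n) = Hom(E, G n)` come from a unique element of
`Ext^0(E, lim G)`. -/
theorem exists_ext_zero {C : Type u} [Category.{v} C] [Abelian C] [HasExt.{w} C]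
    {G : ℕᵒᵖ ⥤ C} {c : Cone G} (hc : IsLimit c) (E : C) (x : ∀ n, Ext E (G.obj (op n)) 0)
    (hx : ∀ n, extMap E (tr G n) 0 (x (n + 1)) = x n) :
    ∃ y : Ext E c.pt 0, ∀ n, extMap E (c.π.app (op n)) 0 y = x n := by
  choose f hf using fun n => (Ext.mk₀_bijective E (G.obj (op n))).surjective (x n)
  have hf' : ∀ n, f (n + 1) ≫ tr G n = f n := by
    intro n
    apply (Ext.mk₀_bijective E (G.obj (op n))).injective
    rw [hf n, ← hx n, ← hf (n + 1)]
    exact (Ext.mk₀_comp_mk₀ _ _).symm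
  obtain ⟨y, hy⟩ := exists_lift_tower hc f hf'
  refine ⟨Ext.mk₀ y, fun n => ?_⟩
  rw [← hf n, ← hy n]
  exact Ext.mk₀_comp_mk₀ _ _

theorem ext_zero_eq {C : Type u} [Category.{v} C] [Abelian C] [HasExt.{w} C]
    {G : ℕᵒᵖ ⥤ C} {c : Cone G} (hc : IsLimit c) (E : C) (y y' : Ext E c.pt 0)
    (h : ∀ n, extMap E (c.π.app (op n)) 0 y = extMap E (c.π.app (op n)) 0 y') : y = y' := by
  obtain ⟨f, rfl⟩ := (Ext.mk₀_bijective E c.pt).surjective y
  obtain ⟨f', rfl⟩ := (Ext.mk₀_bijective E c.pt).surjective y'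
  congr 1
  apply hc.hom_ext
  intro n
  apply (Ext.mk₀_bijective E _).injective
  rw [← Ext.mk₀_comp_mk₀, ← Ext.mk₀_comp_mk₀]
  exact h n.unop

/-- For any tower of O_X-modules, compatible families in `H^0(X, G n)` come from `H^0(X, lim G)`. -/
theorem exists_HH_zero {X : Scheme.{u}} (G : ℕᵒᵖ ⥤ X.Modules)
    (x : ∀ n, Coh.HH X (G.obj (op n)) 0) (hx : ∀ n, Formal2.HHsysMap G 0 n (x (n + 1)) = x n) :
    ∃ y : Coh.HH X (limit G) 0, ∀ n,
      Sheaf.H.map ((SheafOfModules.toSheaf _).map (limit.π G (op n))) 0 y = x n := by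
  obtain ⟨hL⟩ := Groth.Agent.FormalB.ToSheafLimits.nonempty_isLimit_toSheaf G
  exact exists_ext_zero (G := G ⋙ SheafOfModules.toSheaf X.ringCatSheaf) hL _ x hx

/-- Injectivity: a class in `H^0(X, lim G)` is determined by its components. -/
theorem HH_zero_eq {X : Scheme.{u}} (G : ℕᵒᵖ ⥤ X.Modules) (y y' : Coh.HH X (limit G) 0)
    (h : ∀ n, Sheaf.H.map ((SheafOfModules.toSheaf _).map (limit.π G (op n))) 0 y =
      Sheaf.H.map ((SheafOfModules.toSheaf _).map (limit.π G (op n))) 0 y') : y = y' := by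
  obtain ⟨hL⟩ := Groth.Agent.FormalB.ToSheafLimits.nonempty_isLimit_toSheaf G
  exact ext_zero_eq (G := G ⋙ SheafOfModules.toSheaf X.ringCatSheaf) hL _ y y' h

end Groth.Agent.FormalB.Milnor
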