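import Groth.Agent.FormalB.PrincTower
import Groth.Agent.FormalB.PuncTheta
import Groth.Agent.VarietyB.KoszulShift

/-!
# The maps `f : G_n → G_{n+1}` of a locally free formal system are monomorphisms

`X` over `Spec A`, `f ∈ A` such that multiplication by `f` on `O_X` is a monomorphism (for instance
`X` open in `Spec A` and `f` a nonzerodivisor of `A`), `G` a formal system for `(f)` whose terms
`G_n` are locally isomorphic to `(O_X/f^{n+1})^r`.
-/

set_option autoImplicit false
universe u v w

open CategoryTheory CategoryTheory.Limits AlgebraicGeometry Opposite TopologicalSpace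

namespace Groth.Agent.FormalB.MonoMu

open ModPow PrincTower PuncTheta

/-- The abelian category part: a piece of the snake lemma. -/
theorem mono_core {C : Type v} [Category.{w} C] [Abelian C] {F E G : C} {a b fF : F ⟶ F} {q : F ⟶ E}
    {fE : E ⟶ E} {p : E ⟶ G} {μ : G ⟶ E} [Mono fF] (hb : a ≫ fF = b) (hbq : b ≫ q = 0)
    (hex : (ShortComplex.mk b q hbq).Exact) (hqp : Epi (q ≫ p)) (ha : a ≫ q ≫ p = 0)
    (hμ : p ≫ μ = fE) (hf : q ≫ fE = fF ≫ q) : Mono μ := by
  refine Preadditive.mono_of_cancel_zero _ fun {K} k hk => ?_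
  obtain ⟨K', π, hπ, t, ht⟩ := surjective_up_to_refinements_of_epi (q ≫ p) k
  have h1 : (t ≫ fF) ≫ q = 0 := by
    rw [Category.assoc, ← hf, ← hμ, ← Category.assoc q p μ, ← Category.assoc t, ← ht, Category.assoc,
      hk, comp_zero]
  obtain ⟨K'', π', hπ', x, hx⟩ := hex.exact_up_to_refinements (t ≫ fF) h1
  change π' ≫ t ≫ fF = x ≫ b at hx
  have h2 : π' ≫ t = x ≫ a := by
    rw [← cancel_mono fF, Category.assoc, Category.assoc, hb, hx]
  rw [← cancel_epi π, ← cancel_epi π', comp_zero, comp_zero, ht, ← Category.assoc, h2,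
    Category.assoc, ha, comp_zero]

section Restrict

variable {X : Scheme.{u}}

/-- Monomorphisms can be checked locally. -/
theorem mono_of_restrict {M N : X.Modules} (φ : M ⟶ N)
    (h : ∀ x : X, ∃ V : X.Opens, x ∈ V ∧ Mono ((Scheme.Modules.restrictFunctor V.ι).map φ)) :
    Mono φ := by
  rw [Preadditive.mono_iff_isZero_kernel]
  refine VarietyB.KoszulShift.isZero_of_restrict _ fun x => ?_
  obtain ⟨V, hx, hV⟩ := h x
  refine ⟨V, hx, ?_⟩
  have h1 : (Scheme.Modules.restrictFunctor V.ι).map (kernel.ι φ) = 0 := by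
    rw [← cancel_mono ((Scheme.Modules.restrictFunctor V.ι).map φ), ← Functor.map_comp,
      kernel.condition, zero_comp, Functor.map_zero]
  have h2 : Mono ((Scheme.Modules.restrictFunctor V.ι).map (kernel.ι φ)) := inferInstance
  exact IsZero.of_mono_eq_zero _ h1

variable {A : Type u} [CommRing A] [X.Over (Spec (CommRingCat.of A))] (V : X.Opens)

/-- Morphisms over `V` commute with the restriction of multiplication by `a`. -/
theorem restrict_smulMod_comm {M N : X.Modules} (a : A)
    (φ : (Scheme.Modules.restrictFunctor V.ι).obj M ⟶ (Scheme.Modules.restrictFunctor V.ι).obj N) :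
    (Scheme.Modules.restrictFunctor V.ι).map (Formal.smulMod A M a) ≫ φ =
      φ ≫ (Scheme.Modules.restrictFunctor V.ι).map (Formal.smulMod A N a) := by
  let r : Coh.Γtop (V : Scheme.{u}) := resΓ X (V.ι ''ᵁ ⊤) (Coh.toGlobal (X ↘ Spec (CommRingCat.of A)) a)
  have h : ∀ M : X.Modules, (Scheme.Modules.restrictFunctor V.ι).map (Formal.smulMod A M a) =
      Formal.smulModΓ ((Scheme.Modules.restrictFunctor V.ι).obj M) r := by
    intro M
    ext W m
    have h1 : resΓ (V : Scheme.{u}) W r =
        resΓ X (V.ι ''ᵁ W) (Coh.toGlobal (X ↘ Spec (CommRingCat.of A)) a) :=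
      (ConcreteCategory.congr_hom (X.presheaf.map_comp
        (homOfLE (le_top : V.ι ''ᵁ ⊤ ≤ ⊤)).op
        (V.ι.opensFunctor.map (homOfLE (le_top : W ≤ ⊤))).op) _).symm
    refine (smulMod_app M a (V.ι ''ᵁ W) m).trans (Eq.trans ?_
      (smulModΓ_app ((Scheme.Modules.restrictFunctor V.ι).obj M) r W m).symm)
    have h2 : ∀ t : Γ(X, V.ι ''ᵁ W), t • (show Γ(M, V.ι ''ᵁ W) from m) =
        (show Γ(M, V.ι ''ᵁ W) from ((show Γ((V : Scheme.{u}), W) from t) •
          (show Γ(M.restrict V.ι, W) from m))) := by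
      intro t
      have h3 : (show Γ(M, V.ι ''ᵁ W) from ((show Γ((V : Scheme.{u}), W) from t) •
          (show Γ(M.restrict V.ι, W) from m))) =
          ((V.ι.appIso W).inv t) • (show Γ(M, V.ι ''ᵁ W) from m) := rfl
      rw [h3, Scheme.Opens.ι_appIso]
      rfl
    rw [h1]
    exact h2 _
  rw [h, h, smulModΓ_naturality]

omit V in
/-- Multiplication by `a` on a free module is mono if it is so on the structure module. -/
theorem mono_smulMod_freeMod (a : A) (h : Mono (Formal.smulMod A (Coh.structureModule X) a))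
    (r : ℕ) : Mono (Formal.smulMod A (FlatMod.freeMod X r) a) := by
  refine Preadditive.mono_of_cancel_zero _ fun {K} k hk => ?_
  have : HasFiniteBiproducts X.Modules := Abelian.hasFiniteBiproducts
  let e := (biproduct.isoCoproduct (fun _ : Fin r => Coh.structureModule X)).symm
  rw [← cancel_mono e.hom, zero_comp]
  refine biproduct.hom_ext _ _ fun j => ?_
  rw [zero_comp, ← cancel_mono (Formal.smulMod A (Coh.structureModule X) a), zero_comp,
    Category.assoc, Category.assoc, ← smulMod_naturality, ← Category.assoc e.hom,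
    ← smulMod_naturality, Category.assoc, ← Category.assoc k, hk, zero_comp]

omit V in
/-- The quotient by a principal ideal is a cokernel of multiplication by the generator. -/
theorem exact_of_isModPow {f : A} {n : ℕ} {M N : X.Modules} {q : M ⟶ N}
    (hq : IsModPow (Ideal.span {f} ^ n) q) :
    ∃ w : Formal.smulMod A M (f ^ n) ≫ q = 0,
      (ShortComplex.mk (Formal.smulMod A M (f ^ n)) q w).Exact := by
  have hmem : f ^ n ∈ Ideal.span {f} ^ n := Ideal.pow_mem_pow (Ideal.mem_span_singleton_self f) n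
  have hepi := hq.epi
  have key : ∀ {Z : X.Modules} (k : M ⟶ Z), Formal.smulMod A M (f ^ n) ≫ k = 0 →
      ∃ ψ : N ⟶ Z, q ≫ ψ = k := by
    intro Z k hk
    refine hq.desc k fun a ha => ?_
    rw [Ideal.span_singleton_pow] at ha
    obtain ⟨b, rfl⟩ := Ideal.mem_span_singleton'.1 ha
    rw [mul_comm, smulMod_mul, Category.assoc, hk, comp_zero]
  refine ⟨hq.smul_comp _ hmem, ?_⟩
  apply ShortComplex.exact_of_g_is_cokernel
  exact CokernelCofork.IsColimit.ofπ _ _ (fun {Z} k hk => (key k hk).choose) (fun {Z} k hk =>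
    (key k hk).choose_spec) (fun {Z} k hk m hm => (cancel_epi q).1 (hm.trans (key k hk).choose_spec.symm))

omit V in
/-- The maps `f : G_n → G_{n+1}` are monomorphisms. -/
theorem mono_mu_of_mono {f : A} (hf : Mono (Formal.smulMod A (Coh.structureModule X) f))
    {G : ℕᵒᵖ ⥤ X.Modules} (hG : IsFormal (Ideal.span {f}) G) (n : ℕ)
    (hfree : Formal2.IsFinLocFreeMod (Ideal.span {f}) (n + 2) (G.obj (op (n + 1)))) :
    Mono (mu hG n) := by
  refine mono_of_restrict _ fun x => ?_
  obtain ⟨V, r, hxV, ⟨e⟩⟩ := hfree x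
  refine ⟨V, hxV, ?_⟩
  have hF := mono_smulMod_freeMod f hf r
  let R := Scheme.Modules.restrictFunctor V.ι
  let F := FlatMod.freeMod X r
  let q₀ : F ⟶ Formal.modPow (Ideal.span {f}) (n + 2) F := Formal.modPowπ _ _ _
  obtain ⟨w, hw⟩ := exact_of_isModPow (isModPow_modPowπ (Ideal.span {f}) (n + 2) F)
  have hepi := (hG.succ n).epi
  let q : R.obj F ⟶ R.obj (G.obj (op (n + 1))) := R.map q₀ ≫ e.inv
  have hfn : (f ^ (n + 1)) ∈ Ideal.span {f} ^ (n + 1) :=
    Ideal.pow_mem_pow (Ideal.mem_span_singleton_self f) _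
  have hq : ∀ a : A, R.map (Formal.smulMod A F a) ≫ q = q ≫ R.map (Formal.smulMod A _ a) :=
    fun a => restrict_smulMod_comm V a q
  have hbq : R.map (Formal.smulMod A F (f ^ (n + 2))) ≫ q = 0 := by
    change R.map (Formal.smulMod A F (f ^ (n + 2))) ≫ R.map q₀ ≫ e.inv = 0
    rw [← Category.assoc, ← Functor.map_comp, w, Functor.map_zero, zero_comp]
  refine mono_core (a := R.map (Formal.smulMod A F (f ^ (n + 1))))
    (b := R.map (Formal.smulMod A F (f ^ (n + 2))))
    (fF := R.map (Formal.smulMod A F f)) (q := q) (fE := R.map (Formal.smulMod A _ f))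
    (p := R.map (tr G n)) ?_ hbq ?_ ?_ ?_ ?_ (hq f).symm
  · rw [← Functor.map_comp, ← smulMod_mul, ← pow_succ']
  · have h1 := hw.map R
    refine (ShortComplex.exact_iff_of_iso ?_).1 h1
    exact ShortComplex.isoMk (Iso.refl _) (Iso.refl _) e.symm
      ((Category.id_comp _).trans (Category.comp_id _).symm) (Category.id_comp _)
  · have h1 : Epi (R.map q₀) := inferInstance
    have h2 : Epi (R.map (tr G n)) := inferInstance
    exact epi_comp _ _
  · rw [← Category.assoc, hq, Category.assoc, ← Functor.map_comp, (hG.succ n).smul_comp _ hfn,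
      Functor.map_zero, comp_zero]
  · rw [← Functor.map_comp, tr_mu]

end Restrict

section Open

variable {A : Type u} [CommRing A] (U : (Spec (CommRingCat.of A)).Opens)

/-- The structure module of `U` is `A~|_U`. -/
noncomputable def thetaUnit :
    (Theta U).obj (ModuleCat.of A A) ≅ Coh.structureModule (U : Scheme.{u}) :=
  (Scheme.Modules.restrictFunctor U.ι).mapIso (tildeSelf (R := CommRingCat.of A)) ≪≫
    Scheme.Modules.restrictUnitIso U.ι

/-- A nonzerodivisor of `A` is a nonzerodivisor on the structure sheaf of an open of `Spec A`. -/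
theorem mono_smulMod_structureModule {f : A} (hf : f ∈ nonZeroDivisors A) :
    Mono (Formal.smulMod A (Coh.structureModule (U : Scheme.{u})) f) := by
  have h1 : Mono (ModuleCat.ofHom (f • (LinearMap.id : A →ₗ[A] A))) := by
    rw [ModuleCat.mono_iff_injective]
    intro x y hxy
    exact (mul_cancel_left_mem_nonZeroDivisors hf).1 hxy
  have h2 : Mono (Formal.smulMod A ((Theta U).obj (ModuleCat.of A A)) f) := by
    rw [← theta_map_smul]
    infer_instance
  have h3 : Formal.smulMod A (Coh.structureModule (U : Scheme.{u})) f =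
      (thetaUnit U).inv ≫ Formal.smulMod A _ f ≫ (thetaUnit U).hom := by
    rw [smulMod_naturality, Iso.inv_hom_id_assoc]
  rw [h3]
  infer_instance

/-- Let `f` be a nonzerodivisor of `A` and `G` a formal system for `(f)` on an open `U` of `Spec A`,
with `G_n` finite locally free over `O_U/f^{n+1}`.  Then the maps `f : G_n → G_{n+1}` are
monomorphisms. -/
theorem mono_mu {f : A} (hf : f ∈ nonZeroDivisors A) {G : ℕᵒᵖ ⥤ (U : Scheme.{u}).Modules}
    (hG : IsFormal (Ideal.span {f}) G)
    (hfree : ∀ n : ℕ, Formal2.IsFinLocFreeMod (Ideal.span {f}) (n + 1) (G.obj (op n))) (n : ℕ) :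
    Mono (mu hG n) :=
  mono_mu_of_mono (mono_smulMod_structureModule U hf) hG n (hfree (n + 1))

end Open

end Groth.Agent.FormalB.MonoMu
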