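import Groth.Agent.VarietyB.PullSec
import Groth.Agent.Ega1.QcqsPush

/-!
# Sections of a pullback along a morphism which is an isomorphism over a basic open
-/

set_option autoImplicit false
universe u

open CategoryTheory CategoryTheory.Limits AlgebraicGeometry Opposite TopologicalSpace

namespace Groth.Agent.FormalB.PpIso507

open Groth.Agent.VarietyB.PullSec

/-- Base change along a bijective ring map is bijective. -/
theorem bijective_of_isBaseChange {R S : Type*} [CommRing R] [CommRing S] [Algebra R S]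
    (h : Function.Bijective (algebraMap R S)) {M M' : Type*} [AddCommGroup M] [AddCommGroup M']
    [Module R M] [Module R M'] [Module S M'] [IsScalarTower R S M'] (f : M →ₗ[R] M')
    (hf : IsBaseChange S f) : Function.Bijective f := by
  let e : R ≃+* S := RingEquiv.ofBijective (algebraMap R S) h
  let _ : Module S M := Module.compHom M e.symm.toRingHom
  have hs : ∀ (s : S) (m : M), s • m = e.symm s • m := fun _ _ => rfl
  have : IsScalarTower R S M := ⟨fun r s m => by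
    rw [hs, hs, Algebra.smul_def, map_mul, mul_smul]
    congr 1
    exact e.symm_apply_apply r⟩
  constructor
  · let ψ : M' →ₗ[S] M := hf.lift LinearMap.id
    have hψ : ∀ m, ψ (f m) = m := fun m => hf.lift_eq LinearMap.id m
    exact Function.LeftInverse.injective hψ
  · intro m'
    induction m' using hf.inductionOn with
    | zero => exact ⟨0, map_zero _⟩
    | tmul m => exact ⟨m, rfl⟩
    | smul s m' h' =>
      obtain ⟨m, rfl⟩ := h'
      obtain ⟨r, rfl⟩ := h.2 s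
      exact ⟨r • m, by rw [map_smul, algebraMap_smul]⟩
    | add x y hx hy =>
      obtain ⟨a, rfl⟩ := hx
      obtain ⟨b, rfl⟩ := hy
      exact ⟨a + b, map_add _ _ _⟩

section One

variable {S Z : Scheme.{u}} (p : Z ⟶ S)

/-- If `p` is an isomorphism over `D`, then `Γ(S, D) → Γ(Z, p⁻¹ D)` is bijective. -/
theorem appLE_bijective (D : S.Opens) (hiso : IsIso (p ∣_ D)) :
    Function.Bijective (p.appLE D (p ⁻¹ᵁ D) le_rfl) := by
  have h1 : IsIso ((p ∣_ D).app ⊤) := inferInstance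
  have h2 : (p ∣_ D).app ⊤ = p.app (D.ι ''ᵁ ⊤) ≫
      Z.presheaf.map (eqToHom (image_morphismRestrict_preimage p D ⊤)).op :=
    morphismRestrict_app p D ⊤
  have h0 : IsIso (p.app (D.ι ''ᵁ ⊤) ≫
      Z.presheaf.map (eqToHom (image_morphismRestrict_preimage p D ⊤)).op) := h2 ▸ h1
  have h3 : IsIso (p.app (D.ι ''ᵁ ⊤)) := IsIso.of_isIso_comp_right _
    (Z.presheaf.map (eqToHom (image_morphismRestrict_preimage p D ⊤)).op)
  have h4 : D.ι ''ᵁ ⊤ = D := D.ι_image_top
  rw [h4] at h3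
  rw [Scheme.Hom.appLE_eq_app]
  exact (ConcreteCategory.isIso_iff_bijective _).1 h3

theorem sec_bijective {L : S.Modules} (hL : Coh.IsQCoh L) (D : S.Opens) (hD : IsAffineOpen D)
    (hiso : IsIso (p ∣_ D)) :
    Function.Bijective (sec p L (le_refl (p ⁻¹ᵁ D))) := by
  have hV : IsAffineOpen (p ⁻¹ᵁ D) := by
    have : IsAffine D.toScheme := hD
    exact IsAffine.of_isIso (p ∣_ D)
  let j1 : Algebra Γ(S, D) Γ(Z, p ⁻¹ᵁ D) := (p.appLE D (p ⁻¹ᵁ D) le_rfl).hom.toAlgebra
  let j2 := secModule p L (le_refl (p ⁻¹ᵁ D))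
  have j3 : IsScalarTower Γ(S, D) Γ(Z, p ⁻¹ᵁ D) Γ((Scheme.Modules.pullback p).obj L, p ⁻¹ᵁ D) :=
    ⟨fun a b c => by rw [Algebra.smul_def, mul_smul]; rfl⟩
  have h1 : IsBaseChange Γ(Z, p ⁻¹ᵁ D) (secₗ p L (le_refl (p ⁻¹ᵁ D))) :=
    isBaseChange_secₗ p L (le_refl _) hL hD hV
  have h2 : Function.Bijective (algebraMap Γ(S, D) Γ(Z, p ⁻¹ᵁ D)) := appLE_bijective p D hiso
  exact bijective_of_isBaseChange h2 _ h1

theorem main [IsAffine S] [QuasiCompact p] [QuasiSeparated p] {L : S.Modules}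
    (hL : Coh.IsQCoh L) (h : Γ(S, ⊤)) (hiso : IsIso (p ∣_ S.basicOpen h)) :
    (∀ m : Γ(L, ⊤), sec p L (U := ⊤) (V := ⊤) le_top m = 0 → ∃ n : ℕ, h ^ n • m = 0) ∧
    (∀ y : Γ((Scheme.Modules.pullback p).obj L, ⊤), ∃ (n : ℕ) (m : Γ(L, ⊤)),
      sec p L (U := ⊤) (V := ⊤) le_top m = (p.appTop h) ^ n • y) := by
  have hD : IsAffineOpen (S.basicOpen h) := (isAffineOpen_top S).basicOpen h
  have hb := sec_bijective p hL (S.basicOpen h) hD hiso
  have hq : Coh.IsQCoh ((Scheme.Modules.pullback p).obj L) := isQCoh_pullback p L hL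
  have hq' : Coh.IsQCoh ((Scheme.Modules.pushforward p).obj ((Scheme.Modules.pullback p).obj L)) :=
    Groth.Agent.Ega1.QcqsPush.isQCoh_pushforward p _ hq
  have hle : p ⁻¹ᵁ (S.basicOpen h) ≤ (⊤ : Z.Opens) := le_top
  have hres : ∀ m : Γ(L, ⊤), ((Scheme.Modules.pullback p).obj L).presheaf.map (homOfLE hle).op
      (sec p L (U := ⊤) (V := ⊤) le_top m) = sec p L (le_refl (p ⁻¹ᵁ (S.basicOpen h)))
        (L.presheaf.map (homOfLE (S.basicOpen_le h)).op m) := fun m =>
    sec_res p L (U := ⊤) (V := ⊤) le_top (le_refl (p ⁻¹ᵁ (S.basicOpen h))) (S.basicOpen_le h) hle m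
  have key : ∀ y : Γ((Scheme.Modules.pullback p).obj L, ⊤),
      ((Scheme.Modules.pullback p).obj L).presheaf.map (homOfLE hle).op y = 0 →
        ∃ n : ℕ, (p.appTop h) ^ n • y = 0 := by
    intro y hy
    obtain ⟨n, hn⟩ := Fdesc.QCohStalk.exists_pow_smul_eq_zero
      ((Scheme.Modules.pushforward p).obj ((Scheme.Modules.pullback p).obj L))
      (isAffineOpen_top S) hq' h (show Γ((Scheme.Modules.pushforward p).obj ((Scheme.Modules.pullback p).obj L), ⊤) from y) hy
    refine ⟨n, ?_⟩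
    rw [← map_pow]
    exact hn
  refine ⟨fun m hm => ?_, fun y => ?_⟩
  · refine Fdesc.QCohStalk.exists_pow_smul_eq_zero L (isAffineOpen_top S) hL h m ?_
    apply hb.1
    rw [← hres, hm, map_zero, map_zero]
  · obtain ⟨t, ht⟩ := hb.2 (((Scheme.Modules.pullback p).obj L).presheaf.map (homOfLE hle).op y)
    obtain ⟨n, m, hm⟩ := Fdesc.QCohStalk.exists_map_eq_pow_smul L (isAffineOpen_top S) hL h t
    obtain ⟨n', hn'⟩ := key (sec p L (U := ⊤) (V := ⊤) le_top m - (p.appTop h) ^ n • y) (by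
      rw [map_sub, hres, hm, sec_smul, ht, sub_eq_zero]
      refine Eq.trans ?_ (Fdesc.QCohStalk.map_smul' _ hle ((p.appTop h) ^ n) y).symm
      congr 1
      rw [map_pow, map_pow]
      congr 1
      have e1 := Scheme.Hom.map_appLE p (le_refl (p ⁻¹ᵁ (S.basicOpen h))) (homOfLE (S.basicOpen_le h)).op
      have e2 := Scheme.Hom.appLE_map p (U := ⊤) (V := ⊤) le_top (homOfLE hle).op
      have e3 : p.appLE ⊤ ⊤ le_top = p.appTop := by
        rw [Scheme.Hom.appLE, Scheme.Hom.appTop]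
        exact (congr(p.app ⊤ ≫ $(Z.presheaf.map_id (op ⊤)))).trans (Category.comp_id _)
      rw [e3] at e2
      exact (congr($e1 h)).trans (congr($e2 h)).symm)
    refine ⟨n' + n, h ^ n' • m, ?_⟩
    rw [sec_smul]
    have e4 : p.appLE ⊤ ⊤ le_top (h ^ n') = (p.appTop h) ^ n' := by
      rw [map_pow]
      congr 1
      have e3 : p.appLE ⊤ ⊤ le_top = p.appTop := by
        rw [Scheme.Hom.appLE, Scheme.Hom.appTop]
        exact (congr(p.app ⊤ ≫ $(Z.presheaf.map_id (op ⊤)))).trans (Category.comp_id _)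
      exact congr($e3 h)
    rw [smul_sub, sub_eq_zero] at hn'
    rw [pow_add, mul_smul, ← hn']
    congr 1

end One

section Two

variable {X Y S Z : Scheme.{u}} {f : X ⟶ Y} {g : S ⟶ Y} {q : Z ⟶ X} {p : Z ⟶ S}

/-- Being an isomorphism over an open is stable under base change. -/
theorem isIso_restrict (H : IsPullback q p f g) (W : Y.Opens) (hW : IsIso (f ∣_ W)) (W' : S.Opens)
    (hle : W' ≤ g ⁻¹ᵁ W) : IsIso (p ∣_ W') := by
  have hr : Set.range (W'.ι ≫ g) ⊆ Set.range W.ι := by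
    rintro _ ⟨x, rfl⟩
    have h1 : g (W'.ι x) ∈ W := hle x.2
    rw [Scheme.Opens.range_ι]
    exact h1
  let l : W'.toScheme ⟶ W.toScheme := IsOpenImmersion.lift W.ι (W'.ι ≫ g) hr
  have hl : l ≫ W.ι = W'.ι ≫ g := IsOpenImmersion.lift_fac _ _ _
  have H1 : IsPullback (p ⁻¹ᵁ W').ι (p ∣_ W') p W'.ι := (isPullback_morphismRestrict p W').flip
  have H2 : IsPullback ((p ⁻¹ᵁ W').ι ≫ q) (p ∣_ W') f (l ≫ W.ι) := by
    rw [hl]
    exact H1.paste_horiz H
  have H3 : IsPullback (f ⁻¹ᵁ W).ι (f ∣_ W) f W.ι := (isPullback_morphismRestrict f W).flip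
  have H4 := IsPullback.of_right' H2 H3
  exact H4.isIso_snd_of_isIso

theorem isIso_basicOpen (H : IsPullback q p f g) (K : Y.IdealSheafData)
    (hV : IsIso (f ∣_ K.support.compl)) (U : Y.affineOpens) (e : (⊤ : S.Opens) ≤ g ⁻¹ᵁ U.1)
    (k : Γ(Y, U.1)) (hk : k ∈ K.ideal U) : IsIso (p ∣_ S.basicOpen (g.appLE U.1 ⊤ e k)) := by
  refine isIso_restrict H K.support.compl hV _ ?_
  intro x hx
  have h1 : g x ∈ U.1 := e trivial
  have h2 : S.basicOpen (g.appLE U.1 ⊤ e k) ≤ g ⁻¹ᵁ Y.basicOpen k := by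
    rw [Scheme.Hom.appLE, CommRingCat.comp_apply]
    refine (Scheme.basicOpen_res S _ _).le.trans ?_
    rw [← Scheme.preimage_basicOpen]
    exact inf_le_right
  have h3 : g x ∈ Y.basicOpen k := h2 hx
  change g x ∉ (K.support : Set Y)
  intro h4
  have h5 : g x ∈ Y.zeroLocus (U := U.1) (K.ideal U : Set Γ(Y, U.1)) :=
    K.supportSet_subset_zeroLocus U h4
  exact (Y.mem_zeroLocus_iff _ _).1 h5 k hk h3

end Two

end Groth.Agent.FormalB.PpIso507
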