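import Groth.Agent.FormalB.PrincLin

/-!
# `A`-linear long exact sequence, explicit short exact sequences `M → N → P`
-/

set_option autoImplicit false
universe u

open CategoryTheory CategoryTheory.Limits AlgebraicGeometry Opposite

namespace Groth.Agent.FormalB.PrincLin2

open Groth.Agent.CohqB.HSeqMod Groth.Agent.FormalB.ModPow Groth.Agent.FormalB.PrincLin

variable (A : Type u) [CommRing A] {X : Scheme.{u}} [X.Over (Spec (CommRingCat.of A))]
  {M N P : X.Modules} (φ : M ⟶ N) (ψ : N ⟶ P) (w : φ ≫ ψ = 0)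

/-- The `A`-linear connecting map. -/
noncomputable def δ3 (hS : (ShortComplex.mk φ ψ w).ShortExact) (n : ℕ) :
    Coh.HH X P n →ₗ[A] Coh.HH X M (n + 1) :=
  δL A hS n

theorem exact_P (hS : (ShortComplex.mk φ ψ w).ShortExact) (n : ℕ) (x : Coh.HH X P n)
    (hx : δ3 A φ ψ w hS n x = 0) : ∃ y : Coh.HH X N n, hmapL A ψ n y = x :=
  exact₃ hS n x hx

theorem exact_M (hS : (ShortComplex.mk φ ψ w).ShortExact) (n : ℕ) (x : Coh.HH X M (n + 1))
    (hx : hmapL A φ (n + 1) x = 0) : ∃ y : Coh.HH X P n, δ3 A φ ψ w hS n y = x :=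
  exact₁ hS n x hx

theorem exact_N (hS : (ShortComplex.mk φ ψ w).ShortExact) (n : ℕ) (x : Coh.HH X N n)
    (hx : hmapL A ψ n x = 0) : ∃ y : Coh.HH X M n, hmapL A φ n y = x :=
  exact₂ hS n x hx

theorem δ3_hmapL (hS : (ShortComplex.mk φ ψ w).ShortExact) (n : ℕ) (x : Coh.HH X N n) :
    δ3 A φ ψ w hS n (hmapL A ψ n x) = 0 :=
  δ_hmap hS n x

theorem HSeq_map_δ {S : ShortComplex (CohqB.HSeq.Sh X)} (hS : S.ShortExact) (n : ℕ)
    (x : Sheaf.H S.X₃ n) : Sheaf.H.map S.f (n + 1) (CohqB.HSeq.δ hS n x) = 0 := by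
  rw [CohqB.HSeq.δ_apply, Sheaf.H.map_apply,
    Abelian.Ext.comp_assoc (X := CohqB.HSeq.ZZ X) x hS.extClass (Abelian.Ext.mk₀ S.f) rfl
      (add_zero 1) (by omega), hS.extClass_comp, Abelian.Ext.comp_zero]

theorem hmapL_δ3 (hS : (ShortComplex.mk φ ψ w).ShortExact) (n : ℕ) (x : Coh.HH X P n) :
    hmapL A φ (n + 1) (δ3 A φ ψ w hS n x) = 0 :=
  HSeq_map_δ (CohqB.ToSheafExact.shortExact_toAb hS) n x

theorem H_map_zero_injective {F G : CohqB.HSeq.Sh X} (g : F ⟶ G) [Mono g] :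
    Function.Injective (Sheaf.H.map g 0) := by
  rw [injective_iff_map_eq_zero]
  intro x hx
  obtain ⟨y, rfl⟩ := (Abelian.Ext.mk₀_bijective (CohqB.HSeq.ZZ X) F).2 x
  rw [Sheaf.H.map_apply, Abelian.Ext.mk₀_comp_mk₀] at hx
  have h1 : y ≫ g = 0 := (Abelian.Ext.mk₀_bijective _ _).1 (by rw [hx, Abelian.Ext.mk₀_zero])
  have h2 : y = 0 := by rw [← cancel_mono g, h1, zero_comp]
  rw [h2, Abelian.Ext.mk₀_zero]

theorem hmapL_zero_injective [Mono φ] : Function.Injective (hmapL A φ 0) := by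
  have : Mono ((CohqB.ToSheafExact.toAbF X).map φ) := inferInstance
  exact H_map_zero_injective _

theorem δ3_naturality {M' N' P' : X.Modules} (φ' : M' ⟶ N') (ψ' : N' ⟶ P') (w' : φ' ≫ ψ' = 0)
    (hS : (ShortComplex.mk φ ψ w).ShortExact) (hS' : (ShortComplex.mk φ' ψ' w').ShortExact)
    (a : M ⟶ M') (b : N ⟶ N') (c : P ⟶ P') (h1 : a ≫ φ' = φ ≫ b) (h2 : b ≫ ψ' = ψ ≫ c)
    (n : ℕ) (x : Coh.HH X P n) :
    δ3 A φ' ψ' w' hS' n (hmapL A c n x) = hmapL A a (n + 1) (δ3 A φ ψ w hS n x) :=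
  δ_naturality hS hS' ⟨a, b, c, h1, h2⟩ n x

end Groth.Agent.FormalB.PrincLin2
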