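import Mathlib.RingTheory.AdicCompletion.Basic
import Mathlib.RingTheory.AdicCompletion.Noetherian
import Mathlib.RingTheory.Finiteness.Basic
import Groth.Agent.FormalA.AdicFin

set_option autoImplicit false

/-!
# Algebra of the towers `H^0(U, G_n)`, `H^1(U, G_n)` for `0 → G_n → G_{n+1} → G_0 → 0`

Pure algebra behind Stacks 0DXW / 0DXU (algebraization of formal locally free modules, principal ideal).
-/

namespace Groth.Agent.FormalB.TowerAlg

open Submodule

section LimFin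

variable {A : Type*} [CommRing A] (f : A)
  (R : ℕ → Type*) [∀ n, AddCommGroup (R n)] [∀ n, Module A (R n)]
  (ρ : ∀ n, R (n + 1) →ₗ[A] R n)

/-- The submodule of compatible families. -/
def lim : Submodule A (∀ n, R n) where
  carrier := {x | ∀ n, ρ n (x (n + 1)) = x n}
  zero_mem' := by intro n; simp
  add_mem' := by intro x y hx hy n; simp [hx n, hy n]
  smul_mem' := by intro a x hx n; simp [hx n]

theorem mem_lim (x : ∀ n, R n) : x ∈ lim R ρ ↔ ∀ n, ρ n (x (n + 1)) = x n := Iff.rfl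

variable {R ρ} in
theorem mem_span_pow_smul_top {L : Type*} [AddCommGroup L] [Module A L] (n : ℕ) (x : L) :
    x ∈ (Ideal.span {f} ^ n • (⊤ : Submodule A L)) ↔ ∃ y, x = f ^ n • y := by
  rw [Ideal.span_singleton_pow, Submodule.ideal_span_singleton_smul]
  constructor
  · intro h
    obtain ⟨y, _, hy⟩ := Submodule.mem_smul_pointwise_iff_exists _ _ _ |>.1 h
    exact ⟨y, hy.symm⟩
  · rintro ⟨y, rfl⟩
    exact Submodule.smul_mem_pointwise_smul _ _ _ trivial

/-- If a tower is killed degreewise by `f^(n+1)`, if a compatible family vanishing in position `n` is divisible by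
`f^(n+1)` within compatible families, and if the image of the limit in position `0` is finite, then the limit is
finite over the `f`-adically complete ring `A`. -/
theorem finite_lim [IsPrecomplete (Ideal.span {f}) A]
    (hk : ∀ n (x : R n), f ^ (n + 1) • x = 0)
    (hdiv : ∀ n, ∀ x ∈ lim R ρ, x n = 0 → ∃ y ∈ lim R ρ, x = f ^ (n + 1) • y)
    (hfin : ((lim R ρ).map (LinearMap.proj 0)).FG) :
    Module.Finite A (lim R ρ) := by
  classical
  let L := lim R ρ
  let v : ∀ n, L →ₗ[A] R n := fun n => (LinearMap.proj n).comp L.subtype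
  let M : ℕ → Type _ := fun n => LinearMap.range (v n)
  let g : ∀ n, M (n + 1) →ₗ[A] M n := fun n =>
    ((ρ n).comp (LinearMap.range (v (n + 1))).subtype).codRestrict _ (by
      rintro ⟨_, x, rfl⟩
      exact ⟨x, (x.2 n).symm⟩)
  let pr : ∀ n, L →ₗ[A] M n := fun n => (v n).rangeRestrict
  have hprs : ∀ n, Function.Surjective (pr n) := fun n => (v n).surjective_rangeRestrict
  have hpr : ∀ n x, g n (pr (n + 1) x) = pr n x := by
    intro n x
    apply Subtype.ext
    exact x.2 n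
  have hgs : ∀ n, Function.Surjective (g n) := by
    intro n y
    obtain ⟨x, rfl⟩ := hprs n y
    exact ⟨pr (n + 1) x, hpr n x⟩
  have hkM : ∀ n, Ideal.span {f} ^ (n + 1) • (⊤ : Submodule A (M n)) = ⊥ := by
    intro n
    rw [eq_bot_iff]
    intro x hx
    obtain ⟨y, rfl⟩ := (mem_span_pow_smul_top f (n + 1) x).1 hx
    rw [Submodule.mem_bot]
    apply Subtype.ext
    exact hk n y.1
  have hker : ∀ n, LinearMap.ker (g n) = Ideal.span {f} ^ (n + 1) • (⊤ : Submodule A (M (n + 1))) := by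
    intro n
    ext y
    rw [mem_span_pow_smul_top, LinearMap.mem_ker]
    constructor
    · intro hy
      obtain ⟨x, rfl⟩ := hprs (n + 1) y
      rw [hpr] at hy
      obtain ⟨z, hz, hxz⟩ := hdiv n x.1 x.2 (congrArg Subtype.val hy)
      refine ⟨pr (n + 1) ⟨z, hz⟩, ?_⟩
      rw [← map_smul]
      congr 1
      exact Subtype.ext hxz
    · rintro ⟨y, rfl⟩
      rw [map_smul]
      apply Subtype.ext
      exact hk n _
  have : Module.Finite A (M 0) := by
    have : LinearMap.range (v 0) = (lim R ρ).map (LinearMap.proj 0) := by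
      ext x
      constructor
      · rintro ⟨y, rfl⟩
        exact ⟨y.1, y.2, rfl⟩
      · rintro ⟨y, hy, rfl⟩
        exact ⟨⟨y, hy⟩, rfl⟩
    rw [← this] at hfin
    exact Module.Finite.iff_fg.2 hfin
  refine (FormalA.AdicFin.limit_finite (Ideal.span {f}) M g hgs hkM hker pr hpr ?_ ?_).1
  · intro x hx
    apply Subtype.ext
    funext n
    exact congrArg Subtype.val (hx n)
  · intro x hx
    refine ⟨⟨fun n => (x n).1, fun n => congrArg Subtype.val (hx n)⟩, fun n => ?_⟩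
    apply Subtype.ext
    rfl

end LimFin


section Tower

/-- The data of the long exact sequences of `H^0`, `H^1` of the short exact sequences
`0 → G_n → G_{n+1} → G_0 → 0` of a tower. `P n = H^0(G_n)`, `Q n = H^1(G_n)`, `π`, `ρ` transition maps,
`μ`, `ν` induced by multiplication by `f` as a map `G_n → G_{n+1}`, `p0`, `q0` the maps to position `0` and
`δ n : H^0(G_0) → H^1(G_n)` the connecting maps. -/
structure Tower (A : Type*) [CommRing A] (f : A)
    (P : ℕ → Type*) [∀ n, AddCommGroup (P n)] [∀ n, Module A (P n)]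
    (Q : ℕ → Type*) [∀ n, AddCommGroup (Q n)] [∀ n, Module A (Q n)] where
  π : ∀ n, P (n + 1) →ₗ[A] P n
  ρ : ∀ n, Q (n + 1) →ₗ[A] Q n
  μ : ∀ n, P n →ₗ[A] P (n + 1)
  ν : ∀ n, Q n →ₗ[A] Q (n + 1)
  p0 : ∀ n, P n →ₗ[A] P 0
  q0 : ∀ n, Q n →ₗ[A] Q 0
  δ : ∀ n, P 0 →ₗ[A] Q n
  p0_zero : ∀ x, p0 0 x = x
  p0_succ : ∀ n x, p0 n (π n x) = p0 (n + 1) x
  q0_zero : ∀ x, q0 0 x = x
  q0_succ : ∀ n x, q0 n (ρ n x) = q0 (n + 1) x
  fP : ∀ x : P 0, f • x = 0
  fQ : ∀ x : Q 0, f • x = 0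
  μπ : ∀ n x, μ n (π n x) = f • x
  πμ : ∀ n x, π n (μ n x) = f • x
  νρ : ∀ n x, ν n (ρ n x) = f • x
  ρν : ∀ n x, ρ n (ν n x) = f • x
  μ_inj : ∀ n, Function.Injective (μ n)
  exP : ∀ n (x : P (n + 1)), p0 (n + 1) x = 0 → ∃ y, μ n y = x
  exPδ : ∀ n (x : P 0), δ n x = 0 → ∃ y : P (n + 1), p0 (n + 1) y = x
  δp0 : ∀ n (y : P (n + 1)), δ n (p0 (n + 1) y) = 0
  exQδ : ∀ n (y : Q n), ν n y = 0 → ∃ x, δ n x = y
  νδ : ∀ n (x : P 0), ν n (δ n x) = 0
  exQ : ∀ n (x : Q (n + 1)), q0 (n + 1) x = 0 → ∃ y, ν n y = x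
  hδ : ∀ n x, ρ n (δ (n + 1) x) = δ n x

variable {A : Type*} [CommRing A] {f : A}
    {P : ℕ → Type*} [∀ n, AddCommGroup (P n)] [∀ n, Module A (P n)]
    {Q : ℕ → Type*} [∀ n, AddCommGroup (Q n)] [∀ n, Module A (Q n)]

theorem zero_of_le {R : ℕ → Type*} [∀ n, AddCommGroup (R n)] [∀ n, Module A (R n)]
    (ρ : ∀ n, R (n + 1) →ₗ[A] R n) {x : ∀ n, R n} (hx : x ∈ lim R ρ) {m n : ℕ} (h : m ≤ n)
    (hn : x n = 0) : x m = 0 := by
  induction n, h using Nat.le_induction with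
  | base => exact hn
  | succ n hmn ih => exact ih (by rw [← hx n, hn, map_zero])

namespace Tower

variable (T : Tower A f P Q)

include T in
theorem killP (n : ℕ) (x : P n) : f ^ (n + 1) • x = 0 := by
  induction n with
  | zero => simpa using T.fP x
  | succ n ih => rw [pow_succ', mul_smul, ← T.μπ, map_smul, ih, map_zero]

include T in
theorem killQ (n : ℕ) (x : Q n) : f ^ (n + 1) • x = 0 := by
  induction n with
  | zero => simpa using T.fQ x
  | succ n ih => rw [pow_succ', mul_smul, ← T.νρ, map_smul, ih, map_zero]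

/-- `lim H^1`. -/
abbrev N : Submodule A (∀ n, Q n) := lim Q T.ρ

/-- `lim H^0`. -/
abbrev M : Submodule A (∀ n, P n) := lim P T.π

theorem p0_apply {x : ∀ n, P n} (L : ℕ) (hx : ∀ k < L, T.π k (x (k + 1)) = x k) (n : ℕ) (hn : n ≤ L) :
    T.p0 n (x n) = x 0 := by
  induction n with
  | zero => exact T.p0_zero _
  | succ n ih => rw [← T.p0_succ, hx n (by omega), ih (by omega)]

theorem q0_apply {x : ∀ n, Q n} (hx : x ∈ T.N) (n : ℕ) : T.q0 n (x n) = x 0 := by
  induction n with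
  | zero => exact T.q0_zero _
  | succ n ih => rw [← T.q0_succ, hx n, ih]

theorem p0_μ (n : ℕ) (x : P n) : T.p0 (n + 1) (T.μ n x) = 0 := by
  rw [← T.p0_succ, T.πμ, map_smul, T.fP]

/-- A compatible family of `H^1` classes vanishing in position `n` is `f` times a compatible family vanishing in
position `n - 1`. -/
theorem N_div_step (x : ∀ n, Q n) (hx : x ∈ T.N) (n : ℕ) (hn : x n = 0) :
    ∃ y ∈ T.N, x = f • y ∧ ∀ m, m + 1 ≤ n → y m = 0 := by
  classical
  have h0 : x 0 = 0 := zero_of_le T.ρ hx (Nat.zero_le n) hn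
  -- solutions in each degree
  have hex : ∀ k, ∃ y : Q k, T.ν k y = x (k + 1) := by
    intro k
    apply T.exQ
    rw [T.q0_apply hx, h0]
  -- the lifting step
  have hstep : ∀ k (y : {y : Q k // T.ν k y = x (k + 1) ∧ (k + 1 ≤ n → y = 0)}),
      ∃ y' : {y : Q (k + 1) // T.ν (k + 1) y = x (k + 1 + 1) ∧ (k + 1 + 1 ≤ n → y = 0)}, T.ρ k y'.1 = y.1 := by
    rintro k ⟨y, hy, hy0⟩
    by_cases hk : k + 1 + 1 ≤ n
    · refine ⟨⟨0, ?_, fun _ => rfl⟩, ?_⟩
      · rw [map_zero, zero_of_le T.ρ hx hk hn]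
      · rw [map_zero]
        exact (hy0 (by omega)).symm
    · obtain ⟨z, hz⟩ := hex (k + 1)
      have h1 : T.ν k (T.ρ k z - y) = 0 := by
        rw [map_sub, hy, T.νρ, ← T.ρν (k + 1), hz, hx (k + 1), sub_self]
      obtain ⟨w, hw⟩ := T.exQδ k _ h1
      refine ⟨⟨z - T.δ (k + 1) w, ?_, fun h => absurd h hk⟩, ?_⟩
      · rw [map_sub, hz, T.νδ, sub_zero]
      · rw [map_sub, T.hδ, hw]; abel
  choose nx hnx using hstep
  have hst : ∃ y : Q 0, T.ν 0 y = x (0 + 1) ∧ (0 + 1 ≤ n → y = 0) := by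
    by_cases hk : 0 + 1 ≤ n
    · exact ⟨0, by rw [map_zero, zero_of_le T.ρ hx hk hn], fun _ => rfl⟩
    · obtain ⟨y, hy⟩ := hex 0
      exact ⟨y, hy, fun h => absurd h hk⟩
  obtain ⟨y0, hy0⟩ := hst
  let Y : ∀ k, {y : Q k // T.ν k y = x (k + 1) ∧ (k + 1 ≤ n → y = 0)} := fun k =>
    Nat.rec ⟨y0, hy0⟩ (fun k y => nx k y) k
  refine ⟨fun k => (Y k).1, fun k => hnx k (Y k), ?_, fun m hm => (Y m).2.2 hm⟩
  funext k
  change x k = f • (Y k).1
  rw [← T.ρν, (Y k).2.1, hx k]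

theorem N_div (n : ℕ) : ∀ x ∈ T.N, x n = 0 → ∃ y ∈ T.N, x = f ^ (n + 1) • y := by
  induction n with
  | zero =>
    intro x hx hn
    obtain ⟨y, hy, hxy, -⟩ := T.N_div_step x hx 0 hn
    exact ⟨y, hy, by simpa using hxy⟩
  | succ n ih =>
    intro x hx hn
    obtain ⟨y, hy, hxy, hyn⟩ := T.N_div_step x hx (n + 1) hn
    obtain ⟨z, hz, hyz⟩ := ih y hy (hyn n le_rfl)
    exact ⟨z, hz, by rw [hxy, hyz, smul_smul, ← pow_succ']⟩

theorem M_div_step (x : ∀ n, P n) (hx : x ∈ T.M) (n : ℕ) (hn : x n = 0) :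
    ∃ y ∈ T.M, x = f • y ∧ ∀ m, m + 1 ≤ n → y m = 0 := by
  have h0 : x 0 = 0 := zero_of_le T.π hx (Nat.zero_le n) hn
  have hex : ∀ k, ∃ y : P k, T.μ k y = x (k + 1) := by
    intro k
    apply T.exP
    rw [T.p0_apply (k + 1) (fun k _ => hx k) (k + 1) le_rfl, h0]
  choose y hy using hex
  refine ⟨y, ?_, ?_, ?_⟩
  · intro k
    apply T.μ_inj
    rw [T.μπ, ← T.πμ (k + 1), hy, hx, hy]
  · funext k
    change x k = f • y k
    rw [← T.πμ, hy, hx]
  · intro m hm
    apply T.μ_inj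
    rw [hy, map_zero, zero_of_le T.π hx hm hn]

theorem M_div (n : ℕ) : ∀ x ∈ T.M, x n = 0 → ∃ y ∈ T.M, x = f ^ (n + 1) • y := by
  induction n with
  | zero =>
    intro x hx hn
    obtain ⟨y, hy, hxy, -⟩ := T.M_div_step x hx 0 hn
    exact ⟨y, hy, by simpa using hxy⟩
  | succ n ih =>
    intro x hx hn
    obtain ⟨y, hy, hxy, hyn⟩ := T.M_div_step x hx (n + 1) hn
    obtain ⟨z, hz, hyz⟩ := ih y hy (hyn n le_rfl)
    exact ⟨z, hz, by rw [hxy, hyz, smul_smul, ← pow_succ']⟩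

/-- `f` is a nonzerodivisor on `lim H^0`. -/
theorem M_torsionFree (x : ∀ n, P n) (hx : x ∈ T.M) (h : f • x = 0) : x = 0 := by
  funext n
  apply T.μ_inj
  rw [← hx n, T.μπ, Pi.zero_apply, map_zero]
  exact congrFun h (n + 1)

theorem finite_M [IsNoetherianRing A] [IsPrecomplete (Ideal.span {f}) A] [Module.Finite A (P 0)] :
    Module.Finite A T.M :=
  finite_lim f P T.π T.killP T.M_div (IsNoetherian.noetherian _)

theorem finite_N [IsNoetherianRing A] [IsPrecomplete (Ideal.span {f}) A] (m : ℕ)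
    (hm : (LinearMap.range (T.q0 m)).FG) : Module.Finite A T.N := by
  refine finite_lim f Q T.ρ T.killQ T.N_div ?_
  have h1 : (T.N).map (LinearMap.proj 0) ≤ LinearMap.range (T.q0 m) := by
    rintro _ ⟨x, hx, rfl⟩
    exact ⟨x m, T.q0_apply hx m⟩
  exact Submodule.FG.of_le hm h1

/-- The connecting maps vanish from one position on. -/
theorem exists_stable [IsNoetherianRing A] (hN : Module.Finite A T.N) :
    ∃ c : ℕ, ∀ w : P 0, T.δ c w = 0 → ∀ n, T.δ n w = 0 := by
  let K : ℕ →o Submodule A T.N :=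
    { toFun := fun k => LinearMap.ker (LinearMap.lsmul A T.N (f ^ k))
      monotone' := by
        intro i j hij x hx
        simp only [LinearMap.mem_ker, LinearMap.lsmul_apply] at hx ⊢
        obtain ⟨k, rfl⟩ := Nat.exists_eq_add_of_le hij
        rw [pow_add, mul_comm, mul_smul, hx, smul_zero] }
  obtain ⟨c, hc⟩ := monotone_stabilizes_iff_noetherian.2 (inferInstance : IsNoetherian A T.N) K
  refine ⟨c, fun w hw => ?_⟩
  have hmem : (fun n => T.δ n w) ∈ T.N := fun n => T.hδ n w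
  obtain ⟨y, hy, hxy⟩ := T.N_div c _ hmem hw
  have h1 : f ^ (c + 2) • y = 0 := by
    have : f • (fun n => T.δ n w) = (0 : ∀ n, Q n) := by
      funext n
      change f • T.δ n w = 0
      rw [← map_smul, T.fP, map_zero]
    rw [hxy, smul_smul, ← pow_succ'] at this
    exact this
  have h2 : (⟨y, hy⟩ : T.N) ∈ K (c + 2) := by
    change f ^ (c + 2) • (⟨y, hy⟩ : T.N) = 0
    exact Subtype.ext h1
  rw [← hc (c + 2) (by omega), hc (c + 1) (by omega)] at h2
  have h3 : f ^ (c + 1) • y = 0 := congrArg Subtype.val h2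
  rw [h3] at hxy
  exact fun n => congrFun hxy n

theorem exists_partial (L : ℕ) (y : P L) :
    ∃ z : ∀ n, P n, z L = y ∧ ∀ k < L, T.π k (z (k + 1)) = z k := by
  classical
  induction L with
  | zero => exact ⟨Function.update 0 0 y, by simp, by simp⟩
  | succ L ih =>
    obtain ⟨z, hz, hz'⟩ := ih (T.π L y)
    refine ⟨Function.update z (L + 1) y, by simp, ?_⟩
    intro k hk
    rcases Nat.lt_succ_iff_lt_or_eq.1 hk with h | rfl
    · rw [Function.update_of_ne (by omega), Function.update_of_ne (by omega), hz' k h]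
    · rw [Function.update_self, Function.update_of_ne (by omega), hz]

theorem exists_extend (c : ℕ) (hc : ∀ w : P 0, T.δ c w = 0 → ∀ n, T.δ n w = 0) (n : ℕ) :
    ∀ z : ∀ n, P n, (∀ k < n + c + 1, T.π k (z (k + 1)) = z k) →
      ∃ w : ∀ n, P n, (∀ k < n + c + 2, T.π k (w (k + 1)) = w k) ∧ ∀ k ≤ n, w k = z k := by
  induction n with
  | zero =>
    intro z hz
    have h1 : T.δ c (z 0) = 0 := by
      rw [← T.p0_apply (0 + c + 1) hz (c + 1) (by omega)]
      exact T.δp0 c _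
    obtain ⟨y, hy⟩ := T.exPδ (0 + c + 1) (z 0) (hc _ h1 _)
    obtain ⟨w, hw, hw'⟩ := T.exists_partial (0 + c + 1 + 1) y
    refine ⟨w, hw', fun k hk => ?_⟩
    obtain rfl : k = 0 := by omega
    rw [← hy, ← hw, T.p0_apply (0 + c + 1 + 1) hw' _ le_rfl]
  | succ n ih =>
    intro z hz
    have h1 : T.δ c (z 0) = 0 := by
      rw [← T.p0_apply (n + 1 + c + 1) hz (c + 1) (by omega)]
      exact T.δp0 c _
    obtain ⟨y, hy⟩ := T.exPδ (n + 1 + c + 1) (z 0) (hc _ h1 _)
    obtain ⟨w, hw, hw'⟩ := T.exists_partial (n + 1 + c + 1 + 1) y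
    have hw0 : w 0 = z 0 := by
      rw [← hy, ← hw, T.p0_apply (n + 1 + c + 1 + 1) hw' _ le_rfl]
    -- the difference
    have hd : ∀ k < n + 1 + c + 1, T.π k ((z - w) (k + 1)) = (z - w) k := by
      intro k hk
      simp only [Pi.sub_apply, map_sub, hz k hk, hw' k (by omega)]
    have hd0 : (z - w) 0 = 0 := by simp [hw0]
    have hex : ∀ k, ∃ e : P k, k ≤ n + 1 + c → T.μ k e = (z - w) (k + 1) := by
      intro k
      by_cases hk : k ≤ n + 1 + c
      · obtain ⟨e, he⟩ := T.exP k ((z - w) (k + 1)) (by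
          rw [T.p0_apply (n + 1 + c + 1) hd (k + 1) (by omega), hd0])
        exact ⟨e, fun _ => he⟩
      · exact ⟨0, fun h => absurd h hk⟩
    choose e he using hex
    have he' : ∀ k < n + c + 1, T.π k (e (k + 1)) = e k := by
      intro k hk
      apply T.μ_inj
      rw [T.μπ, ← T.πμ (k + 1), he (k + 1) (by omega), hd (k + 1) (by omega), he k (by omega)]
    obtain ⟨e', he1, he2⟩ := ih e he'
    let σ : ∀ k, P k := fun k => Nat.casesOn k 0 (fun k => T.μ k (e' k))
    have hσ0 : σ 0 = 0 := rfl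
    have hσs : ∀ k, σ (k + 1) = T.μ k (e' k) := fun k => rfl
    refine ⟨w + σ, ?_, ?_⟩
    · intro k hk
      simp only [Pi.add_apply, map_add]
      rw [hw' k (by omega), hσs, T.πμ]
      congr 1
      cases k with
      | zero => rw [hσ0, T.fP]
      | succ k => rw [hσs, ← he1 k (by omega), T.μπ]
    · intro k hk
      simp only [Pi.add_apply]
      cases k with
      | zero => rw [hσ0, add_zero, hw0]
      | succ k =>
        rw [hσs, he2 k (by omega), he k (by omega)]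
        simp

theorem exists_lift (c : ℕ) (hc : ∀ w : P 0, T.δ c w = 0 → ∀ n, T.δ n w = 0) (x : P 0)
    (hx : T.δ c x = 0) : ∃ z ∈ T.M, z 0 = x := by
  classical
  obtain ⟨y, hy⟩ := T.exPδ c x hx
  obtain ⟨z0, hz0, hz0'⟩ := T.exists_partial (c + 1) y
  have hz00 : z0 0 = x := by rw [← hy, ← hz0, T.p0_apply (c + 1) hz0' _ le_rfl]
  choose nx hnx1 hnx2 using T.exists_extend c hc
  let Z : ∀ n, {z : ∀ n, P n // ∀ k < n + c + 1, T.π k (z (k + 1)) = z k} := fun n =>
    Nat.rec ⟨z0, fun k hk => hz0' k (hk.trans_eq (by simp))⟩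
      (fun n z => ⟨nx n z.1 z.2, fun k hk => hnx1 n z.1 z.2 k (by omega)⟩) n
  have hZ : ∀ n, ∀ k ≤ n, (Z (n + 1)).1 k = (Z n).1 k := fun n => hnx2 n (Z n).1 (Z n).2
  refine ⟨fun n => (Z n).1 n, fun n => ?_, hz00⟩
  rw [(Z (n + 1)).2 n (by omega)]
  exact hZ n n le_rfl

/-- The ideal of elements multiplying `P n` into the image of `lim H^0`. -/
def J (n : ℕ) : Ideal A := ((T.M).map (LinearMap.proj n)).colon (⊤ : Submodule A (P n))

theorem mem_J (n : ℕ) (a : A) : a ∈ T.J n ↔ ∀ y : P n, ∃ z ∈ T.M, z n = a • y := by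
  rw [J, Submodule.mem_colon]
  constructor
  · intro h y
    exact h y trivial
  · intro h y _
    exact h y

theorem J_mul (n : ℕ) : T.J 0 * T.J n ≤ T.J (n + 1) := by
  rw [Ideal.mul_le]
  intro a ha b hb
  rw [mem_J] at ha hb ⊢
  intro y
  obtain ⟨m, hm, hm0⟩ := ha (T.p0 (n + 1) y)
  obtain ⟨w, hw⟩ := T.exP n (a • y - m (n + 1)) (by
    rw [map_sub, map_smul, T.p0_apply (n + 1) (fun k _ => hm k) (n + 1) le_rfl, hm0, sub_self])
  obtain ⟨m', hm', hm'n⟩ := hb w
  refine ⟨b • m + f • m', add_mem (Submodule.smul_mem _ _ hm) (Submodule.smul_mem _ _ hm'), ?_⟩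
  simp only [Pi.add_apply, Pi.smul_apply]
  rw [← T.μπ, hm' n, hm'n, map_smul, hw, smul_sub, mul_comm, mul_smul]
  abel

theorem J_zero_pow_le (n : ℕ) : T.J 0 ^ (n + 1) ≤ T.J n := by
  induction n with
  | zero => simp
  | succ n ih =>
    rw [pow_succ']
    exact (Ideal.mul_mono_right ih).trans (T.J_mul n)

variable (𝔞 : Ideal A)

theorem exists_pow_le_J_zero [IsNoetherianRing A] [IsPrecomplete (Ideal.span {f}) A]
    [Module.Finite A (P 0)] (hQ : ∀ n (x : Q n), ∃ k : ℕ, ∀ a ∈ 𝔞 ^ k, a • x = 0) (m : ℕ)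
    (hm : (LinearMap.range (T.q0 m)).FG) : ∃ e : ℕ, 𝔞 ^ e ≤ T.J 0 := by
  classical
  obtain ⟨c, hc⟩ := T.exists_stable (T.finite_N m hm)
  obtain ⟨s, hs⟩ := (Module.Finite.fg_top : (⊤ : Submodule A (P 0)).FG)
  choose k hk using fun w : P 0 => hQ c (T.δ c w)
  refine ⟨s.sup k, fun a ha => ?_⟩
  rw [mem_J]
  intro y
  have h1 : ∀ y : P 0, a • T.δ c y = 0 := by
    intro y
    have hy : y ∈ Submodule.span A (s : Set (P 0)) := hs ▸ trivial
    induction hy using Submodule.span_induction with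
    | mem w hw =>
      exact hk w a (Ideal.pow_le_pow_right (Finset.le_sup (f := k) hw) ha)
    | zero => simp
    | add x y _ _ hx hy => rw [map_add, smul_add, hx, hy, add_zero]
    | smul b x _ hx => rw [map_smul, smul_comm, hx, smul_zero]
  exact T.exists_lift c hc (a • y) (by rw [map_smul]; exact h1 y)

/-- Main algebraic statement: for each `n`, a power of `𝔞` multiplies `H^0(G_n)` into the image of
`lim H^0`. -/
theorem exists_pow_le_J [IsNoetherianRing A] [IsPrecomplete (Ideal.span {f}) A]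
    [Module.Finite A (P 0)] (hQ : ∀ n (x : Q n), ∃ k : ℕ, ∀ a ∈ 𝔞 ^ k, a • x = 0) (m : ℕ)
    (hm : (LinearMap.range (T.q0 m)).FG) (n : ℕ) : ∃ e : ℕ, 𝔞 ^ e ≤ T.J n := by
  obtain ⟨e, he⟩ := T.exists_pow_le_J_zero 𝔞 hQ m hm
  refine ⟨e * (n + 1), ?_⟩
  rw [pow_mul]
  exact (Ideal.pow_right_mono he (n + 1)).trans (T.J_zero_pow_le n)

end Tower

end Tower

end Groth.Agent.FormalB.TowerAlg
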