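import Groth.Agent.FormalB.ModPow
import Groth.Agent.FormalB.TowerAlg
import Groth.Agent.FormalB.HMod

/-!
# The towers `H^0(X, G_n)`, `H^1(X, G_n)` of a formal system for a principal ideal
-/

set_option autoImplicit false
universe u

open CategoryTheory CategoryTheory.Limits AlgebraicGeometry Opposite

namespace Groth.Agent.FormalB.PrincTower

open Groth.Agent.FormalB.ModPow Groth.Agent.FormalB.HMod



section Princ

variable {A : Type u} [CommRing A] {X : Scheme.{u}} [X.Over (Spec (CommRingCat.of A))]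
  {f : A} {G : ℕᵒᵖ ⥤ X.Modules}

/-- transition map of the system -/
noncomputable abbrev tr (G : ℕᵒᵖ ⥤ X.Modules) (n : ℕ) : G.obj (op (n + 1)) ⟶ G.obj (op n) :=
  G.map (homOfLE (Nat.le_succ n)).op

/-- the map to position `0` -/
noncomputable abbrev t0 (G : ℕᵒᵖ ⥤ X.Modules) (n : ℕ) : G.obj (op n) ⟶ G.obj (op 0) :=
  G.map (homOfLE (Nat.zero_le n)).op

theorem tr_t0 (G : ℕᵒᵖ ⥤ X.Modules) (n : ℕ) : tr G n ≫ t0 G n = t0 G (n + 1) :=
  (map_homOfLE_comp G (Nat.zero_le n) (Nat.le_succ n)).symm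

theorem t0_zero (G : ℕᵒᵖ ⥤ X.Modules) : t0 G 0 = 𝟙 _ := map_homOfLE_self G (Nat.zero_le 0)

/-- Multiplication by `f` descends to a map `G_n → G_{n+1}`. -/
theorem exists_mu (hG : IsFormal (Ideal.span {f}) G) (n : ℕ) :
    ∃ μ : G.obj (op n) ⟶ G.obj (op (n + 1)), tr G n ≫ μ = Formal.smulMod A _ f := by
  refine (hG.succ n).desc _ (fun a ha => ?_)
  rw [← smulMod_mul]
  apply hG.killed (n + 1)
  rw [pow_succ']
  exact Ideal.mul_mem_mul (Ideal.mem_span_singleton_self f) ha

/-- Multiplication by `f` as a map `G_n → G_{n+1}`. -/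
noncomputable def mu (hG : IsFormal (Ideal.span {f}) G) (n : ℕ) :
    G.obj (op n) ⟶ G.obj (op (n + 1)) := (exists_mu hG n).choose

theorem tr_mu (hG : IsFormal (Ideal.span {f}) G) (n : ℕ) :
    tr G n ≫ mu hG n = Formal.smulMod A _ f := (exists_mu hG n).choose_spec

theorem mu_tr (hG : IsFormal (Ideal.span {f}) G) (n : ℕ) :
    mu hG n ≫ tr G n = Formal.smulMod A _ f := by
  have := (hG.succ n).epi
  rw [← cancel_epi (tr G n), ← Category.assoc, tr_mu, smulMod_naturality]

theorem smulMod_f_eq_zero (hG : IsFormal (Ideal.span {f}) G) :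
    Formal.smulMod A (G.obj (op 0)) f = 0 :=
  hG.killed 0 f (by simp)

theorem mu_t0 (hG : IsFormal (Ideal.span {f}) G) (n : ℕ) : mu hG n ≫ t0 G (n + 1) = 0 := by
  rw [← tr_t0, ← Category.assoc, mu_tr, smulMod_naturality, smulMod_f_eq_zero hG, comp_zero]

/-- naturality of `mu`. -/
theorem mu_naturality (hG : IsFormal (Ideal.span {f}) G) (n : ℕ) :
    mu hG (n + 1) ≫ tr G (n + 1) = tr G n ≫ mu hG n := by
  rw [mu_tr, tr_mu]

theorem sc_shortExact (hG : IsFormal (Ideal.span {f}) G) (n : ℕ) (hmono : Mono (mu hG n)) :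
    (ShortComplex.mk (mu hG n) (t0 G (n + 1)) (mu_t0 hG n)).ShortExact := by
  have hq := hG.isModPow (Nat.zero_le (n + 1))
  have hepi : Epi (t0 G (n + 1)) := hq.epi
  refine { exact := ?_, mono_f := hmono, epi_g := hepi }
  have key : ∀ {Z : X.Modules} (k : G.obj (op (n + 1)) ⟶ Z), mu hG n ≫ k = 0 →
      ∃ ψ : G.obj (op 0) ⟶ Z, t0 G (n + 1) ≫ ψ = k := by
    intro Z k hk
    refine hq.desc k ?_
    intro a ha
    rw [zero_add, pow_one] at ha
    obtain ⟨b, rfl⟩ := Ideal.mem_span_singleton'.1 ha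
    have h1 : Formal.smulMod A (G.obj (op (n + 1))) f ≫ k = 0 := by
      rw [← tr_mu hG, Category.assoc, hk, comp_zero]
    rw [mul_comm, smulMod_mul, Category.assoc, h1, comp_zero]
  apply ShortComplex.exact_of_g_is_cokernel
  refine CokernelCofork.IsColimit.ofπ _ _ (fun {Z} k hk => (key k hk).choose) (fun {Z} k hk =>
    (key k hk).choose_spec) (fun {Z} k hk m hm => ?_)
  exact (cancel_epi (t0 G (n + 1))).1 (hm.trans (key k hk).choose_spec.symm)

/-- `H^p(G_n)` as an `A`-module. -/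
noncomputable abbrev HG (A : Type u) [CommRing A] {X : Scheme.{u}} [X.Over (Spec (CommRingCat.of A))]
    (G : ℕᵒᵖ ⥤ X.Modules) (p n : ℕ) : ModuleCat.{u} A := (HM A X p).obj (G.obj (op n))

/-- The tower of cohomology groups in degrees `0` and `1`. -/
noncomputable def tower (hG : IsFormal (Ideal.span {f}) G) (hmono : ∀ n, Mono (mu hG n)) :
    TowerAlg.Tower A f (fun n => HG A G 0 n) (fun n => HG A G 1 n) where
  π n := ((HM A X 0).map (tr G n)).hom
  ρ n := ((HM A X 1).map (tr G n)).hom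
  μ n := ((HM A X 0).map (mu hG n)).hom
  ν n := ((HM A X 1).map (mu hG n)).hom
  p0 n := ((HM A X 0).map (t0 G n)).hom
  q0 n := ((HM A X 1).map (t0 G n)).hom
  δ n := (dm A (mu hG n) (t0 G (n + 1)) (mu_t0 hG n) (sc_shortExact hG n (hmono n)) 0).hom
  p0_zero x := by rw [t0_zero, CategoryTheory.Functor.map_id]; rfl
  p0_succ n x := by rw [← LinearMap.comp_apply, ← ModuleCat.hom_comp, ← Functor.map_comp, tr_t0]
  q0_zero x := by rw [t0_zero, CategoryTheory.Functor.map_id]; rfl
  q0_succ n x := by rw [← LinearMap.comp_apply, ← ModuleCat.hom_comp, ← Functor.map_comp, tr_t0]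
  fP x := by rw [← map_smulMod, smulMod_f_eq_zero hG, Functor.map_zero]; rfl
  fQ x := by rw [← map_smulMod, smulMod_f_eq_zero hG, Functor.map_zero]; rfl
  μπ n x := by
    rw [← LinearMap.comp_apply, ← ModuleCat.hom_comp, ← Functor.map_comp, tr_mu, ← map_smulMod]
  πμ n x := by
    rw [← LinearMap.comp_apply, ← ModuleCat.hom_comp, ← Functor.map_comp, mu_tr, ← map_smulMod]
  νρ n x := by
    rw [← LinearMap.comp_apply, ← ModuleCat.hom_comp, ← Functor.map_comp, tr_mu, ← map_smulMod]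
  ρν n x := by
    rw [← LinearMap.comp_apply, ← ModuleCat.hom_comp, ← Functor.map_comp, mu_tr, ← map_smulMod]
  μ_inj n := haveI := hmono n; map_zero_injective A (mu hG n)
  exP n x hx := exact_N A _ _ _ (sc_shortExact hG n (hmono n)) 0 x hx
  exPδ n x hx := exact_P A _ _ _ (sc_shortExact hG n (hmono n)) 0 x hx
  δp0 n y := dm_map A _ _ _ (sc_shortExact hG n (hmono n)) 0 y
  exQδ n y hy := exact_M A _ _ _ (sc_shortExact hG n (hmono n)) 0 y hy
  νδ n x := map_dm A _ _ _ (sc_shortExact hG n (hmono n)) 0 x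
  exQ n x hx := exact_N A _ _ _ (sc_shortExact hG n (hmono n)) 1 x hx
  hδ n x := by
    have := dm_naturality A _ _ _ _ _ _ (sc_shortExact hG (n + 1) (hmono (n + 1)))
      (sc_shortExact hG n (hmono n)) (tr G n) (tr G (n + 1)) (𝟙 _) (mu_naturality hG n).symm
      (by rw [tr_t0, Category.comp_id]) 0
    rw [CategoryTheory.Functor.map_id, Category.id_comp] at this
    rw [← this]
    rfl

end Princ

end Groth.Agent.FormalB.PrincTower
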