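import Mathlib.RingTheory.AdicCompletion.Basic
import Groth.Prelude.Def_Formal2

/-!
# Towers under a module, up to pro-isomorphism with `H / I^n H`

Abstract algebra: `H` an `A`-module, `G n` a tower of abelian groups with compatible maps `f n : H → G n`.  If the
kernels of `f k` are eventually contained in `I^n H` and the images of `G k → G n` are eventually contained in the
image of `f n`, then `AdicCompletion I H → lim G n` is bijective and `R^1 lim G n = 0`.
-/

set_option autoImplicit false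
universe u

namespace Groth.Agent.FormalB.ProComplete

section Tower

variable {G : ℕ → Type u} [∀ n, AddCommGroup (G n)] (t : ∀ n, G (n + 1) →+ G n) {H : Type u} [AddCommGroup H]
  (f : ∀ n, H →+ G n) (s : ∀ {n m : ℕ}, n ≤ m → G m →+ G n)

/-- A tower of abelian groups receiving compatible maps from a fixed group, such that the images of the transition
maps are eventually contained in the images of the fixed group, has vanishing `R^1 lim`. -/
theorem surjective_towerDiff_of
    (hs : ∀ n x, s (le_refl n) x = x) (hts : ∀ n m (h : n + 1 ≤ m) (x : G m), t n (s h x) = s ((Nat.le_succ n).trans h) x)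
    (hf : ∀ n x, t n (f (n + 1) x) = f n x)
    (key : ∀ n, ∃ m : ℕ, n ≤ m ∧ ∀ (k : ℕ) (_ : m ≤ k) (h : n ≤ k) (z : G k), ∃ x : H, f n x = s h z) :
    Function.Surjective (Formal2.towerDiff G t) := by
  intro y
  choose M₀ hM₀ hM₀' using key
  let M : ℕ → ℕ := fun n => (Finset.range (n + 1)).sup M₀
  have hMmono : ∀ n, M n ≤ M (n + 1) := fun n =>
    Finset.sup_mono (Finset.range_mono (Nat.le_succ _))
  have hM1 : ∀ n, M₀ n ≤ M n := fun n => Finset.le_sup (f := M₀) (Finset.self_mem_range_succ n)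
  have hM2 : ∀ n, n ≤ M n := fun n => (hM₀ n).trans (hM1 n)
  let T : ∀ n (_ : ℕ), G n := fun n j =>
    if h : n ≤ j then s h (y j) else 0
  have hT : ∀ n j, n + 1 ≤ j → t n (T (n + 1) j) = T n j := by
    intro n j hj
    simp only [T, dif_pos hj, dif_pos ((Nat.le_succ n).trans hj)]
    exact hts n j hj (y j)
  let b₁ : ∀ n, G n := fun n => ∑ j ∈ Finset.Ico n (M n), T n j
  have hb : ∀ n, ∃ x : H, f n x = y n - (b₁ n - t n (b₁ (n + 1))) := by
    intro n
    have h1 : t n (b₁ (n + 1)) = ∑ j ∈ Finset.Ico (n + 1) (M (n + 1)), T n j := by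
      simp only [b₁]
      rw [map_sum]
      exact Finset.sum_congr rfl (fun j hj => hT n j (Finset.mem_Ico.1 hj).1)
    have h2 : ∀ j ∈ Finset.Ico (M n) (M (n + 1)), ∃ x : H, f n x = T n j := by
      intro j hj
      have h3 := (Finset.mem_Ico.1 hj).1
      have h4 : n ≤ j := (hM2 n).trans h3
      simp only [T, dif_pos h4]
      exact hM₀' n j ((hM1 n).trans h3) h4 (y j)
    have h5 : ∑ j ∈ Finset.Ico n (M (n + 1)), T n j = y n + ∑ j ∈ Finset.Ico (n + 1) (M (n + 1)), T n j := by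
      have hn : n < M (n + 1) := lt_of_lt_of_le (Nat.lt_succ_self n) (hM2 (n + 1))
      rw [Finset.sum_eq_sum_Ico_succ_bot hn]
      congr 1
      simp only [T, dif_pos (le_refl n)]
      exact hs n _
    have h6 : ∑ j ∈ Finset.Ico n (M n), T n j + ∑ j ∈ Finset.Ico (M n) (M (n + 1)), T n j =
        ∑ j ∈ Finset.Ico n (M (n + 1)), T n j :=
      Finset.sum_Ico_consecutive _ (hM2 n) (hMmono n)
    have h7 : y n - (b₁ n - t n (b₁ (n + 1))) = ∑ j ∈ Finset.Ico (M n) (M (n + 1)), T n j := by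
      rw [h1]
      simp only [b₁]
      rw [h5] at h6
      rw [← sub_eq_zero]
      have h8 : y n - (∑ j ∈ Finset.Ico n (M n), T n j - ∑ j ∈ Finset.Ico (n + 1) (M (n + 1)), T n j) -
          ∑ j ∈ Finset.Ico (M n) (M (n + 1)), T n j =
          (y n + ∑ j ∈ Finset.Ico (n + 1) (M (n + 1)), T n j) -
            (∑ j ∈ Finset.Ico n (M n), T n j + ∑ j ∈ Finset.Ico (M n) (M (n + 1)), T n j) := by abel
      rw [h8, h6, sub_self]
    choose! xx hxx using h2
    refine ⟨∑ j ∈ Finset.Ico (M n) (M (n + 1)), xx j, ?_⟩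
    rw [h7, map_sum]
    exact Finset.sum_congr rfl (fun j hj => hxx j hj)
  choose h hh using hb
  let B : ℕ → H := fun n => - ∑ j ∈ Finset.range n, h j
  refine ⟨fun n => b₁ n + f n (B n), ?_⟩
  funext n
  change (b₁ n + f n (B n)) - t n (b₁ (n + 1) + f (n + 1) (B (n + 1))) = y n
  rw [map_add, hf]
  have h9 : B (n + 1) = B n - h n := by
    simp only [B, Finset.sum_range_succ]
    abel
  rw [h9, map_sub, hh n]
  abel

/-- the components of a compatible family. -/
theorem compat_map (hs : ∀ n x, s (le_refl n) x = x)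
    (hst : ∀ n m (h : n ≤ m) (x : G (m + 1)), s h (t m x) = s (h.trans (Nat.le_succ m)) x)
    (y : ∀ n, G n) (hy : ∀ n, t n (y (n + 1)) = y n) {n m : ℕ} (h : n ≤ m) : s h (y m) = y n := by
  induction m, h using Nat.le_induction with
  | base => exact hs n _
  | succ m hm ih => rw [← hst n m hm, hy, ih]

end Tower

section Completion

variable {A : Type u} [CommRing A] (I : Ideal A) {G : ℕ → Type u} [∀ n, AddCommGroup (G n)]
  (t : ∀ n, G (n + 1) →+ G n) {H : Type u} [AddCommGroup H] [Module A H]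
  (f : ∀ n, H →+ G n) (s : ∀ {n m : ℕ}, n ≤ m → G m →+ G n)

/-- The map `H / I^(n+1) H → G n`. -/
noncomputable def φ (hfI : ∀ n, ∀ a ∈ I ^ (n + 1), ∀ x, f n (a • x) = 0) (n : ℕ) :
    (H ⧸ (I ^ (n + 1) • ⊤ : Submodule A H)) →+ G n :=
  QuotientAddGroup.lift _ (f n) (by
    intro x hx
    rw [AddMonoidHom.mem_ker]
    refine Submodule.smul_induction_on (p := fun x => f n x = 0) (show x ∈ (I ^ (n + 1) • ⊤ : Submodule A H) from hx)
      (fun a ha y _ => hfI n a ha y) (fun x y hx hy => by rw [map_add, hx, hy, add_zero]))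

theorem φ_mk (hfI : ∀ n, ∀ a ∈ I ^ (n + 1), ∀ x, f n (a • x) = 0) (n : ℕ) (x : H) :
    φ I f hfI n (Submodule.Quotient.mk x) = f n x := rfl

theorem val_eq_mk (x : AdicCompletion I H) {n m : ℕ} (h : n ≤ m) (z : H)
    (hz : Submodule.Quotient.mk z = x.val m) : x.val n = Submodule.Quotient.mk z := by
  rw [← x.2 h, ← hz]
  rfl

variable (hfI : ∀ n, ∀ a ∈ I ^ (n + 1), ∀ x, f n (a • x) = 0) (hf : ∀ n x, t n (f (n + 1) x) = f n x)
  (L : AddSubgroup (∀ n, G n)) (hL : ∀ x : ∀ n, G n, x ∈ L ↔ ∀ n, t n (x (n + 1)) = x n)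

include hf in
theorem φ_trans (x : AdicCompletion I H) (n : ℕ) :
    t n (φ I f hfI (n + 1) (x.val (n + 2))) = φ I f hfI n (x.val (n + 1)) := by
  obtain ⟨h, hh⟩ := Submodule.Quotient.mk_surjective _ (x.val (n + 2))
  have h1 : x.val (n + 1) = Submodule.Quotient.mk h := val_eq_mk I x (Nat.le_succ (n + 1)) h hh
  rw [← hh, h1, φ_mk, φ_mk, hf]

/-- The comparison map `AdicCompletion I H → lim G n`. -/
noncomputable def β : AdicCompletion I H →+ L where
  toFun x := ⟨fun n => φ I f hfI n (x.val (n + 1)), (hL _).2 (φ_trans I t f hfI hf x)⟩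
  map_zero' := by
    ext n
    exact map_zero (φ I f hfI n)
  map_add' x y := by
    ext n
    exact map_add (φ I f hfI n) _ _

theorem β_apply (x : AdicCompletion I H) (n : ℕ) :
    (β I t f hfI hf L hL x : ∀ n, G n) n = φ I f hfI n (x.val (n + 1)) := rfl

theorem β_injective (key₁ : ∀ n, ∃ m : ℕ, ∀ k : ℕ, m ≤ k → ∀ x : H, f k x = 0 → x ∈ (I ^ n) • (⊤ : Submodule A H)) :
    Function.Injective (β I t f hfI hf L hL) := by
  rw [injective_iff_map_eq_zero]
  intro x hx
  ext n
  obtain ⟨m, hm⟩ := key₁ n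
  let k := max m n
  obtain ⟨h, hh⟩ := Submodule.Quotient.mk_surjective _ (x.val (k + 1))
  have h1 : (β I t f hfI hf L hL x : ∀ n, G n) k = 0 := by rw [hx]; rfl
  rw [β_apply, ← hh, φ_mk] at h1
  have h2 := hm k (le_max_left _ _) h h1
  have h3 : x.val n = Submodule.Quotient.mk h := val_eq_mk I x ((le_max_right m n).trans (Nat.le_succ k)) h hh
  rw [h3]
  exact (Submodule.Quotient.mk_eq_zero _).2 h2

theorem β_surjective (hs : ∀ n x, s (le_refl n) x = x)
    (hst : ∀ n m (h : n ≤ m) (x : G (m + 1)), s h (t m x) = s (h.trans (Nat.le_succ m)) x)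
    (hsf : ∀ n m (h : n ≤ m) (x : H), s h (f m x) = f n x)
    (key₁ : ∀ n, ∃ m : ℕ, ∀ k : ℕ, m ≤ k → ∀ x : H, f k x = 0 → x ∈ (I ^ n) • (⊤ : Submodule A H))
    (key₂ : ∀ n, ∃ m : ℕ, n ≤ m ∧ ∀ (k : ℕ) (_ : m ≤ k) (h : n ≤ k) (z : G k), ∃ x : H, f n x = s h z) :
    Function.Surjective (β I t f hfI hf L hL) := by
  rintro ⟨y, hy⟩
  rw [hL] at hy
  have key : ∀ n, ∃ x : H, f n x = y n := by
    intro n
    obtain ⟨m, hm, h⟩ := key₂ n
    obtain ⟨x, hx⟩ := h m le_rfl hm (y m)
    exact ⟨x, hx.trans (compat_map t s hs hst y hy hm)⟩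
  choose x hx using key
  choose m hm using key₁
  have h1 : ∀ n k l, m n ≤ k → m n ≤ l →
      (Submodule.Quotient.mk (x k) : H ⧸ (I ^ n • ⊤ : Submodule A H)) = Submodule.Quotient.mk (x l) := by
    have h2 : ∀ n k l, m n ≤ k → k ≤ l →
      (Submodule.Quotient.mk (x k) : H ⧸ (I ^ n • ⊤ : Submodule A H)) = Submodule.Quotient.mk (x l) := by
      intro n k l hk hkl
      rw [Submodule.Quotient.eq]
      refine hm n k hk _ ?_
      rw [map_sub, hx, ← hsf k l hkl, hx, compat_map t s hs hst y hy hkl, sub_self]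
    intro n k l hk hl
    rcases le_total k l with h | h
    · exact h2 n k l hk h
    · exact (h2 n l k hl h).symm
  let z : AdicCompletion I H :=
    ⟨fun n => Submodule.Quotient.mk (x (m n)), by
      intro a b hab
      refine Eq.trans ?_ (h1 a (m a) (max (m a) (m b)) le_rfl (le_max_left _ _)).symm
      have h3 := congrArg (AdicCompletion.transitionMap I H hab)
        (h1 b (m b) (max (m a) (m b)) le_rfl (le_max_right _ _))
      exact h3⟩
  refine ⟨z, Subtype.ext (funext fun n => ?_)⟩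
  rw [β_apply]
  change φ I f hfI n (Submodule.Quotient.mk (x (m (n + 1)))) = y n
  rw [h1 (n + 1) (m (n + 1)) (max (m (n + 1)) n) le_rfl (le_max_left _ _), φ_mk,
    ← hsf n _ (le_max_right (m (n + 1)) n), hx, compat_map t s hs hst y hy]

/-- Summary: a bijective comparison map. -/
theorem exists_bijective (hfI : ∀ n, ∀ a ∈ I ^ (n + 1), ∀ x, f n (a • x) = 0) (hf : ∀ n x, t n (f (n + 1) x) = f n x)
    (L : AddSubgroup (∀ n, G n)) (hL : ∀ x : ∀ n, G n, x ∈ L ↔ ∀ n, t n (x (n + 1)) = x n)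
    (hs : ∀ n x, s (le_refl n) x = x)
    (hst : ∀ n m (h : n ≤ m) (x : G (m + 1)), s h (t m x) = s (h.trans (Nat.le_succ m)) x)
    (hsf : ∀ n m (h : n ≤ m) (x : H), s h (f m x) = f n x)
    (key₁ : ∀ n, ∃ m : ℕ, ∀ k : ℕ, m ≤ k → ∀ x : H, f k x = 0 → x ∈ (I ^ n) • (⊤ : Submodule A H))
    (key₂ : ∀ n, ∃ m : ℕ, n ≤ m ∧ ∀ (k : ℕ) (_ : m ≤ k) (h : n ≤ k) (z : G k), ∃ x : H, f n x = s h z) :
    ∃ β : AdicCompletion I H →+ L, Function.Bijective β ∧
      ∀ (x : AdicCompletion I H) (n : ℕ) (h : H), AdicCompletion.eval I H (n + 1) x = Submodule.Quotient.mk h →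
        (β x : ∀ n, G n) n = f n h := by
  refine ⟨β I t f hfI hf L hL, ⟨β_injective I t f hfI hf L hL key₁,
    β_surjective I t f s hfI hf L hL hs hst hsf key₁ key₂⟩, fun x n h hx => ?_⟩
  rw [β_apply]
  have h2 : x.val (n + 1) = Submodule.Quotient.mk h := hx
  rw [h2, φ_mk]

end Completion

end Groth.Agent.FormalB.ProComplete
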