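import Groth.Agent.FormalB.ProTower
import Groth.Agent.FormalB.ProComplete

/-!
# Theorem on formal functions for schemes with finite cohomology modules

`A` Noetherian, `X` a Noetherian scheme over `Spec A`, `F` coherent with all `H^p(X, F)` finite `A`-modules (for
instance `X` proper).  Then `H^p(X, F)^ → lim H^p(X, F / I^n F)` is bijective (`exists_bijective_HH`) and
`R^1 lim H^p(X, F / I^n F) = 0` (`surjective_towerDiff_HH`).
-/

set_option autoImplicit false
universe u

open CategoryTheory CategoryTheory.Limits AlgebraicGeometry Opposite TopologicalSpace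

namespace Groth.Agent.FormalB.ProHH

open CohqB.HSeqMod ModPow ProTower ProStep

variable {A : Type u} [CommRing A] (I : Ideal A) {X : Scheme.{u}} [X.Over (Spec (CommRingCat.of A))] (F : X.Modules)

/-- the projections `F / I^(m+1) F → F / I^(n+1) F`. -/
noncomputable def trM {n m : ℕ} (h : n ≤ m) : Formal.modPow I (m + 1) F ⟶ Formal.modPow I (n + 1) F :=
  cokernel.desc _ (Formal.modPowπ I (n + 1) F)
    (Formal.smulFamily_π_of_le (Ideal.pow_le_pow_right (Nat.succ_le_succ h)) F)

@[reassoc]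
theorem π_trM {n m : ℕ} (h : n ≤ m) :
    Formal.modPowπ I (m + 1) F ≫ trM I F h = Formal.modPowπ I (n + 1) F :=
  cokernel.π_desc _ _ _

theorem trM_self (n : ℕ) : trM I F (le_refl n) = 𝟙 _ := by
  rw [← cancel_epi (Formal.modPowπ I (n + 1) F), π_trM, Category.comp_id]

theorem trM_trM {n m k : ℕ} (h : n ≤ m) (h' : m ≤ k) : trM I F h' ≫ trM I F h = trM I F (h.trans h') := by
  rw [← cancel_epi (Formal.modPowπ I (k + 1) F), π_trM_assoc, π_trM, π_trM]

theorem trM_succ (n : ℕ) : trM I F (Nat.le_succ n) = Formal.modPowTrans I (n + 1) F := by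
  rw [← cancel_epi (Formal.modPowπ I (n + 1 + 1) F), Formal.modPowπ_trans]
  exact π_trM I F _

/-- the transition maps. -/
noncomputable def tr (p : ℕ) {n m : ℕ} (h : n ≤ m) : Formal.HHmodPow I F p m →+ Formal.HHmodPow I F p n :=
  hmap (trM I F h) p

theorem trans_eq (p n : ℕ) : Formal.HHmodPowTrans I F p n = tr I F p (Nat.le_succ n) := by
  rw [tr, trM_succ]
  rfl

theorem to_eq (p n : ℕ) : Formal.toHHmodPow I F p n = hmap (Formal.modPowπ I (n + 1) F) p := rfl

theorem tr_self (p n : ℕ) (x : Formal.HHmodPow I F p n) : tr I F p (le_refl n) x = x := by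
  rw [tr, trM_self]
  exact hmap_id_apply p x

theorem tr_tr (p : ℕ) {n m k : ℕ} (h : n ≤ m) (h' : m ≤ k) (x : Formal.HHmodPow I F p k) :
    tr I F p h (tr I F p h' x) = tr I F p (h.trans h') x := by
  rw [tr, tr, tr, ← hmap_comp_apply, trM_trM]

theorem tr_to (p : ℕ) {n m : ℕ} (h : n ≤ m) (x : Coh.HH X F p) :
    tr I F p h (Formal.toHHmodPow I F p m x) = Formal.toHHmodPow I F p n x := by
  rw [tr, to_eq, to_eq, ← hmap_comp_apply, π_trM]

theorem to_smul (p n : ℕ) (a : A) (ha : a ∈ I ^ (n + 1)) (x : Coh.HH X F p) :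
    Formal.toHHmodPow I F p n (a • x) = 0 := by
  rw [to_eq, ← hmap_smulMod, ← hmap_comp_apply, (isModPow_modPowπ I (n + 1) F).smul_comp a ha, hmap_zero_apply]

theorem trans_tr (p : ℕ) (n m : ℕ) (h : n + 1 ≤ m) (x : Formal.HHmodPow I F p m) :
    Formal.HHmodPowTrans I F p n (tr I F p h x) = tr I F p ((Nat.le_succ n).trans h) x := by
  rw [trans_eq, tr_tr]

theorem tr_trans (p : ℕ) (n m : ℕ) (h : n ≤ m) (x : Formal.HHmodPow I F p (m + 1)) :
    tr I F p h (Formal.HHmodPowTrans I F p m x) = tr I F p (h.trans (Nat.le_succ m)) x := by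
  rw [trans_eq, tr_tr]

theorem trans_to (p n : ℕ) (x : Coh.HH X F p) :
    Formal.HHmodPowTrans I F p n (Formal.toHHmodPow I F p (n + 1) x) = Formal.toHHmodPow I F p n x := by
  rw [trans_eq, tr_to]

section Finite

variable [IsNoetherianRing A] [AlgebraicGeometry.IsNoetherian X]

theorem key₁ (hF : Coh.IsCoh F) (hfin : ∀ p : ℕ, Module.Finite A (Coh.HH X F p)) (p n : ℕ) :
    ∃ m : ℕ, ∀ k : ℕ, m ≤ k → ∀ x : Coh.HH X F p, Formal.toHHmodPow I F p k x = 0 →
      x ∈ (I ^ n) • (⊤ : Submodule A (Coh.HH X F p)) := by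
  obtain ⟨m, hm⟩ := exists_ker_le I hF hfin p n
  exact ⟨m, fun k hk x hx => hm (k + 1) (by omega) x hx⟩

theorem key₂ (hF : Coh.IsCoh F) (hfin : ∀ p : ℕ, Module.Finite A (Coh.HH X F p)) (p n : ℕ) :
    ∃ m : ℕ, n ≤ m ∧ ∀ (k : ℕ) (_ : m ≤ k) (h : n ≤ k) (z : Formal.HHmodPow I F p k),
      ∃ x : Coh.HH X F p, Formal.toHHmodPow I F p n x = tr I F p h z := by
  obtain ⟨m, hm, h⟩ := exists_lift_of_trans I hF hfin p (n + 1)
  exact ⟨m, by omega, fun k hk h' z => h (k + 1) (by omega) (trM I F h') (π_trM I F h') z⟩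

/-- `R^1 lim H^p(X, F / I^n F) = 0`. -/
theorem surjective_towerDiff_HH (hF : Coh.IsCoh F)
    (hfin : ∀ p : ℕ, Module.Finite A (Coh.HH X F p)) (p : ℕ) :
    Function.Surjective (Formal2.towerDiff (fun n => Formal.HHmodPow I F p n)
      (fun n => Formal.HHmodPowTrans I F p n)) :=
  ProComplete.surjective_towerDiff_of (G := fun n => Formal.HHmodPow I F p n)
    (fun n => Formal.HHmodPowTrans I F p n) (fun n => Formal.toHHmodPow I F p n)
    (fun {n m} h => tr I F p h) (fun n x => tr_self I F p n x) (trans_tr I F p) (trans_to I F p)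
    (fun n => key₂ I F hF hfin p n)

/-- `H^p(X, F)^ ≅ lim H^p(X, F / I^n F)`. -/
theorem exists_bijective_HH (hF : Coh.IsCoh F) (hfin : ∀ p : ℕ, Module.Finite A (Coh.HH X F p)) (p : ℕ) :
    ∃ β : AdicCompletion I (Coh.HH X F p) →+ Formal.HHlim I F p, Function.Bijective β ∧
      ∀ (x : AdicCompletion I (Coh.HH X F p)) (n : ℕ) (h : Coh.HH X F p),
        AdicCompletion.eval I (Coh.HH X F p) (n + 1) x = Submodule.Quotient.mk h →
          (β x : ∀ n, Formal.HHmodPow I F p n) n = Formal.toHHmodPow I F p n h :=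
  ProComplete.exists_bijective I (G := fun n => Formal.HHmodPow I F p n)
    (fun n => Formal.HHmodPowTrans I F p n) (fun n => Formal.toHHmodPow I F p n)
    (fun {n m} h => tr I F p h) (fun n a ha x => to_smul I F p n a ha x) (trans_to I F p)
    (Formal.HHlim I F p) (fun x => Iff.rfl)
    (fun n x => tr_self I F p n x) (tr_trans I F p) (fun n m h x => tr_to I F p h x)
    (fun n => key₁ I F hF hfin p n) (fun n => key₂ I F hF hfin p n)

end Finite

end Groth.Agent.FormalB.ProHH
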