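import Groth.Agent.FormalB.ArtinReesMod
import Groth.Agent.CohqB.HSeqMod

/-!
# The principal step: cohomology of `G_n / g^n G_n` up to pro-isomorphism

`G ⟶ H` a morphism of O_X-modules over `Spec A`, `g : A`.  `TB g e H` says that the `g`-power torsion of `H` is
killed by `g ^ e`.  `step_a` and `step_b` are the two halves of the statement that
`H^p(G_n) / g^n → H^p(G_n / g^n G_n)` is an isomorphism of inverse systems up to shift, provided that the `g`-power
torsion of the images in `H^(p+1)` is bounded.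
-/

set_option autoImplicit false
universe u

open CategoryTheory CategoryTheory.Limits AlgebraicGeometry Opposite TopologicalSpace

namespace Groth.Agent.FormalB.ProStep

open ModPow CohqB.HSeqMod

variable {A : Type u} [CommRing A] {X : Scheme.{u}} [X.Over (Spec (CommRingCat.of A))]

/-- the `g`-power torsion of `H` is killed by `g ^ e`. -/
def TB (g : A) (e : ℕ) (H : X.Modules) : Prop :=
  ∀ (k : ℕ) {K : X.Modules} (κ : K ⟶ H), κ ≫ Formal.smulMod A H (g ^ k) = 0 → κ ≫ Formal.smulMod A H (g ^ e) = 0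

theorem smulMod_pow_add (M : X.Modules) (g : A) (a b : ℕ) :
    Formal.smulMod A M (g ^ (a + b)) = Formal.smulMod A M (g ^ a) ≫ Formal.smulMod A M (g ^ b) := by
  rw [add_comm, pow_add, smulMod_mul]

theorem smulMod_pow_of_add (M : X.Modules) (g : A) {a b c : ℕ} (h : a + b = c) :
    Formal.smulMod A M (g ^ c) = Formal.smulMod A M (g ^ a) ≫ Formal.smulMod A M (g ^ b) := by
  rw [← h, smulMod_pow_add]

theorem hmap_smulMod (M : X.Modules) (a : A) (p : ℕ) (x : Coh.HH X M p) :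
    hmap (Formal.smulMod A M a) p x = a • x := rfl

theorem hmap_smul {M N : X.Modules} (φ : M ⟶ N) (a : A) (p : ℕ) (x : Coh.HH X M p) :
    hmap φ p (a • x) = a • hmap φ p x := by
  rw [← hmap_smulMod, ← hmap_smulMod, ← hmap_comp_apply, ← hmap_comp_apply, smulMod_naturality]

/-- multiplication by `g ^ k`. -/
noncomputable abbrev mu (g : A) (k : ℕ) (M : X.Modules) : M ⟶ M := Formal.smulMod A M (g ^ k)

/-- the image of `g ^ k`. -/
noncomputable abbrev Im (g : A) (k : ℕ) (M : X.Modules) : X.Modules := Abelian.image (mu g k M)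

/-- the projection onto the image. -/
noncomputable abbrev ip (g : A) (k : ℕ) (M : X.Modules) : M ⟶ Im g k M := Abelian.factorThruImage (mu g k M)

/-- the inclusion of the image. -/
noncomputable abbrev ii (g : A) (k : ℕ) (M : X.Modules) : Im g k M ⟶ M := Abelian.image.ι (mu g k M)

/-- `M / g ^ k M`. -/
noncomputable abbrev Cok (g : A) (k : ℕ) (M : X.Modules) : X.Modules := cokernel (mu g k M)

@[reassoc]
theorem ip_ii (g : A) (k : ℕ) (M : X.Modules) : ip g k M ≫ ii g k M = mu g k M :=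
  Abelian.image.fac _

/-- the short exact sequence `0 → g^k M → M → M / g^k M → 0`. -/
noncomputable def ses (g : A) (k : ℕ) (M : X.Modules) : ShortComplex X.Modules :=
  ShortComplex.mk (ii g k M) (cokernel.π (mu g k M)) (kernel.condition _)

theorem ses_shortExact (g : A) (k : ℕ) (M : X.Modules) : (ses g k M).ShortExact where
  exact := ShortComplex.exact_of_f_is_kernel _ (kernelIsKernel _)
  mono_f := (inferInstance : Mono (ii g k M))
  epi_g := (inferInstance : Epi (cokernel.π (mu g k M)))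

theorem hseq_map_δ {S : ShortComplex (CohqB.HSeq.Sh X)}
    (hS : S.ShortExact) (n : ℕ) (x : Sheaf.H S.X₃ n) :
    Sheaf.H.map S.f (n + 1) (CohqB.HSeq.δ hS n x) = 0 := by
  rw [CohqB.HSeq.δ_apply, Sheaf.H.map_apply,
    Abelian.Ext.comp_assoc (X := CohqB.HSeq.ZZ X) x hS.extClass
      (Abelian.Ext.mk₀ S.f) rfl (add_zero 1) (by omega),
    hS.extClass_comp, Abelian.Ext.comp_zero]

theorem map_δ {S : ShortComplex X.Modules} (hS : S.ShortExact) (n : ℕ) (x : Coh.HH X S.X₃ n) :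
    hmap S.f (n + 1) (δ hS n x) = 0 :=
  hseq_map_δ (CohqB.ToSheafExact.shortExact_toAb hS) n x

theorem ses_exact₂ (g : A) (k : ℕ) (M : X.Modules) (p : ℕ) (x : Coh.HH X M p)
    (hx : hmap (cokernel.π (mu g k M)) p x = 0) : ∃ y : Coh.HH X (Im g k M) p, hmap (ii g k M) p y = x :=
  exact₂ (ses_shortExact g k M) p x hx

theorem ses_exact₃ (g : A) (k : ℕ) (M : X.Modules) (p : ℕ) (x : Coh.HH X (Cok g k M) p)
    (hx : (δ (ses_shortExact g k M) p x : Coh.HH X (Im g k M) (p + 1)) = 0) :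
    ∃ y : Coh.HH X M p, hmap (cokernel.π (mu g k M)) p y = x :=
  exact₃ (ses_shortExact g k M) p x hx

/-- maps out of the image. -/
theorem exists_desc (g : A) (k : ℕ) {M Z : X.Modules} (φ : M ⟶ Z)
    (h : kernel.ι (mu g k M) ≫ φ = 0) : ∃ ψ : Im g k M ⟶ Z, ip g k M ≫ ψ = φ := by
  have h' : kernel.ι (ip g k M) ≫ φ = 0 := by
    have h1 : kernel.ι (ip g k M) ≫ mu g k M = 0 := by
      rw [← ip_ii, kernel.condition_assoc, zero_comp]
    rw [← kernel.lift_ι (mu g k M) _ h1, Category.assoc, h, comp_zero]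
  exact ⟨Abelian.epiDesc (ip g k M) φ h', Abelian.comp_epiDesc _ _ _⟩

/-- the map induced on images by `t : G ⟶ H`. -/
theorem exists_imMap (g : A) (m n : ℕ) (h : n ≤ m) {G H : X.Modules} (t : G ⟶ H) :
    ∃ τ : Im g m G ⟶ Im g n H, τ ≫ ii g n H = ii g m G ≫ t ∧ ip g m G ≫ τ = mu g (m - n) G ≫ t ≫ ip g n H := by
  obtain ⟨τ, hτ⟩ := exists_desc g m (mu g (m - n) G ≫ t ≫ ip g n H) (by
    rw [← cancel_mono (ii g n H)]
    simp only [Category.assoc, ip_ii, zero_comp]
    rw [← smulMod_naturality, ← Category.assoc (mu g (m - n) G),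
      ← smulMod_pow_of_add G g (Nat.sub_add_cancel h), kernel.condition_assoc, zero_comp])
  refine ⟨τ, ?_, hτ⟩
  rw [← cancel_epi (ip g m G), ← Category.assoc, hτ, ip_ii_assoc]
  simp only [Category.assoc, ip_ii]
  rw [← smulMod_naturality, ← Category.assoc (mu g (m - n) G),
      ← smulMod_pow_of_add G g (Nat.sub_add_cancel h)]

/-- First half. -/
theorem step_a (g : A) {e n m : ℕ} {G H : X.Modules} (t : G ⟶ H) (he : TB g e H) (hm : n + e ≤ m) (p : ℕ)
    (x : Coh.HH X G p) (hx : hmap (cokernel.π (mu g m G)) p x = 0) :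
    ∃ y : Coh.HH X H p, hmap t p x = (g ^ n) • y := by
  obtain ⟨x', rfl⟩ := ses_exact₂ g m G p x hx
  obtain ⟨τ, hτ, -⟩ := exists_imMap g m m le_rfl t
  obtain ⟨ψ, hψ⟩ := exists_desc g m (mu g (m - n) H) (by
    have h1 := he m (kernel.ι (mu g m H)) (kernel.condition _)
    have h2 : mu g (m - n) H = mu g e H ≫ mu g (m - n - e) H :=
      smulMod_pow_of_add H g (by omega)
    rw [h2, ← Category.assoc, h1, zero_comp])
  have h2 : ψ ≫ mu g n H = ii g m H := by
    rw [← cancel_epi (ip g m H), ← Category.assoc, hψ, ip_ii]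
    exact (smulMod_pow_of_add H g (by omega)).symm
  refine ⟨hmap (τ ≫ ψ) p x', ?_⟩
  have h3 : ii g m G ≫ t = τ ≫ ψ ≫ mu g n H := by
    rw [h2, hτ]
  rw [← hmap_comp_apply, h3, ← Category.assoc, hmap_comp_apply _ (mu g n H)]
  rfl

/-- Second half. -/
theorem step_b (g : A) {n m e M : ℕ} {G₁ G₂ G₃ : X.Modules} (t₁ : G₁ ⟶ G₂) (t₂ : G₂ ⟶ G₃)
    (he : TB g e G₂) (hm : n + e + M ≤ m) (p : ℕ)
    (hM : ∀ (k : ℕ) (z : Coh.HH X G₂ (p + 1)), (g ^ k) • hmap t₂ (p + 1) z = 0 →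
      (g ^ M) • hmap t₂ (p + 1) z = 0)
    (τ : Cok g m G₁ ⟶ Cok g n G₃) (hτ : cokernel.π (mu g m G₁) ≫ τ = t₁ ≫ t₂ ≫ cokernel.π (mu g n G₃))
    (y : Coh.HH X (Cok g m G₁) p) :
    ∃ x : Coh.HH X G₃ p, hmap (cokernel.π (mu g n G₃)) p x = hmap τ p y := by
  obtain ⟨ρ, hρ, hρ'⟩ := exists_imMap g m n (by omega) (t₁ ≫ t₂)
  obtain ⟨τ₁, hτ₁, hτ₁'⟩ := exists_imMap g m m le_rfl t₁
  obtain ⟨σ, hσ, hσ'⟩ := exists_imMap g m n (by omega) t₂
  obtain ⟨ψ, hψ⟩ := exists_desc g m (mu g e G₂) (he m (kernel.ι (mu g m G₂)) (kernel.condition _))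
  have h1 : ψ ≫ mu g (m - e) G₂ = ii g m G₂ := by
    rw [← cancel_epi (ip g m G₂), ← Category.assoc, hψ, ip_ii]
    exact (smulMod_pow_of_add G₂ g (by omega)).symm
  have h2 : σ = ψ ≫ mu g (m - n - e) G₂ ≫ t₂ ≫ ip g n G₃ := by
    rw [← cancel_epi (ip g m G₂), ← Category.assoc (ip g m G₂) ψ, hψ, hσ', ← Category.assoc (mu g e G₂),
      ← smulMod_pow_of_add G₂ g (a := e) (b := m - n - e) (c := m - n) (by omega)]
  have h3 : ρ = τ₁ ≫ σ := by
    rw [← cancel_mono (ii g n G₃), hρ, Category.assoc, hσ, reassoc_of% hτ₁]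
  let y' : Coh.HH X (Im g m G₁) (p + 1) := δ (ses_shortExact g m G₁) p y
  let φ : ses g m G₁ ⟶ ses g n G₃ :=
    { τ₁ := ρ
      τ₂ := t₁ ≫ t₂
      τ₃ := τ
      comm₁₂ := hρ
      comm₂₃ := by
        refine Eq.trans ?_ hτ.symm
        exact Category.assoc _ _ _ }
  have h4 : δ (ses_shortExact g n G₃) p (hmap τ p y) = hmap ρ (p + 1) y' :=
    δ_naturality (ses_shortExact g m G₁) (ses_shortExact g n G₃) φ p y
  have h5 : hmap (ii g m G₁) (p + 1) y' = 0 := map_δ (ses_shortExact g m G₁) p y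
  let z := hmap (τ₁ ≫ ψ) (p + 1) y'
  have h6 : (g ^ (m - e)) • z = 0 := by
    change (g ^ (m - e)) • hmap (τ₁ ≫ ψ) (p + 1) y' = 0
    rw [← hmap_smulMod, ← hmap_comp_apply, Category.assoc]
    erw [h1]
    rw [hτ₁, hmap_comp_apply, h5, map_zero]
  have h7 : (g ^ M) • hmap t₂ (p + 1) z = 0 := hM (m - e) z (by
    rw [← hmap_smul, h6, map_zero])
  have h8 : hmap ρ (p + 1) y' = 0 := by
    rw [h3, h2]
    have : τ₁ ≫ ψ ≫ mu g (m - n - e) G₂ ≫ t₂ ≫ ip g n G₃ =
        ((τ₁ ≫ ψ) ≫ t₂ ≫ mu g (m - n - e) G₃) ≫ ip g n G₃ := by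
      simp only [Category.assoc, smulMod_naturality_assoc]
    rw [this, hmap_comp_apply, hmap_comp_apply (τ₁ ≫ ψ), hmap_comp_apply t₂, hmap_smulMod]
    have h9 : g ^ (m - n - e) = g ^ (m - n - e - M) * g ^ M := by
      rw [← pow_add]; congr 1; omega
    rw [h9, mul_smul]
    erw [h7]
    rw [smul_zero, map_zero]
  exact exact₃ (ses_shortExact g n G₃) p _ (h4.trans h8)

theorem smul_eq_zero_of_factor {V : X.Opens} {H : X.Modules} (b c d : Γ(X, V)) (h : b = c * d) (s : Γ(H, V))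
    (hs : d • s = 0) : b • s = 0 := by
  rw [h, mul_smul, hs, smul_zero]

/-- On a Noetherian scheme the `g`-power torsion of a coherent module is bounded. -/
theorem exists_TB [IsNoetherian X] (g : A) {H : X.Modules} (hH : Coh.IsCoh H) : ∃ e, TB g e H := by
  obtain ⟨r, V, hV, hcov, hN⟩ := ArtinReesMod.exists_finite_affine_cover X
  have key : ∀ i, ∃ e : ℕ, ∀ (k : ℕ) (s : Γ(H, V i)), ModPowAff.toΓ A X (V i) (g ^ k) • s = 0 →
      ModPowAff.toΓ A X (V i) (g ^ e) • s = 0 := by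
    intro i
    have := hN i
    have := ArtinReesMod.finite_sections hH (hV i)
    let b := ModPowAff.toΓ A X (V i) g
    let K : ℕ →o Submodule Γ(X, V i) Γ(H, V i) :=
      { toFun := fun k => LinearMap.ker (LinearMap.lsmul Γ(X, V i) Γ(H, V i) (b ^ k))
        monotone' := by
          intro k l hkl s hs
          rw [LinearMap.mem_ker, LinearMap.lsmul_apply] at hs ⊢
          rw [← Nat.sub_add_cancel hkl, pow_add, mul_smul, hs, smul_zero] }
    obtain ⟨e, he⟩ := monotone_stabilizes_iff_noetherian.mpr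
      (inferInstance : IsNoetherian Γ(X, V i) Γ(H, V i)) K
    refine ⟨e, fun k s hs => ?_⟩
    rw [map_pow] at hs ⊢
    have h1 : s ∈ K (max e k) := K.monotone (le_max_right _ _) hs
    rw [← he _ (le_max_left _ _)] at h1
    exact h1
  choose k hk using key
  obtain ⟨e, he⟩ := (Set.finite_range k).bddAbove
  refine ⟨e, fun l K κ hκ => ?_⟩
  have h1 : ∀ (m : ℕ), kernel.ι (mu g m H) ≫ mu g e H = 0 := by
    intro m
    refine ModPowAff2.eq_zero_of_affine_cover (CohqB.QC4.isQuasicoherent_kernel _ hH.1 hH.1) _ fun x => ?_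
    obtain ⟨i, hi⟩ := hcov x
    refine ⟨V i, hi, hV i, fun s => ?_⟩
    have h2 : (kernel.ι (mu g m H) ≫ mu g m H).app (V i) s = 0 := by rw [kernel.condition]; rfl
    have h3 := hk i m ((kernel.ι (mu g m H)).app (V i) s) h2
    have h4 : g ^ e = g ^ (e - k i) * g ^ (k i) := by
      rw [← pow_add]; congr 1; have := he ⟨i, rfl⟩; omega
    exact smul_eq_zero_of_factor (ModPowAff.toΓ A X (V i) (g ^ e)) (ModPowAff.toΓ A X (V i) (g ^ (e - k i)))
      (ModPowAff.toΓ A X (V i) (g ^ k i)) (by rw [h4, map_mul]) _ h3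
  rw [← kernel.lift_ι (mu g l H) κ hκ, Category.assoc]
  erw [h1 l]
  rw [comp_zero]

end Groth.Agent.FormalB.ProStep
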