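import Groth.Agent.FormalB.ProStep
import Groth.Agent.Sga67.CohBasic
import Mathlib.RingTheory.AdicCompletion.Basic

/-!
# Cohomology of `F / (f_1^n, …, f_r^n) F` up to pro-isomorphism

`X` Noetherian over a Noetherian `A`, `F` coherent with finite cohomology modules.  For a list `l` of elements of `A`
the inverse systems `H^p(X, F) / (l^n)` and `H^p(X, F / (l^n) F)` are isomorphic up to shift (`Good`), and hence
(`exists_ker_le`, `exists_lift_of_trans`) the same holds for `H^p(X, F) / I^n` and `H^p(X, F / I^n F)`.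
-/

set_option autoImplicit false
universe u

open CategoryTheory CategoryTheory.Limits AlgebraicGeometry Opposite TopologicalSpace

namespace Groth.Agent.FormalB.ProTower

open ModPow CohqB.HSeqMod ProStep

variable {A : Type u} [CommRing A] {X : Scheme.{u}} [X.Over (Spec (CommRingCat.of A))]

/-- The tower `n ↦ T_n / g^n T_n`. -/
noncomputable def quotTower (T : ℕᵒᵖ ⥤ X.Modules) (g : A) : ℕᵒᵖ ⥤ X.Modules where
  obj n := Cok g n.unop (T.obj n)
  map {n m} f := cokernel.desc _ (T.map f ≫ cokernel.π (mu g m.unop (T.obj m))) (by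
    have h : m.unop ≤ n.unop := leOfHom f.unop
    rw [smulMod_naturality_assoc, smulMod_pow_of_add _ g (a := n.unop - m.unop) (b := m.unop) (by omega),
      Category.assoc, cokernel.condition, comp_zero, comp_zero])
  map_id n := by rw [← cancel_epi (cokernel.π _)]; simp
  map_comp f g := by rw [← cancel_epi (cokernel.π _)]; simp

/-- The projection. -/
noncomputable def qπ (T : ℕᵒᵖ ⥤ X.Modules) (g : A) (n : ℕ) : T.obj (op n) ⟶ (quotTower T g).obj (op n) :=
  cokernel.π (mu g n (T.obj (op n)))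

instance epi_qπ (T : ℕᵒᵖ ⥤ X.Modules) (g : A) (n : ℕ) : Epi (qπ T g n) :=
  (inferInstance : Epi (cokernel.π (mu g n (T.obj (op n)))))

@[reassoc]
theorem qπ_map (T : ℕᵒᵖ ⥤ X.Modules) (g : A) {n m : ℕ} (h : n ≤ m) :
    qπ T g m ≫ (quotTower T g).map (homOfLE h).op = T.map (homOfLE h).op ≫ qπ T g n :=
  cokernel.π_desc _ _ _

theorem mu_qπ (T : ℕᵒᵖ ⥤ X.Modules) (g : A) (n : ℕ) : mu g n (T.obj (op n)) ≫ qπ T g n = 0 :=
  cokernel.condition _

theorem exists_qπ_desc (T : ℕᵒᵖ ⥤ X.Modules) (g : A) (n : ℕ) {Z : X.Modules} (φ : T.obj (op n) ⟶ Z)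
    (h : mu g n (T.obj (op n)) ≫ φ = 0) : ∃ ψ : (quotTower T g).obj (op n) ⟶ Z, qπ T g n ≫ ψ = φ :=
  ⟨cokernel.desc _ φ h, cokernel.π_desc _ _ _⟩

/-- A tower `T_n = F / (l^n) F` with its good cohomological properties. -/
structure Good (F : X.Modules) (l : List A) (T : ℕᵒᵖ ⥤ X.Modules) (c : ∀ n : ℕ, F ⟶ T.obj (op n)) : Prop where
  compat : ∀ {n m : ℕ} (h : n ≤ m), c m ≫ T.map (homOfLE h).op = c n
  coh : ∀ n : ℕ, Coh.IsCoh (T.obj (op n))
  epi : ∀ n : ℕ, Epi (c n)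
  zero : ∀ n : ℕ, ∀ g ∈ l, mu g n F ≫ c n = 0
  desc : ∀ (n : ℕ) {Z : X.Modules} (φ : F ⟶ Z), (∀ g ∈ l, mu g n F ≫ φ = 0) → ∃ ψ : T.obj (op n) ⟶ Z, c n ≫ ψ = φ
  a : ∀ p n : ℕ, ∃ m, n ≤ m ∧ ∀ x : Coh.HH X F p, hmap (c m) p x = 0 →
    x ∈ (Ideal.span {b | ∃ g ∈ l, b = g ^ n}) • (⊤ : Submodule A (Coh.HH X F p))
  b : ∀ p n : ℕ, ∃ m, ∃ h : n ≤ m, ∀ y : Coh.HH X (T.obj (op m)) p, ∃ x : Coh.HH X F p,
    hmap (c n) p x = hmap (T.map (homOfLE h).op) p y

theorem good_nil {F : X.Modules} (hF : Coh.IsCoh F) :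
    Good F ([] : List A) ((Functor.const _).obj F) (fun _ => 𝟙 F) where
  compat _ := Category.comp_id _
  coh _ := hF
  epi _ := inferInstance
  zero _ g hg := by simp at hg
  desc _ {Z} φ _ := ⟨φ, Category.id_comp _⟩
  a p n := ⟨n, le_rfl, fun x hx => by
    have : hmap (𝟙 F) p x = x := hmap_id_apply p x
    rw [this] at hx
    rw [hx]
    exact Submodule.zero_mem _⟩
  b p n := ⟨n, le_rfl, fun y => ⟨y, rfl⟩⟩

theorem exists_torsion_bound [IsNoetherianRing A] {M N : Type u} [AddCommGroup M] [Module A M] [AddCommGroup N]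
    [Module A N] [Module.Finite A M] (f : M →ₗ[A] N) (g : A) :
    ∃ e : ℕ, ∀ (k : ℕ) (z : N), z ∈ LinearMap.range f → g ^ k • z = 0 → g ^ e • z = 0 := by
  have : IsNoetherian A (LinearMap.range f) := inferInstance
  let K : ℕ →o Submodule A (LinearMap.range f) :=
    { toFun := fun k => LinearMap.ker (LinearMap.lsmul A (LinearMap.range f) (g ^ k))
      monotone' := by
        intro k l hkl s hs
        rw [LinearMap.mem_ker, LinearMap.lsmul_apply] at hs ⊢
        rw [← Nat.sub_add_cancel hkl, pow_add, mul_smul, hs, smul_zero] }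
  obtain ⟨e, he⟩ := monotone_stabilizes_iff_noetherian.mpr this K
  refine ⟨e, fun k z hz hk => ?_⟩
  have h1 : (⟨z, hz⟩ : LinearMap.range f) ∈ K (max e k) :=
    K.monotone (le_max_right _ _) (show _ ∈ LinearMap.ker _ by
      rw [LinearMap.mem_ker, LinearMap.lsmul_apply]; exact Subtype.ext hk)
  rw [← he _ (le_max_left _ _)] at h1
  exact congrArg Subtype.val (show g ^ e • (⟨z, hz⟩ : LinearMap.range f) = 0 from h1)

/-- `hmap` as a linear map. -/
noncomputable def hlin {M N : X.Modules} (φ : M ⟶ N) (p : ℕ) : Coh.HH X M p →ₗ[A] Coh.HH X N p :=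
  { hmap φ p with map_smul' := fun a x => hmap_smul φ a p x }

theorem good_cons [IsNoetherian X] [IsNoetherianRing A] {F : X.Modules}
    (hfin : ∀ p : ℕ, Module.Finite A (Coh.HH X F p)) (g : A) (l : List A) (T : ℕᵒᵖ ⥤ X.Modules)
    (c : ∀ n : ℕ, F ⟶ T.obj (op n)) (IH : Good F l T c) :
    Good F (g :: l) (quotTower T g) (fun n => c n ≫ qπ T g n) where
  compat {n m} h := by
    rw [Category.assoc, qπ_map, ← Category.assoc, IH.compat h]
  coh n := Sga67.CohBasic.isCoh_cokernel _ (IH.coh n).1 (IH.coh n)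
  epi n := by
    have := IH.epi n
    exact epi_comp _ _
  zero n f hf := by
    rcases List.mem_cons.1 hf with rfl | hf
    · rw [smulMod_naturality_assoc, mu_qπ, comp_zero]
    · rw [← Category.assoc, IH.zero n f hf, zero_comp]
  desc n {Z} φ hφ := by
    obtain ⟨ψ, hψ⟩ := IH.desc n φ (fun g hg => hφ g (List.mem_cons_of_mem _ hg))
    have h1 : mu g n (T.obj (op n)) ≫ ψ = 0 := by
      have := IH.epi n
      rw [← cancel_epi (c n), ← smulMod_naturality_assoc, hψ, comp_zero]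
      exact hφ g List.mem_cons_self
    obtain ⟨χ, hχ⟩ := exists_qπ_desc T g n ψ h1
    exact ⟨χ, by rw [Category.assoc, hχ, hψ]⟩
  a p n := by
    obtain ⟨n₁, hn₁, h₁⟩ := IH.a p n
    obtain ⟨n₂, hn₂, h₂⟩ := IH.b p n₁
    obtain ⟨e, he⟩ := exists_TB g (IH.coh n₂)
    refine ⟨n₂ + e, by omega, fun x hx => ?_⟩
    rw [hmap_comp_apply] at hx
    obtain ⟨y, hy⟩ := step_a g (T.map (homOfLE (Nat.le_add_right n₂ e)).op) he le_rfl p
      (hmap (c (n₂ + e)) p x) hx
    rw [← hmap_comp_apply, IH.compat] at hy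
    obtain ⟨x', hx'⟩ := h₂ y
    have h3 : hmap (c n₁) p (x - g ^ n₂ • x') = 0 := by
      rw [map_sub, hmap_smul, hx', ← IH.compat hn₂, hmap_comp_apply, hy, hmap_smul, sub_self]
    have h4 := h₁ _ h3
    have h5 : x = (x - g ^ n₂ • x') + g ^ n₂ • x' := by abel
    rw [h5]
    refine Submodule.add_mem _ (Submodule.smul_mono_left (Ideal.span_mono ?_) h4) ?_
    · rintro b ⟨f, hf, rfl⟩
      exact ⟨f, List.mem_cons_of_mem _ hf, rfl⟩
    · refine Submodule.smul_mem_smul ?_ trivial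
      rw [← Nat.sub_add_cancel (hn₁.trans hn₂), pow_add]
      exact Ideal.mul_mem_left _ _ (Ideal.subset_span ⟨g, List.mem_cons_self, rfl⟩)
  b p n := by
    obtain ⟨n₂, hn₂, h₂⟩ := IH.b p n
    obtain ⟨l₁, hl₁, h₁⟩ := IH.b (p + 1) n₂
    obtain ⟨e, he⟩ := exists_TB g (IH.coh l₁)
    have := hfin (p + 1)
    obtain ⟨M, hM⟩ := exists_torsion_bound (hlin (A := A) (c n₂) (p + 1)) g
    let m := max l₁ (n₂ + e + M)
    have hlm : l₁ ≤ m := le_max_left _ _
    refine ⟨m, hn₂.trans (hl₁.trans hlm), fun y => ?_⟩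
    obtain ⟨x, hx⟩ := step_b g (T.map (homOfLE hlm).op) (T.map (homOfLE hl₁).op) he
      (le_max_right l₁ (n₂ + e + M)) p (fun k z hz => by
        refine hM k _ ?_ hz
        obtain ⟨x, hx⟩ := h₁ z
        exact ⟨x, hx⟩)
      ((quotTower T g).map (homOfLE (hl₁.trans hlm)).op) (by
        refine (qπ_map T g (hl₁.trans hlm)).trans ?_
        rw [map_homOfLE_comp T hl₁ hlm, Category.assoc]
        rfl) y
    obtain ⟨x', hx'⟩ := h₂ x
    refine ⟨x', ?_⟩
    have hx2 : hmap (qπ T g n₂) p x = hmap ((quotTower T g).map (homOfLE (hl₁.trans hlm)).op) p y := hx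
    rw [hmap_comp_apply, hx', ← hmap_comp_apply, ← qπ_map, hmap_comp_apply, hx2, ← hmap_comp_apply,
      ← map_homOfLE_comp (quotTower T g) hn₂ (hl₁.trans hlm)]

theorem exists_good [IsNoetherian X] [IsNoetherianRing A] {F : X.Modules} (hF : Coh.IsCoh F)
    (hfin : ∀ p : ℕ, Module.Finite A (Coh.HH X F p)) (l : List A) :
    ∃ (T : ℕᵒᵖ ⥤ X.Modules) (c : ∀ n : ℕ, F ⟶ T.obj (op n)), Good F l T c := by
  induction l with
  | nil => exact ⟨_, _, good_nil hF⟩
  | cons g l ih =>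
    obtain ⟨T, c, h⟩ := ih
    exact ⟨_, _, good_cons hfin g l T c h⟩

theorem smulMod_comp_eq_zero_of_mem_span {F N : X.Modules} (φ : F ⟶ N) (S : Set A)
    (h : ∀ s ∈ S, Formal.smulMod A F s ≫ φ = 0) (a : A) (ha : a ∈ Ideal.span S) :
    Formal.smulMod A F a ≫ φ = 0 := by
  induction ha using Submodule.span_induction with
  | mem x hx => exact h x hx
  | zero => rw [smulMod_zero, zero_comp]
  | add x y _ _ hx hy => rw [smulMod_add, Preadditive.add_comp, hx, hy, add_zero]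
  | smul b x _ hx => rw [smul_eq_mul, mul_comm, smulMod_mul, Category.assoc, hx, comp_zero]

variable [IsNoetherian X] [IsNoetherianRing A]

/-- **Kernel control.**  The kernel of `H^p(X, F) → H^p(X, F / I^m F)` lies in `I^n H^p(X, F)` for `m` large. -/
theorem exists_ker_le (I : Ideal A) {F : X.Modules} (hF : Coh.IsCoh F)
    (hfin : ∀ p : ℕ, Module.Finite A (Coh.HH X F p)) (p n : ℕ) :
    ∃ m : ℕ, ∀ k : ℕ, m ≤ k → ∀ x : Coh.HH X F p, hmap (Formal.modPowπ I k F) p x = 0 →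
      x ∈ (I ^ n) • (⊤ : Submodule A (Coh.HH X F p)) := by
  obtain ⟨s, hs⟩ : I.FG := IsNoetherian.noetherian I
  obtain ⟨T, c, hT⟩ := exists_good (A := A) hF hfin s.toList
  obtain ⟨m₀, -, h₀⟩ := hT.a p n
  have hrad : I ≤ (Ideal.span {b | ∃ g ∈ s.toList, b = g ^ m₀}).radical := by
    rw [← hs, Submodule.span_le]
    intro g hg
    exact ⟨m₀, Ideal.subset_span ⟨g, by simpa using hg, rfl⟩⟩
  obtain ⟨r, hr⟩ := Ideal.exists_pow_le_of_le_radical_of_fg hrad ⟨s, hs⟩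
  refine ⟨r, fun k hk x hx => ?_⟩
  obtain ⟨χ, hχ⟩ := (isModPow_modPowπ I k F).desc (c m₀) (fun a ha => by
    refine smulMod_comp_eq_zero_of_mem_span (c m₀) {b | ∃ g ∈ s.toList, b = g ^ m₀} ?_ a
      (hr (Ideal.pow_le_pow_right hk ha))
    rintro _ ⟨g, hg, rfl⟩
    exact hT.zero m₀ g hg)
  have h1 : hmap (c m₀) p x = 0 := by
    rw [← hχ, hmap_comp_apply, hx, map_zero]
  refine Submodule.smul_mono_left ?_ (h₀ x h1)
  rw [Ideal.span_le]
  rintro _ ⟨g, hg, rfl⟩
  refine Ideal.pow_mem_pow ?_ n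
  rw [← hs]
  exact Ideal.subset_span (by simpa using hg)

/-- **Image control.**  For `m` large, the image of `H^p(X, F / I^m F) → H^p(X, F / I^n F)` lies in the image of
`H^p(X, F)`. -/
theorem exists_lift_of_trans (I : Ideal A) {F : X.Modules} (hF : Coh.IsCoh F)
    (hfin : ∀ p : ℕ, Module.Finite A (Coh.HH X F p)) (p n : ℕ) :
    ∃ m : ℕ, n ≤ m ∧ ∀ (k : ℕ) (_ : m ≤ k) (τ : Formal.modPow I k F ⟶ Formal.modPow I n F)
      (_ : Formal.modPowπ I k F ≫ τ = Formal.modPowπ I n F) (y : Coh.HH X (Formal.modPow I k F) p),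
      ∃ x : Coh.HH X F p, hmap (Formal.modPowπ I n F) p x = hmap τ p y := by
  obtain ⟨s, hs⟩ : I.FG := IsNoetherian.noetherian I
  obtain ⟨T, c, hT⟩ := exists_good (A := A) hF hfin s.toList
  obtain ⟨m₀, hm₀, h₀⟩ := hT.b p n
  have hrad : I ≤ (Ideal.span {b | ∃ g ∈ s.toList, b = g ^ m₀}).radical := by
    rw [← hs, Submodule.span_le]
    intro g hg
    exact ⟨m₀, Ideal.subset_span ⟨g, by simpa using hg, rfl⟩⟩
  obtain ⟨r, hr⟩ := Ideal.exists_pow_le_of_le_radical_of_fg hrad ⟨s, hs⟩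
  obtain ⟨ψ, hψ⟩ := hT.desc n (Formal.modPowπ I n F) (fun g hg => (isModPow_modPowπ I n F).smul_comp _
    (Ideal.pow_mem_pow (by rw [← hs]; exact Ideal.subset_span (by simpa using hg)) _))
  refine ⟨max r n, le_max_right _ _, fun k hk τ hτ y => ?_⟩
  obtain ⟨χ, hχ⟩ := (isModPow_modPowπ I k F).desc (c m₀) (fun a ha => by
    refine smulMod_comp_eq_zero_of_mem_span (c m₀) {b | ∃ g ∈ s.toList, b = g ^ m₀} ?_ a
      (hr (Ideal.pow_le_pow_right (by have := le_max_left r n; omega) ha))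
    rintro _ ⟨g, hg, rfl⟩
    exact hT.zero m₀ g hg)
  have h1 : τ = χ ≫ T.map (homOfLE hm₀).op ≫ ψ := by
    rw [← cancel_epi (Formal.modPowπ I k F), hτ, reassoc_of% hχ, ← Category.assoc, hT.compat, hψ]
  obtain ⟨x, hx⟩ := h₀ (hmap χ p y)
  refine ⟨x, ?_⟩
  rw [h1, hmap_comp_apply, hmap_comp_apply, ← hx, ← hmap_comp_apply, hψ]

end Groth.Agent.FormalB.ProTower
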