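import Groth.Agent.FormalB.PuncSec
import Groth.Agent.FormalB.PrincTower
import Groth.Agent.CohqB.FiniteType2
import Groth.Prelude.Def_Wider

/-!
# Algebraization of a formal system for a principal ideal on an open of `Spec A`
-/

set_option autoImplicit false
universe u

open CategoryTheory CategoryTheory.Limits AlgebraicGeometry Opposite TopologicalSpace

namespace Groth.Agent.FormalB.PuncAlg

open Groth.Agent.FormalB.HMod Groth.Agent.FormalB.TildeOpen Groth.Agent.FormalB.ModPow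
  Groth.Agent.FormalB.PuncSec Groth.Agent.FormalB.PrincTower

variable (A : Type u) [CommRing A] (V : (Spec (CommRingCat.of A)).Opens)

theorem hasFinGen_tilde (R : CommRingCat.{u}) (M : ModuleCat.{u} R) (h : Module.Finite R M) :
    CohqB.FiniteType.HasFinGen (tilde M) := by
  have h1 : Module.Finite R Γ(tilde M, ⊤) := by
    let e : M ≃ₗ[R] Γ(tilde M, ⊤) := (tilde.isoTop M).toLinearEquiv
    exact Module.Finite.equiv e
  exact CohqB.FiniteType2.hasFinGen_of_finite (tilde M) h1

theorem isCoh_tV (M : ModuleCat.{u} A) (h : Module.Finite A M) :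
    Coh.IsCoh ((tV V).obj M) := by
  refine ⟨isQCoh_tV V M, ?_⟩
  exact ((hasFinGen_tilde (CommRingCat.of A) M h).restrict V.ι).isFT

/-- The quotient `M → M / gM` goes to a quotient by the ideal `(g)`. -/
theorem isModPow_tV_mkQ (M : ModuleCat.{u} A) (g : A) (K : Submodule A M)
    (hK : K = LinearMap.range (LinearMap.lsmul A M g)) :
    IsModPow (Ideal.span {g}) ((tV V).map (ModuleCat.ofHom K.mkQ)) := by
  have hl : (tV V).IsLeftAdjoint := (adjV V).isLeftAdjoint
  have hepi : Epi (ModuleCat.ofHom K.mkQ) := by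
    rw [ModuleCat.epi_iff_surjective]
    exact K.mkQ_surjective
  have w : ModuleCat.ofHom (LinearMap.lsmul A M g) ≫ ModuleCat.ofHom K.mkQ = 0 := by
    ext x
    change K.mkQ (g • x) = 0
    rw [Submodule.mkQ_apply, Submodule.Quotient.mk_eq_zero, hK]
    exact ⟨x, rfl⟩
  have hex : (ShortComplex.mk _ _ w).Exact := by
    rw [ShortComplex.moduleCat_exact_iff]
    intro x hx
    have hx' : K.mkQ x = 0 := hx
    rw [Submodule.mkQ_apply, Submodule.Quotient.mk_eq_zero, hK] at hx'
    exact hx'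
  have hmap : (tV V).map (ModuleCat.ofHom (LinearMap.lsmul A M g)) =
      Formal.smulMod A ((tV V).obj M) g := tV_map_smul A V M g
  refine ⟨inferInstance, ?_, ?_⟩
  · intro a ha
    obtain ⟨b, rfl⟩ := Ideal.mem_span_singleton'.1 ha
    rw [mul_comm, smulMod_mul, Category.assoc]
    have : Formal.smulMod A ((tV V).obj M) g ≫ (tV V).map (ModuleCat.ofHom K.mkQ) = 0 := by
      rw [← hmap, ← Functor.map_comp]
      refine (congrArg (tV V).map w).trans ?_
      exact Functor.map_zero _ _ _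
    refine (congrArg (fun t => Formal.smulMod A ((tV V).obj M) b ≫ t) this).trans ?_
    exact comp_zero
  · intro Z φ hφ
    have h1 := hex.map_of_epi_of_preservesCokernel (tV V) hepi inferInstance
    have h2 : (tV V).map (ModuleCat.ofHom (LinearMap.lsmul A M g)) ≫ φ = 0 := by
      rw [hmap]
      exact hφ g (Ideal.mem_span_singleton_self g)
    have h3 : Epi (((ShortComplex.mk _ _ w).map (tV V)).g) :=
      (inferInstance : Epi ((tV V).map (ModuleCat.ofHom K.mkQ)))
    exact ⟨h1.desc φ h2, h1.g_desc φ h2⟩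

/-- The quotient criterion: an `A`-linear map `φ : L → N` with `ker φ = gL` and cokernel killed by a power
of an ideal without zeros on `V` becomes a quotient by `(g)` on `V`. -/
theorem isModPow_tV_map {L N : ModuleCat.{u} A} (φ : L ⟶ N) (g : A) (𝔞 : Ideal A)
    (hV : ∀ x ∈ V, ¬ 𝔞 ≤ x.asIdeal)
    (hker : ∀ x, φ x = 0 ↔ ∃ y, x = g • y)
    (hcoker : ∃ e : ℕ, ∀ a ∈ 𝔞 ^ e, ∀ y, ∃ x : L, φ x = a • y) :
    IsModPow (Ideal.span {g}) ((tV V).map φ) := by
  let K : Submodule A L := LinearMap.ker φ.hom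
  have hK : K = LinearMap.range (LinearMap.lsmul A L g) := by
    ext x
    rw [LinearMap.mem_ker, LinearMap.mem_range]
    exact (hker x).trans ⟨fun ⟨y, hy⟩ => ⟨y, hy.symm⟩, fun ⟨y, hy⟩ => ⟨y, hy.symm⟩⟩
  let ι : ModuleCat.of A (L ⧸ K) ⟶ N := ModuleCat.ofHom (K.liftQ φ.hom le_rfl)
  have hφ : φ = ModuleCat.ofHom K.mkQ ≫ ι := by
    ext x
    rfl
  have h1 := isModPow_tV_mkQ A V L g K hK
  have h2 : IsIso ((tV V).map ι) := by
    refine isIso_tV_map V ι 𝔞 hV ?_ ?_
    · intro x hx k _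
      refine ⟨0, ?_⟩
      have : x = 0 := by
        obtain ⟨x, rfl⟩ := K.mkQ_surjective x
        have hx' : φ.hom x = 0 := hx
        rw [Submodule.mkQ_apply, Submodule.Quotient.mk_eq_zero]
        exact hx'
      rw [this, smul_zero]
    · intro y k hk
      obtain ⟨e, he⟩ := hcoker
      obtain ⟨x, hx⟩ := he (k ^ e) (Ideal.pow_mem_pow hk e) y
      exact ⟨e, K.mkQ x, hx⟩
  rw [hφ, Functor.map_comp]
  exact h1.comp_iso _

/-- `H^0(V, G) → Γ(V, G)` as a morphism of modules. -/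
noncomputable def eHom (G : (V : Scheme.{u}).Modules) :
    (HM A (V : Scheme.{u}) 0).obj G ⟶ (sV V).obj G :=
  ModuleCat.homEquiv.symm (eLin A V G).toLinearMap

theorem eHom_apply (G : (V : Scheme.{u}).Modules) (x : (HM A (V : Scheme.{u}) 0).obj G) :
    eHom A V G x = eLin A V G x := rfl

/-- Algebraization of a formal system for a principal ideal `(f)` on an open `V` of `Spec A`. -/
theorem algebraize [IsNoetherianRing A] (f : A) [IsPrecomplete (Ideal.span {f}) A] (𝔞 : Ideal A)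
    (hV : ∀ x ∈ V, ¬ 𝔞 ≤ x.asIdeal) (hVc : IsCompact (V : Set (Spec (CommRingCat.of A))))
    (G : ℕᵒᵖ ⥤ (V : Scheme.{u}).Modules) (hG : IsFormal (Ideal.span {f}) G)
    (hqc : ∀ n : ℕ, Coh.IsQCoh (G.obj (op n))) (hmono : ∀ n, Mono (mu hG n))
    (h0 : Module.Finite A (HG A G 0 0))
    (h1 : ∀ n (x : HG A G 1 n), ∃ k : ℕ, ∀ a ∈ 𝔞 ^ k, a • x = 0)
    (m : ℕ) (hm : (LinearMap.range ((HM A (V : Scheme.{u}) 1).map (t0 G m)).hom).FG) :
    ∃ F : (V : Scheme.{u}).Modules, Coh.IsCoh F ∧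
      Nonempty (Formal.completion (Ideal.span {f}) F ≅ G) := by
  let T := tower hG hmono
  let L : ModuleCat.{u} A := ModuleCat.of A T.M
  have hL : Module.Finite A L := T.finite_M
  let pr : ∀ n, L ⟶ HG A G 0 n := fun n => ModuleCat.ofHom ((LinearMap.proj n).comp T.M.subtype)
  let φ : ∀ n, L ⟶ (sV V).obj (G.obj (op n)) := fun n => pr n ≫ eHom A V (G.obj (op n))
  have hφ : ∀ n (x : L), φ n x = eLin A V (G.obj (op n)) (x.1 n) := fun n x => rfl
  have hφs : ∀ n, φ (n + 1) ≫ (sV V).map (tr G n) = φ n := by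
    intro n
    ext x
    change (sV V).map (tr G n) (eLin A V (G.obj (op (n + 1))) (x.1 (n + 1))) = eLin A V (G.obj (op n)) (x.1 n)
    rw [← eLin_naturality]
    congr 1
    exact x.2 n
  let p : ∀ n, (tV V).obj L ⟶ G.obj (op n) := fun n => ((adjV V).homEquiv _ _).symm (φ n)
  refine ⟨(tV V).obj L, isCoh_tV A V L hL, ⟨completionIso (Ideal.span {f}) p ?_ ?_⟩⟩
  · intro n
    have hc := isIso_counit V hVc (G.obj (op n)) (hqc n)
    have hp : p n = (tV V).map (φ n) ≫ (adjV V).counit.app (G.obj (op n)) :=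
      Adjunction.homEquiv_counit _ _ _ _
    rw [hp, Ideal.span_singleton_pow]
    refine (isModPow_tV_map A V (φ n) (f ^ (n + 1)) 𝔞 hV ?_ ?_).comp_iso _
    · intro x
      constructor
      · intro hx
        rw [hφ] at hx
        have hx' : x.1 n = 0 := (eLin A V (G.obj (op n))).injective (by rw [hx, map_zero])
        obtain ⟨y, hy, hxy⟩ := T.M_div n x.1 x.2 hx'
        exact ⟨⟨y, hy⟩, Subtype.ext hxy⟩
      · rintro ⟨y, rfl⟩
        rw [hφ]
        have : (f ^ (n + 1) • y : L).1 n = 0 := T.killP n (y.1 n)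
        rw [this, map_zero]
    · obtain ⟨e, he⟩ := T.exists_pow_le_J 𝔞 h1 m hm n
      refine ⟨e, fun a ha y => ?_⟩
      obtain ⟨z, hz, hzn⟩ := (T.mem_J n a).1 (he ha) ((eLin A V (G.obj (op n))).symm y)
      refine ⟨⟨z, hz⟩, ?_⟩
      rw [hφ]
      change eLin A V (G.obj (op n)) (z n) = a • y
      rw [hzn, map_smul, LinearEquiv.apply_symm_apply]
  · intro n
    change ((adjV V).homEquiv _ _).symm (φ (n + 1)) ≫ tr G n = ((adjV V).homEquiv _ _).symm (φ n)
    rw [← Adjunction.homEquiv_naturality_right_symm, hφs]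

end Groth.Agent.FormalB.PuncAlg
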