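import Groth.Agent.FormalB.TildeOpen
import Groth.Agent.FormalB.HMod
import Groth.Agent.CurvesB.HZero

/-!
# `H^0(V, -)` and sections over an open `V` of `Spec A`, as functors to `A`-modules
-/

set_option autoImplicit false
universe u

open CategoryTheory CategoryTheory.Limits AlgebraicGeometry Opposite TopologicalSpace

namespace Groth.Agent.FormalB.PuncSec

open Groth.Agent.FormalB.HMod Groth.Agent.FormalB.TildeOpen Groth.Agent.FormalB.ModPow

variable (A : Type u) [CommRing A] (V : (Spec (CommRingCat.of A)).Opens)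

/-- The additive identification. -/
noncomputable def eAdd (G : (V : Scheme.{u}).Modules) :
    (HM A (V : Scheme.{u}) 0).obj G ≃+ (sV V).obj G :=
  CurvesB.HZero.equivAdd G

theorem eAdd_naturality {G G' : (V : Scheme.{u}).Modules} (φ : G ⟶ G')
    (x : (HM A (V : Scheme.{u}) 0).obj G) :
    eAdd A V G' ((HM A (V : Scheme.{u}) 0).map φ x) = (sV V).map φ (eAdd A V G x) :=
  CurvesB.HZero.equivAdd_map φ x

theorem eAdd_smul (G : (V : Scheme.{u}).Modules) (a : A) (x : (HM A (V : Scheme.{u}) 0).obj G) :
    eAdd A V G (a • x) = a • eAdd A V G x := by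
  refine (CurvesB.HZero.equivAdd_smul_over G a x).trans ?_
  rfl

/-- The linear identification. -/
noncomputable def eLin (G : (V : Scheme.{u}).Modules) :
    (HM A (V : Scheme.{u}) 0).obj G ≃ₗ[A] (sV V).obj G :=
  { eAdd A V G with map_smul' := fun a x => eAdd_smul A V G a x }

theorem eLin_naturality {G G' : (V : Scheme.{u}).Modules} (φ : G ⟶ G')
    (x : (HM A (V : Scheme.{u}) 0).obj G) :
    eLin A V G' ((HM A (V : Scheme.{u}) 0).map φ x) = (sV V).map φ (eLin A V G x) :=
  eAdd_naturality A V φ x

theorem sV_map_smulMod (G : (V : Scheme.{u}).Modules) (a : A) :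
    (sV V).map (Formal.smulMod A G a) = ModuleCat.ofHom (LinearMap.lsmul A ((sV V).obj G) a) := by
  ext x
  obtain ⟨y, rfl⟩ := (eLin A V G).surjective x
  rw [← eLin_naturality, map_smulMod, map_smul]
  rfl

theorem tV_map_smul (M : ModuleCat.{u} A) (a : A) :
    (tV V).map (ModuleCat.ofHom (LinearMap.lsmul A M a)) = Formal.smulMod A ((tV V).obj M) a := by
  apply ((adjV V).homEquiv _ _).injective
  rw [Adjunction.homEquiv_unit, Adjunction.homEquiv_unit, sV_map_smulMod]
  have h1 := (adjV V).unit.naturality (ModuleCat.ofHom (LinearMap.lsmul A M a))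
  refine h1.symm.trans ?_
  ext x
  exact ((adjV V).unit.app M).hom.map_smul a x

end Groth.Agent.FormalB.PuncSec
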