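import Groth.Agent.FormalB.PuncTheta2
import Groth.Agent.FormalB.LimAff
import Groth.Prelude.Def_Wider
import Mathlib.RingTheory.Noetherian.Basic
import Mathlib.RingTheory.Ideal.Operations

/-!
# Systems of coherent modules on opens of `Spec A` (`A` Noetherian) come from systems of finite modules
-/

set_option autoImplicit false
universe u

open CategoryTheory CategoryTheory.Limits AlgebraicGeometry Opposite TopologicalSpace
open Groth.Agent.FormalB.ModPow Groth.Agent.FormalB.PuncTheta Groth.Agent.FormalB.PuncTheta2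

namespace Groth.Agent.FormalB.PuncSys

variable {A : Type u} [CommRing A] (U : (Spec (CommRingCat.of A)).Opens)

/-- Lifting a finite generating submodule along a map of coherent modules. -/
theorem exists_fg_step [IsNoetherianRing A] (hU : IsCompact (U : Set (Spec (CommRingCat.of A))))
    {G' G : (U : Scheme.{u}).Modules} (φ : G' ⟶ G) (hG' : Coh.IsCoh G')
    (P : Submodule A ((Gam U).obj G)) (hP : IsTorsOn U (((Gam U).obj G : Type u) ⧸ P)) :
    ∃ P' : Submodule A ((Gam U).obj G'), (P'.FG ∧ IsTorsOn U (((Gam U).obj G' : Type u) ⧸ P')) ∧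
      P' ≤ P.comap ((Gam U).map φ).hom := by
  obtain ⟨N, hN, hN'⟩ := exists_fg_isTorsOn U hU G' hG'
  refine ⟨N ⊓ P.comap ((Gam U).map φ).hom, ⟨?_, ?_⟩, inf_le_right⟩
  · have : IsNoetherian A N := isNoetherian_of_fg_of_noetherian N hN
    exact Submodule.FG.of_le_of_isNoetherian inf_le_left
  · intro g hg q
    obtain ⟨x, rfl⟩ := Submodule.Quotient.mk_surjective _ q
    obtain ⟨k, hk⟩ := hN' g hg (Submodule.Quotient.mk x)
    obtain ⟨l, hl⟩ := hP g hg (Submodule.Quotient.mk (((Gam U).map φ).hom x))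
    rw [← Submodule.Quotient.mk_smul, Submodule.Quotient.mk_eq_zero] at hk hl
    refine ⟨k + l, ?_⟩
    rw [← Submodule.Quotient.mk_smul, Submodule.Quotient.mk_eq_zero]
    refine ⟨?_, ?_⟩
    · rw [add_comm, pow_add, mul_smul]
      exact N.smul_mem _ hk
    · change ((Gam U).map φ).hom (g ^ (k + l) • x) ∈ P
      rw [map_smul, pow_add, mul_smul]
      exact P.smul_mem _ hl

/-- A compatible choice of finite generating submodules for a system of coherent modules. -/
theorem exists_sys [IsNoetherianRing A] (hU : IsCompact (U : Set (Spec (CommRingCat.of A))))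
    (F : ℕᵒᵖ ⥤ (U : Scheme.{u}).Modules) (hF : ∀ n : ℕ, Coh.IsCoh (F.obj (op n))) :
    ∃ P : ∀ n : ℕ, Submodule A ((Gam U).obj (F.obj (op n))),
      (∀ n, (P n).FG ∧ IsTorsOn U (((Gam U).obj (F.obj (op n)) : Type u) ⧸ P n)) ∧
      ∀ n, P (n + 1) ≤ (P n).comap ((Gam U).map (F.map (homOfLE (Nat.le_succ n)).op)).hom := by
  classical
  let T : ℕ → Type u := fun n => {P : Submodule A ((Gam U).obj (F.obj (op n))) //
    P.FG ∧ IsTorsOn U (((Gam U).obj (F.obj (op n)) : Type u) ⧸ P)}
  have h0 : Nonempty (T 0) := by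
    obtain ⟨N, hN, hN'⟩ := exists_fg_isTorsOn U hU _ (hF 0)
    exact ⟨⟨N, hN, hN'⟩⟩
  have hs : ∀ (n : ℕ) (P : T n), ∃ P' : T (n + 1),
      P'.1 ≤ P.1.comap ((Gam U).map (F.map (homOfLE (Nat.le_succ n)).op)).hom := by
    intro n P
    obtain ⟨P', h1, h2⟩ := exists_fg_step U hU (F.map (homOfLE (Nat.le_succ n)).op) (hF (n + 1)) P.1 P.2.2
    exact ⟨⟨P', h1⟩, h2⟩
  choose s hs using hs
  let S : ∀ n, T n := fun n => Nat.rec h0.some (fun n P => s n P) n
  exact ⟨fun n => (S n).1, fun n => (S n).2, fun n => hs n (S n)⟩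

/-- naturality of `subToMod` -/
theorem subToMod_naturality {G' G : (U : Scheme.{u}).Modules} (φ : G' ⟶ G)
    (P' : Submodule A ((Gam U).obj G')) (P : Submodule A ((Gam U).obj G))
    (h : P' ≤ P.comap ((Gam U).map φ).hom) :
    thetaMap U (((Gam U).map φ).hom.restrict h) ≫ subToMod U P = subToMod U P' ≫ φ := by
  have h1 : ModuleCat.ofHom (((Gam U).map φ).hom.restrict h) ≫ subHom P = subHom P' ≫ (Gam U).map φ := rfl
  have h2 : (Theta U).map ((Gam U).map φ) ≫ (adj U).counit.app G = (adj U).counit.app G' ≫ φ :=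
    (adj U).counit.naturality φ
  rw [subToMod, subToMod, Category.assoc, ← h2, ← Category.assoc, ← Category.assoc,
    ← Functor.map_comp, ← Functor.map_comp, h1]

theorem smul_eq_zero_of_killedBy {J : Ideal A} {G : (U : Scheme.{u}).Modules} (hG : Formal.KilledBy J G)
    {a : A} (ha : a ∈ J) (x : (Gam U).obj G) : a • x = 0 := by
  have h := gam_map_smulMod U G a
  rw [hG a ha, Functor.map_zero] at h
  exact (congrArg (fun t => t.hom x) h).symm

/-- If `Θ(q)` for `q : M → N` is the quotient modulo `J`, then kernel and cokernel of `M / J M → N` are torsion. -/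
theorem isTorsOn_of_isModPow (J : Ideal A) {M N : Type u} [AddCommGroup M] [Module A M]
    [AddCommGroup N] [Module A N] (g : M →ₗ[A] N) (hJ : J • (⊤ : Submodule A M) ≤ LinearMap.ker g)
    (h : IsModPow J (thetaMap U g)) :
    (∀ a : A, D a ≤ U → ∀ x : M, g x = 0 → ∃ k : ℕ, a ^ k • x ∈ J • (⊤ : Submodule A M)) ∧
    (∀ a : A, D a ≤ U → ∀ y : N, ∃ k : ℕ, a ^ k • y ∈ LinearMap.range g) := by
  let q : M →ₗ[A] (M ⧸ (J • (⊤ : Submodule A M))) := (J • (⊤ : Submodule A M)).mkQ
  let g' : (M ⧸ (J • (⊤ : Submodule A M))) →ₗ[A] N := (J • (⊤ : Submodule A M)).liftQ g hJ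
  have hq : IsModPow J (thetaMap U q) :=
    isModPow_thetaMap U J q (Submodule.mkQ_surjective _) (Submodule.ker_mkQ _)
  have hqg : thetaMap U q ≫ thetaMap U g' = thetaMap U g := by
    rw [thetaMap, thetaMap, ← Functor.map_comp]
    congr 1
  obtain ⟨e, he, -⟩ := hq.exists_iso h
  have hiso : IsIso (thetaMap U g') := by
    have := hq.epi
    have h1 : thetaMap U g' = e.hom := by
      rw [← cancel_epi (thetaMap U q), hqg, he]
    rw [h1]
    infer_instance
  obtain ⟨h1, h2⟩ := (isIso_thetaMap_iff U g').1 hiso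
  constructor
  · intro a ha x hx
    obtain ⟨k, hk⟩ := h1 a ha ⟨Submodule.Quotient.mk x, by
      rw [LinearMap.mem_ker]
      exact hx⟩
    refine ⟨k, ?_⟩
    rw [← Submodule.Quotient.mk_eq_zero, Submodule.Quotient.mk_smul]
    exact congrArg Subtype.val hk
  · intro a ha y
    obtain ⟨k, hk⟩ := h2 a ha (Submodule.Quotient.mk y)
    refine ⟨k, ?_⟩
    rw [← Submodule.Quotient.mk_smul, Submodule.Quotient.mk_eq_zero, Submodule.range_liftQ] at hk
    exact hk

/-- From powers of single elements to powers of a finitely generated ideal. -/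
theorem exists_pow_of_forall {M : Type u} [AddCommGroup M] [Module A M] (𝔞 : Ideal A) (h𝔞 : 𝔞.FG)
    (N : Submodule A M) (x : M) (h : ∀ a ∈ 𝔞, ∃ k : ℕ, a ^ k • x ∈ N) :
    ∃ m : ℕ, ∀ a ∈ 𝔞 ^ m, a • x ∈ N := by
  let J : Ideal A := N.comap (LinearMap.toSpanSingleton A M x)
  have hJ : 𝔞 ≤ J.radical := by
    intro a ha
    obtain ⟨k, hk⟩ := h a ha
    exact ⟨k, hk⟩
  obtain ⟨m, hm⟩ := Ideal.exists_pow_le_of_le_radical_of_fg hJ h𝔞
  exact ⟨m, fun a ha => hm ha⟩

theorem D_le_puncturedOpen (𝔞 : Ideal A) {a : A} (ha : a ∈ 𝔞) : D a ≤ LocCoh.puncturedOpen A 𝔞 := by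
  intro x hx hx'
  exact hx (hx' ha)

theorem isCompact_puncturedOpen [IsNoetherianRing A] (𝔞 : Ideal A) :
    IsCompact (LocCoh.puncturedOpen A 𝔞 : Set (Spec (CommRingCat.of A))) := by
  have : NoetherianSpace (PrimeSpectrum A) := inferInstance
  exact this.isCompact _

end Groth.Agent.FormalB.PuncSys
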