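import Groth.Agent.FormalB.PuncTheta
import Groth.Agent.Ega1.QcqsPush
import Groth.Agent.CohqB.FiniteType2
import Groth.Agent.CohqB.LocalQC

/-!
# Coherent modules on opens of `Spec A` come from finite modules
-/

set_option autoImplicit false
universe u

open CategoryTheory CategoryTheory.Limits AlgebraicGeometry Opposite TopologicalSpace
open Groth.Agent.FormalB.ModPow Groth.Agent.FormalB.PuncTheta

namespace Groth.Agent.FormalB.PuncTheta2

variable {A : Type u} [CommRing A] (U : (Spec (CommRingCat.of A)).Opens)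

/-- the counit is an isomorphism on quasi-coherent modules -/
theorem isIso_counit (hU : IsCompact (U : Set (Spec (CommRingCat.of A))))
    (G : (U : Scheme.{u}).Modules) (hG : Coh.IsQCoh G) : IsIso ((adj U).counit.app G) := by
  have : CompactSpace (U : Scheme.{u}) := isCompact_iff_compactSpace.1 hU
  have h0 : QuasiCompact U.ι := inferInstance
  have h1 : Coh.IsQCoh ((Scheme.Modules.pushforward U.ι).obj G) :=
    Groth.Agent.Ega1.QcqsPush.isQCoh_pushforward U.ι G hG
  have h2 : IsIso (Scheme.Modules.fromTildeΓ (R := CommRingCat.of A)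
      ((Scheme.Modules.pushforward U.ι).obj G)) :=
    Scheme.Modules.isIso_fromTildeΓ_of_isQuasicoherent (R := CommRingCat.of A) _
  rw [adj, Adjunction.comp_counit_app]
  have h3 : IsIso (((tilde.adjunction (R := CommRingCat.of A)).counit).app
      ((Scheme.Modules.pushforward U.ι).obj G)) := h2
  have h4 := Functor.map_isIso (Scheme.Modules.restrictFunctor U.ι)
    (((tilde.adjunction (R := CommRingCat.of A)).counit).app
      ((Scheme.Modules.pushforward U.ι).obj G))
  have h5 : IsIso ((Scheme.Modules.restrictAdjunction U.ι).counit.app G) := inferInstance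
  exact IsIso.comp_isIso' h4 h5

/-- A finite submodule which is everything after localizing at `g`. -/
theorem exists_fg_of_localized {P : Type*} [AddCommGroup P] [Module A P] (g : A)
    {S' P' : Type*} [CommRing S'] [AddCommGroup P'] [Module S' P'] (φ : A →+* S') (f : P →+ P')
    (hf : ∀ a p, f (a • p) = φ a • f p) (hS : ∀ c : S', ∃ (l : ℕ) (a : A), φ g ^ l * c = φ a)
    (hP : ∀ s : P', ∃ (k : ℕ) (p : P), φ g ^ k • s = f p)
    (hker : ∀ p, f p = 0 → ∃ k : ℕ, g ^ k • p = 0) (hfin : Module.Finite S' P') :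
    ∃ N : Submodule A P, N.FG ∧ ∀ p, ∃ k : ℕ, g ^ k • p ∈ N := by
  classical
  obtain ⟨t, ht⟩ := hfin
  choose k p hp using hP
  let N : Submodule A P := Submodule.span A (t.image p : Set P)
  refine ⟨N, ⟨t.image p, rfl⟩, ?_⟩
  have key : ∀ x : P', ∃ (k : ℕ), ∃ n ∈ N, φ g ^ k • x = f n := by
    intro x
    have hx : x ∈ Submodule.span S' (t : Set P') := by rw [ht]; trivial
    induction hx using Submodule.span_induction with
    | mem x hx => exact ⟨k x, p x, Submodule.subset_span (by simpa using ⟨x, hx, rfl⟩), hp x⟩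
    | zero => exact ⟨0, 0, N.zero_mem, by simp⟩
    | add x y _ _ hx hy =>
      obtain ⟨k, n, hn, h⟩ := hx
      obtain ⟨l, m, hm, h'⟩ := hy
      refine ⟨k + l, g ^ l • n + g ^ k • m, N.add_mem (N.smul_mem _ hn) (N.smul_mem _ hm), ?_⟩
      rw [map_add, hf, hf, ← h, ← h', smul_add, smul_smul, smul_smul, map_pow, map_pow,
        ← pow_add, ← pow_add, add_comm l k]
    | smul c x _ hx =>
      obtain ⟨k, n, hn, h⟩ := hx
      obtain ⟨l, a, ha⟩ := hS c
      refine ⟨l + k, a • n, N.smul_mem _ hn, ?_⟩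
      rw [hf, ← ha, ← h, smul_smul, smul_smul, pow_add]
      congr 1
      ring
  intro q
  obtain ⟨k, n, hn, h⟩ := key (f q)
  have h1 : f (g ^ k • q - n) = 0 := by
    rw [map_sub, hf, map_pow, h, sub_self]
  obtain ⟨l, hl⟩ := hker _ h1
  refine ⟨l + k, ?_⟩
  rw [smul_sub, sub_eq_zero, smul_smul, ← pow_add] at hl
  rw [hl]
  exact N.smul_mem _ hn

/-- `Γ(Spec A, D(g)) = A_g`, elementary form. -/
theorem exists_pow_mul_eq (R : CommRingCat.{u}) (g : R)
    (c : Γ(Spec R, PrimeSpectrum.basicOpen g)) : ∃ (l : ℕ) (a : R),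
      (algebraMap R Γ(Spec R, PrimeSpectrum.basicOpen g) g) ^ l * c = algebraMap R _ a := by
  obtain ⟨l, a, h⟩ := IsLocalization.Away.surj g c
  exact ⟨l, a, by rw [mul_comm]; exact h⟩

theorem exists_fg_loc' (R : CommRingCat.{u}) (U : (Spec R).Opens) (hU : IsCompact (U : Set (Spec R)))
    (G : (U : Scheme.{u}).Modules) (hG : Coh.IsCoh G) (g : R)
    (hg : (PrimeSpectrum.basicOpen g : (Spec R).Opens) ≤ U) :
    ∃ N : Submodule R Γ((Scheme.Modules.pushforward U.ι).obj G, ⊤),
      N.FG ∧ ∀ p, ∃ k : ℕ, g ^ k • p ∈ N := by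
  have hq := hG.1
  have : CompactSpace (U : Scheme.{u}) := isCompact_iff_compactSpace.1 hU
  have h0 : QuasiCompact U.ι := inferInstance
  let V : (Spec R).Opens := PrimeSpectrum.basicOpen g
  let M := (Scheme.Modules.pushforward U.ι).obj G
  have h1 : Coh.IsQCoh M := Groth.Agent.Ega1.QcqsPush.isQCoh_pushforward U.ι G hG.1
  have h2 : IsLocalizedModule (Submonoid.powers g)
      (Groth.Agent.CohqB.FiniteType2.resLinear M V) :=
    Groth.Agent.CohqB.FiniteType2.isLocalizedModule_resLinear M g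
  have hiso : IsIso (U.ι.app V) := U.ι.isIso_app _ (by
    rw [Scheme.Opens.opensRange_ι]; exact hg)
  have haff : IsAffineOpen (U.ι ⁻¹ᵁ V) :=
    (IsAffineOpen.Spec_basicOpen g).preimage_of_isOpenImmersion U.ι (by
      rw [Scheme.Opens.opensRange_ι]; exact hg)
  have h3 : Module.Finite Γ((U : Scheme.{u}), U.ι ⁻¹ᵁ V) Γ(G, U.ι ⁻¹ᵁ V) :=
    Groth.Agent.CohqB.FiniteType2.finite_sections_of_isFT G hG.2 haff
  have hbij : Function.Bijective (U.ι.app V).hom := ConcreteCategory.bijective_of_isIso _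
  let φ : R →+* Γ((U : Scheme.{u}), U.ι ⁻¹ᵁ V) :=
    (U.ι.app V).hom.comp (algebraMap R Γ(Spec R, V))
  let f : Γ(M, ⊤) →+ Γ(G, U.ι ⁻¹ᵁ V) :=
    (Groth.Agent.CohqB.FiniteType2.resLinear M V).toAddMonoidHom
  have hf : ∀ (a : R) (p : Γ(M, ⊤)), f (a • p) = φ a • f p := by
    intro a p
    exact (Groth.Agent.CohqB.FiniteType2.resLinear M V).map_smul a p
  refine exists_fg_of_localized g φ f hf ?_ ?_ ?_ h3
  · intro c
    obtain ⟨c, rfl⟩ := hbij.surjective c
    obtain ⟨l, a, h⟩ := exists_pow_mul_eq R g c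
    refine ⟨l, a, ?_⟩
    change (U.ι.app V).hom _ ^ l * _ = (U.ι.app V).hom _
    rw [← map_pow, ← map_mul]
    exact congrArg _ h
  · intro s
    obtain ⟨⟨p, ⟨_, k, rfl⟩⟩, h⟩ := IsLocalizedModule.surj (Submonoid.powers g)
      (Groth.Agent.CohqB.FiniteType2.resLinear M V) s
    refine ⟨k, p, ?_⟩
    rw [← map_pow]
    exact h
  · intro p hp
    obtain ⟨⟨_, k, rfl⟩, h⟩ := (IsLocalizedModule.eq_zero_iff (Submonoid.powers g)
      (Groth.Agent.CohqB.FiniteType2.resLinear M V)).1 hp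
    exact ⟨k, h⟩

theorem exists_fg_loc (hU : IsCompact (U : Set (Spec (CommRingCat.of A))))
    (G : (U : Scheme.{u}).Modules) (hG : Coh.IsCoh G) (g : A) (hg : D g ≤ U) :
    ∃ N : Submodule A ((Gam U).obj G), N.FG ∧ ∀ p, ∃ k : ℕ, g ^ k • p ∈ N :=
  exists_fg_loc' (CommRingCat.of A) U hU G hG g hg

/-- a finite cover of a quasi-compact open of `Spec A` by basic opens -/
theorem exists_finite_cover (hU : IsCompact (U : Set (Spec (CommRingCat.of A)))) :
    ∃ s : Finset A, (∀ g ∈ s, D g ≤ U) ∧ ∀ x ∈ U, ∃ g ∈ s, x ∈ D g := by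
  classical
  have h1 : ∀ x : (U : Set (Spec (CommRingCat.of A))), ∃ g : A, x.1 ∈ D g ∧ D g ≤ U :=
    fun x => exists_D_le x.2
  choose g hg hgU using h1
  obtain ⟨t, ht⟩ := hU.elim_finite_subcover (fun x => (D (g x) : Set (Spec (CommRingCat.of A))))
    (fun x => (D (g x)).2) (fun x hx => Set.mem_iUnion.2 ⟨⟨x, hx⟩, hg ⟨x, hx⟩⟩)
  refine ⟨t.image g, ?_, ?_⟩
  · intro a ha
    obtain ⟨x, _, rfl⟩ := Finset.mem_image.1 ha
    exact hgU x
  · intro x hx
    obtain ⟨y, hy, hxy⟩ := Set.mem_iUnion₂.1 (ht hx)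
    exact ⟨g y, Finset.mem_image_of_mem _ hy, hxy⟩

/-- A coherent module `G` on a quasi-compact open `U` of `Spec A`: there is a finite submodule
`N` of `Γ(U, G)` containing up to torsion everything. -/
theorem exists_fg_isTorsOn (hU : IsCompact (U : Set (Spec (CommRingCat.of A))))
    (G : (U : Scheme.{u}).Modules) (hG : Coh.IsCoh G) :
    ∃ N : Submodule A ((Gam U).obj G), N.FG ∧ IsTorsOn U (((Gam U).obj G : Type u) ⧸ N) := by
  classical
  obtain ⟨s, hs, hcov⟩ := exists_finite_cover U hU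
  have h1 : ∀ g : s, ∃ N : Submodule A ((Gam U).obj G), N.FG ∧ ∀ p, ∃ k : ℕ, g.1 ^ k • p ∈ N :=
    fun g => exists_fg_loc U hU G hG g.1 (hs g.1 g.2)
  choose N hN hN' using h1
  refine ⟨⨆ g, N g, Submodule.fg_iSup N hN, isTorsOn_of_forall_mem U fun x hx => ?_⟩
  obtain ⟨g, hg, hxg⟩ := hcov x hx
  refine ⟨g, hxg, fun q => ?_⟩
  obtain ⟨p, rfl⟩ := Submodule.Quotient.mk_surjective _ q
  obtain ⟨k, hk⟩ := hN' ⟨g, hg⟩ p
  refine ⟨k, ?_⟩
  rw [← Submodule.Quotient.mk_smul, Submodule.Quotient.mk_eq_zero]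
  exact Submodule.mem_iSup_of_mem ⟨g, hg⟩ hk

/-- inclusion of a submodule, as a morphism in `ModuleCat` -/
def subHom {P : ModuleCat.{u} A} (N : Submodule A P) : ModuleCat.of A N ⟶ P :=
  ModuleCat.ofHom N.subtype

theorem isIso_theta_subHom {P : ModuleCat.{u} A} (N : Submodule A P)
    (hN : IsTorsOn U ((P : Type u) ⧸ N)) : IsIso ((Theta U).map (subHom N)) := by
  have h : IsIso (thetaMap U N.subtype) := by
    rw [isIso_thetaMap_iff]
    refine ⟨?_, ?_⟩
    · intro g _ q
      refine ⟨0, ?_⟩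
      have hq : q = 0 := Subtype.ext (N.injective_subtype (by simp))
      rw [hq, smul_zero]
    · rw [Submodule.range_subtype]
      exact hN
  exact h

/-- the canonical map `N~|_U → G` attached to a submodule `N` of `Γ(U, G)`. -/
noncomputable def subToMod {G : (U : Scheme.{u}).Modules} (N : Submodule A ((Gam U).obj G)) :
    (Theta U).obj (ModuleCat.of A N) ⟶ G :=
  (Theta U).map (subHom N) ≫ (adj U).counit.app G

theorem isIso_subToMod (hU : IsCompact (U : Set (Spec (CommRingCat.of A))))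
    {G : (U : Scheme.{u}).Modules} (hG : Coh.IsQCoh G) (N : Submodule A ((Gam U).obj G))
    (hN : IsTorsOn U (((Gam U).obj G : Type u) ⧸ N)) : IsIso (subToMod U N) :=
  IsIso.comp_isIso' (isIso_theta_subHom U N hN) (isIso_counit U hU G hG)

/-- Every coherent module on a quasi-compact open of `Spec A` is `N~|_U` for a finite `N`. -/
theorem exists_finite_iso (hU : IsCompact (U : Set (Spec (CommRingCat.of A))))
    (G : (U : Scheme.{u}).Modules) (hG : Coh.IsCoh G) :
    ∃ (N : Type u) (_ : AddCommGroup N) (_ : Module A N), Module.Finite A N ∧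
      Nonempty ((Theta U).obj (ModuleCat.of A N) ≅ G) := by
  obtain ⟨N, hN, hN'⟩ := exists_fg_isTorsOn U hU G hG
  have := isIso_subToMod U hU hG.1 N hN'
  exact ⟨N, inferInstance, inferInstance, Module.Finite.iff_fg.2 hN, ⟨asIso (subToMod U N)⟩⟩

end Groth.Agent.FormalB.PuncTheta2
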