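import Groth.Agent.Fdesc.QCohStalk
import Groth.Agent.CohqB.FiniteType2

/-!
# Submodules of sections over an affine open are detected on stalks
-/

set_option autoImplicit false
universe u

open CategoryTheory CategoryTheory.Limits AlgebraicGeometry Opposite TopologicalSpace

namespace Groth.Agent.FormalB.SpanStalk

open Groth.Agent.Fdesc.QCohStalk

variable {X : Scheme.{u}} {M : X.Modules} {W : X.Opens}

theorem mem_of_locally (hW : IsAffineOpen W) (S : Submodule Γ(X, W) Γ(M, W)) (m : Γ(M, W))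
    (h : ∀ y ∈ W, ∃ g : Γ(X, W), y ∈ X.basicOpen g ∧ g • m ∈ S) : m ∈ S := by
  let 𝔞 : Ideal Γ(X, W) := S.comap (LinearMap.toSpanSingleton Γ(X, W) Γ(M, W) m)
  have h1 : Ideal.span (𝔞 : Set Γ(X, W)) = ⊤ := by
    rw [← IsAffineOpen.iSup_basicOpen_eq_self_iff hW]
    apply le_antisymm
    · exact iSup_le fun f => X.basicOpen_le _
    · intro y hy
      obtain ⟨g, hg, hgm⟩ := h y hy
      exact Opens.mem_iSup.2 ⟨⟨g, hgm⟩, hg⟩
  rw [Ideal.span_eq] at h1
  have h2 : (1 : Γ(X, W)) ∈ 𝔞 := by rw [h1]; trivial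
  have h3 : (1 : Γ(X, W)) • m ∈ S := h2
  rwa [one_smul] at h3

theorem exists_germ_div (hW : IsAffineOpen W) (y : X) (hy : y ∈ W) (c : X.presheaf.stalk y) :
    ∃ (d r : Γ(X, W)), y ∈ X.basicOpen d ∧
      X.presheaf.germ W y hy d * c = X.presheaf.germ W y hy r := by
  let := X.presheaf.algebra_section_stalk ⟨y, hy⟩
  have := hW.isLocalization_stalk ⟨y, hy⟩
  obtain ⟨⟨r, d⟩, hd⟩ := IsLocalization.surj (hW.primeIdealOf ⟨y, hy⟩).asIdeal.primeCompl c
  refine ⟨d.1, r, (mem_basicOpen_iff hW y hy d.1).2 d.2, ?_⟩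
  rw [mul_comm]
  exact hd

theorem mem_of_germ_mem_span (hW : IsAffineOpen W) (hM : Coh.IsQCoh M)
    (S : Submodule Γ(X, W) Γ(M, W)) (m : Γ(M, W))
    (h : ∀ (y : X) (hy : y ∈ W), M.presheaf.germ W y hy m ∈
      Submodule.span (X.presheaf.stalk y) ((M.presheaf.germ W y hy) '' (S : Set Γ(M, W)))) :
    m ∈ S := by
  apply mem_of_locally hW
  intro y hy
  have key : ∀ t ∈ Submodule.span (X.presheaf.stalk y) ((M.presheaf.germ W y hy) '' (S : Set Γ(M, W))),
      ∃ (g : Γ(X, W)) (s : Γ(M, W)), y ∈ X.basicOpen g ∧ s ∈ S ∧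
        X.presheaf.germ W y hy g • t = M.presheaf.germ W y hy s := by
    intro t ht
    refine Submodule.span_induction (p := fun t _ => ∃ (g : Γ(X, W)) (s : Γ(M, W)),
      y ∈ X.basicOpen g ∧ s ∈ S ∧
        X.presheaf.germ W y hy g • t = M.presheaf.germ W y hy s) ?_ ?_ ?_ ?_ ht
    · rintro _ ⟨s, hs, rfl⟩
      refine ⟨1, s, ?_, hs, ?_⟩
      · rw [X.mem_basicOpen _ y hy, map_one]
        exact isUnit_one
      · rw [map_one, one_smul]
    · refine ⟨1, 0, ?_, S.zero_mem, ?_⟩
      · rw [X.mem_basicOpen _ y hy, map_one]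
        exact isUnit_one
      · rw [smul_zero, map_zero]
    · rintro a b _ _ ⟨g, s, hg, hs, h1⟩ ⟨g', s', hg', hs', h2⟩
      refine ⟨g * g', g' • s + g • s', ?_, S.add_mem (S.smul_mem _ hs) (S.smul_mem _ hs'), ?_⟩
      · rw [X.mem_basicOpen _ y hy] at hg hg' ⊢
        rw [map_mul]
        exact hg.mul hg'
      · rw [map_add, germ_smul', germ_smul', ← h1, ← h2, map_mul, smul_add, smul_smul, smul_smul,
          mul_comm (X.presheaf.germ W y hy g') (X.presheaf.germ W y hy g)]
    · rintro c b _ ⟨g, s, hg, hs, h1⟩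
      obtain ⟨d, r, hd, hdr⟩ := exists_germ_div hW y hy c
      refine ⟨d * g, r • s, ?_, S.smul_mem _ hs, ?_⟩
      · rw [X.mem_basicOpen _ y hy] at hd hg ⊢
        rw [map_mul]
        exact hd.mul hg
      · rw [germ_smul', ← h1, ← hdr, map_mul, smul_smul, smul_smul]
        congr 1
        ring
  obtain ⟨g, s, hg, hs, h1⟩ := key _ (h y hy)
  have h2 : M.presheaf.germ W y hy (g • m - s) = 0 := by
    rw [map_sub, germ_smul', h1, sub_self]
  obtain ⟨g', hg', h3⟩ := exists_smul_eq_zero_of_germ_eq_zero M hW hM y hy _ h2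
  refine ⟨g' * g, ?_, ?_⟩
  · rw [X.mem_basicOpen _ y hy] at hg hg' ⊢
    rw [map_mul]
    exact hg'.mul hg
  · rw [smul_sub, sub_eq_zero] at h3
    rw [mul_smul, h3]
    exact S.smul_mem _ hs

/-- Finitely many sections whose germs span all the stalks generate. -/
theorem finite_of_germs (hW : IsAffineOpen W) (hM : Coh.IsQCoh M) {ι : Type*} [Finite ι]
    (s : ι → Γ(M, W))
    (h : ∀ (y : X) (hy : y ∈ W), Submodule.span (X.presheaf.stalk y)
      (Set.range fun i => M.presheaf.germ W y hy (s i)) = ⊤) :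
    Module.Finite Γ(X, W) Γ(M, W) := by
  rw [Module.finite_def, Submodule.fg_def]
  refine ⟨Set.range s, Set.finite_range s, ?_⟩
  rw [eq_top_iff]
  intro m _
  apply mem_of_germ_mem_span hW hM
  intro y hy
  have h1 : (⊤ : Submodule (X.presheaf.stalk y) (M.presheaf.stalk y)) ≤
      Submodule.span (X.presheaf.stalk y)
        ((M.presheaf.germ W y hy) '' (Submodule.span Γ(X, W) (Set.range s) : Set Γ(M, W))) := by
    rw [← h y hy]
    apply Submodule.span_mono
    rintro _ ⟨i, rfl⟩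
    exact ⟨s i, Submodule.subset_span ⟨i, rfl⟩, rfl⟩
  exact h1 trivial

/-- Germs of generators generate the stalks. -/
theorem span_germ_of_span (hW : IsAffineOpen W) (hM : Coh.IsQCoh M) {ι : Type*}
    (s : ι → Γ(M, W)) (hs : Submodule.span Γ(X, W) (Set.range s) = ⊤) (y : X) (hy : y ∈ W) :
    Submodule.span (X.presheaf.stalk y) (Set.range fun i => M.presheaf.germ W y hy (s i)) = ⊤ := by
  have key : ∀ m : Γ(M, W), M.presheaf.germ W y hy m ∈
      Submodule.span (X.presheaf.stalk y) (Set.range fun i => M.presheaf.germ W y hy (s i)) := by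
    intro m
    have hm : m ∈ Submodule.span Γ(X, W) (Set.range s) := by rw [hs]; trivial
    refine Submodule.span_induction (p := fun m _ => M.presheaf.germ W y hy m ∈
      Submodule.span (X.presheaf.stalk y) (Set.range fun i => M.presheaf.germ W y hy (s i)))
      ?_ ?_ ?_ ?_ hm
    · rintro _ ⟨i, rfl⟩
      exact Submodule.subset_span ⟨i, rfl⟩
    · rw [map_zero]
      exact Submodule.zero_mem _
    · intro a b _ _ ha hb
      rw [map_add]
      exact Submodule.add_mem _ ha hb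
    · intro r a _ ha
      rw [germ_smul']
      exact Submodule.smul_mem _ _ ha
  rw [eq_top_iff]
  intro t _
  obtain ⟨g, m, hg, hm⟩ := exists_germ_eq_smul M hW hM y hy t
  rw [X.mem_basicOpen _ y hy] at hg
  obtain ⟨v, hv⟩ := hg
  have h1 : t = (v⁻¹ : (X.presheaf.stalk y)ˣ) • M.presheaf.germ W y hy m := by
    rw [hm, ← hv, Units.smul_def, smul_smul, Units.inv_mul, one_smul]
  rw [h1]
  exact Submodule.smul_mem _ _ (key m)

end Groth.Agent.FormalB.SpanStalk
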