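import Groth.Agent.FormalB.KilledEquiv
import Groth.Agent.FormalB.SpanStalk
import Groth.Agent.Ega1.QcqsPush

/-!
# Direct images of coherent modules killed by a power of `I`, along a morphism which is an
isomorphism over `V(I)`
-/

set_option autoImplicit false
universe u

open CategoryTheory CategoryTheory.Limits AlgebraicGeometry Opposite TopologicalSpace

namespace Groth.Agent.FormalB.PushCoh

open Groth.Agent.Fdesc.Skyscraper Groth.Agent.Fdesc.PullbackStalk Groth.Agent.FormalB.TorsionAlg
open Groth.Agent.FormalB.ModPow Groth.Agent.FormalB.TopPush Groth.Agent.FormalB.IsoAlong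
open Groth.Agent.FormalB.KilledEquiv Groth.Agent.FormalB.SpanStalk

variable {A : Type u} [CommRing A] {X X' : Scheme.{u}} [X.Over (Spec (CommRingCat.of A))]
  [X'.Over (Spec (CommRingCat.of A))] {f : X' ⟶ X} {I : Ideal A}

theorem isClosed_zeroSet_image (h : IsIsoAlong f I) : IsClosed (zeroSet X I) := by
  rw [← h.image]
  exact h.closedOn.closed _ le_rfl h.closedOn.isClosed

/-- The stalk of the direct image at `f x'` is spanned by the germs of extensions by zero of
generators. -/
theorem span_stalk_push (h : IsIsoAlong f I)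
    (hf : f ≫ (X ↘ Spec (CommRingCat.of A)) = X' ↘ Spec (CommRingCat.of A))
    {k : ℕ} {N : X'.Modules}
    (hN : Formal.KilledBy (I ^ k) N) (V : X'.Opens) {ι : Type*} (n : ι → Γ(N, V))
    (hn : ∀ (y : X') (hy : y ∈ V), Submodule.span (X'.presheaf.stalk y)
      (Set.range fun i => N.presheaf.germ V y hy (n i)) = ⊤)
    (m : ι → Γ(N, f ⁻¹ᵁ (h.closedOn.open V)))
    (hm : ∀ (i : ι) (y : X') (hy : y ∈ f ⁻¹ᵁ (h.closedOn.open V)) (hyV : y ∈ V),
      N.presheaf.germ _ y hy (m i) = N.presheaf.germ V y hyV (n i))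
    (y : X') (hyZ : y ∈ zeroSet X' I) (hy : f.base y ∈ h.closedOn.open V) :
    Submodule.span (X.presheaf.stalk (f.base y)) (Set.range fun i =>
      ((Scheme.Modules.pushforward f).obj N).presheaf.germ (h.closedOn.open V) (f.base y) hy
        (m i)) = ⊤ := by
  have hyV : y ∈ V := h.closedOn.of_mem_open hy hyZ
  have hb := pushAdd_bijective h.closedOn (suppIn_of_killed hN) hyZ
  rw [eq_top_iff]
  intro t _
  -- work with the image in `N_y`
  have key : ∀ u ∈ Submodule.span (X'.presheaf.stalk y)
      (Set.range fun i => N.presheaf.germ V y hyV (n i)),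
      ∃ t ∈ Submodule.span (X.presheaf.stalk (f.base y)) (Set.range fun i =>
        ((Scheme.Modules.pushforward f).obj N).presheaf.germ (h.closedOn.open V) (f.base y) hy
          (m i)), pushAdd f N y t = u := by
    intro u hu
    refine Submodule.span_induction (p := fun u _ =>
      ∃ t ∈ Submodule.span (X.presheaf.stalk (f.base y)) (Set.range fun i =>
        ((Scheme.Modules.pushforward f).obj N).presheaf.germ (h.closedOn.open V) (f.base y) hy
          (m i)), pushAdd f N y t = u) ?_ ?_ ?_ ?_ hu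
    · rintro _ ⟨i, rfl⟩
      refine ⟨_, Submodule.subset_span ⟨i, rfl⟩, ?_⟩
      exact (pushAdd_germ f N y (h.closedOn.open V) hy (m i)).trans (hm i y hy hyV)
    · exact ⟨0, Submodule.zero_mem _, map_zero _⟩
    · rintro a b _ _ ⟨t, ht, rfl⟩ ⟨t', ht', rfl⟩
      exact ⟨t + t', Submodule.add_mem _ ht ht', map_add _ _ _⟩
    · rintro c a _ ⟨t, ht, rfl⟩
      let := stalkAlg f y
      obtain ⟨r, hr⟩ := exists_sub_mem_pow (h.isoMod y hyZ).surj k c
      refine ⟨r • t, Submodule.smul_mem _ _ ht, ?_⟩
      rw [pushAdd_smul]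
      have h0 : (c - f.stalkMap y r) • pushAdd f N y t = 0 := by
        apply smul_stalk_pow_eq_zero hN y
        rw [← map_stkIdeal f hf, ← Ideal.map_pow]
        exact hr
      rw [sub_smul, sub_eq_zero] at h0
      exact h0.symm
  obtain ⟨t', ht', h'⟩ := key (pushAdd f N y t) (by rw [hn y hyV]; trivial)
  rwa [← hb.1 h']

theorem isFT_pushforward (h : IsIsoAlong f I)
    (hf : f ≫ (X ↘ Spec (CommRingCat.of A)) = X' ↘ Spec (CommRingCat.of A))
    {k : ℕ} {N : X'.Modules}
    (hN : Formal.KilledBy (I ^ k) N) (hc : Coh.IsCoh N)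
    (hq : Coh.IsQCoh ((Scheme.Modules.pushforward f).obj N)) :
    CohB1.IsFT ((Scheme.Modules.pushforward f).obj N) := by
  apply Groth.Agent.CohqB.FiniteType2.isFT_of_finite_sections
  intro x
  by_cases hx : x ∈ zeroSet X I
  · rw [← h.image] at hx
    obtain ⟨x', hx', rfl⟩ := hx
    obtain ⟨_, ⟨V, hV, rfl⟩, hxV, -⟩ := X'.isBasis_affineOpens.exists_subset_of_mem_open
      (Set.mem_univ x') isOpen_univ
    have : Coh.IsQCoh N := hc.1
    have hfin := Groth.Agent.CohqB.FiniteType2.finite_sections_of_isFT N hc.2 hV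
    obtain ⟨T, hT⟩ := hfin.fg_top
    let n : T → Γ(N, V) := fun i => i.1
    have hn : ∀ (y : X') (hy : y ∈ V), Submodule.span (X'.presheaf.stalk y)
        (Set.range fun i => N.presheaf.germ V y hy (n i)) = ⊤ := by
      intro y hy
      refine span_germ_of_span hV hc.1 n ?_ y hy
      rw [← hT]
      congr 1
      exact Subtype.range_coe
    choose m hm using fun i : T => exists_extend h.closedOn (suppIn_of_killed hN) V (n i)
    obtain ⟨_, ⟨W, hW, rfl⟩, hxW, hWU⟩ := X.isBasis_affineOpens.exists_subset_of_mem_open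
      (h.closedOn.mem_open hx' hxV) (h.closedOn.open V).isOpen
    refine ⟨W, hxW, hW, ?_⟩
    refine finite_of_germs hW hq (fun i =>
      ((Scheme.Modules.pushforward f).obj N).presheaf.map (homOfLE hWU).op (m i)) ?_
    intro y hy
    by_cases hyZ : y ∈ zeroSet X I
    · rw [← h.image] at hyZ
      obtain ⟨y', hy', rfl⟩ := hyZ
      rw [← span_stalk_push h hf hN V n hn m hm y' hy' (hWU hy)]
      congr 1
      ext t
      constructor
      · rintro ⟨i, rfl⟩
        exact ⟨i, (TopCat.Presheaf.germ_res_apply _ (homOfLE hWU) _ hy _).symm⟩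
      · rintro ⟨i, rfl⟩
        exact ⟨i, TopCat.Presheaf.germ_res_apply _ (homOfLE hWU) _ hy _⟩
    · have := stalk_subsingleton_of_killed (pushforward_killedBy hf hN) y hyZ
      exact Subsingleton.elim _ _
  · obtain ⟨_, ⟨W, hW, rfl⟩, hxW, hWU⟩ := X.isBasis_affineOpens.exists_subset_of_mem_open
      (show x ∈ (zeroSet X I)ᶜ from hx) (isClosed_zeroSet_image h).isOpen_compl
    refine ⟨W, hxW, hW, ?_⟩
    have : Subsingleton Γ((Scheme.Modules.pushforward f).obj N, W) := by
      refine suppIn_of_killed (pushforward_killedBy hf hN) W ?_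
      rw [Set.disjoint_left]
      intro y hy hyZ
      exact hWU hy hyZ
    infer_instance

theorem isCoh_pushforward [QuasiCompact f] [QuasiSeparated f] (h : IsIsoAlong f I)
    (hf : f ≫ (X ↘ Spec (CommRingCat.of A)) = X' ↘ Spec (CommRingCat.of A))
    {k : ℕ} {N : X'.Modules}
    (hN : Formal.KilledBy (I ^ k) N) (hc : Coh.IsCoh N) :
    Coh.IsCoh ((Scheme.Modules.pushforward f).obj N) := by
  have hq : Coh.IsQCoh ((Scheme.Modules.pushforward f).obj N) :=
    Groth.Agent.Ega1.QcqsPush.isQCoh_pushforward f N hc.1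
  exact ⟨hq, isFT_pushforward h hf hN hc hq⟩

/-- Full faithfulness of the pullback on systems of modules killed by powers of `I`. -/
theorem whiskerRight_pullback_bijective [Flat f] (h : IsIsoAlong f I)
    (hf : f ≫ (X ↘ Spec (CommRingCat.of A)) = X' ↘ Spec (CommRingCat.of A))
    {G₁ G₂ : ℕᵒᵖ ⥤ X.Modules} (k : ℕ → ℕ)
    (h₂ : ∀ n, Formal.KilledBy (I ^ (k n)) (G₂.obj (op n))) :
    Function.Bijective (fun φ : G₁ ⟶ G₂ =>
      Functor.whiskerRight φ (Scheme.Modules.pullback f)) := by
  let adj := Scheme.Modules.pullbackPushforwardAdjunction f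
  have hη : ∀ n : ℕᵒᵖ, IsIso (adj.unit.app (G₂.obj n)) := fun n => isIso_unit h hf (h₂ n.unop)
  constructor
  · intro φ ψ hφψ
    ext n : 2
    have h1 : (Scheme.Modules.pullback f).map (φ.app n) =
        (Scheme.Modules.pullback f).map (ψ.app n) := congrArg (fun χ => χ.app n) hφψ
    rw [← cancel_mono (adj.unit.app (G₂.obj n))]
    have e1 : φ.app n ≫ adj.unit.app (G₂.obj n) = adj.unit.app (G₁.obj n) ≫
        (Scheme.Modules.pushforward f).map ((Scheme.Modules.pullback f).map (φ.app n)) :=
      adj.unit.naturality (φ.app n)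
    have e2 : ψ.app n ≫ adj.unit.app (G₂.obj n) = adj.unit.app (G₁.obj n) ≫
        (Scheme.Modules.pushforward f).map ((Scheme.Modules.pullback f).map (ψ.app n)) :=
      adj.unit.naturality (ψ.app n)
    rw [e1, e2, h1]
  · intro χ
    have hnat : ∀ {n m : ℕᵒᵖ} (i : n ⟶ m),
        (Scheme.Modules.pullback f).map (G₁.map i) ≫ χ.app m =
          χ.app n ≫ (Scheme.Modules.pullback f).map (G₂.map i) := fun i => χ.naturality i
    let φ : G₁ ⟶ G₂ :=
      { app := fun n => adj.homEquiv _ _ (χ.app n) ≫ inv (adj.unit.app (G₂.obj n))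
        naturality := by
          intro n m i
          rw [← cancel_mono (adj.unit.app (G₂.obj m))]
          simp only [Category.assoc, IsIso.inv_hom_id, Category.comp_id]
          have e : G₂.map i ≫ adj.unit.app (G₂.obj m) = adj.unit.app (G₂.obj n) ≫
              (Scheme.Modules.pushforward f).map ((Scheme.Modules.pullback f).map (G₂.map i)) :=
            adj.unit.naturality (G₂.map i)
          rw [e, IsIso.inv_hom_id_assoc, ← adj.homEquiv_naturality_right,
            ← adj.homEquiv_naturality_left, hnat]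
          rfl }
    refine ⟨φ, ?_⟩
    ext n : 2
    change (Scheme.Modules.pullback f).map
      (adj.homEquiv _ _ (χ.app n) ≫ inv (adj.unit.app (G₂.obj n))) = χ.app n
    have e1 : (Scheme.Modules.pullback f).map (adj.unit.app (G₂.obj n)) ≫
        adj.counit.app ((Scheme.Modules.pullback f).obj (G₂.obj n)) = 𝟙 _ :=
      adj.left_triangle_components (G₂.obj n)
    have e2 : (Scheme.Modules.pullback f).map (inv (adj.unit.app (G₂.obj n))) =
        adj.counit.app ((Scheme.Modules.pullback f).obj (G₂.obj n)) := by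
      rw [Functor.map_inv]
      exact (IsIso.eq_inv_of_hom_inv_id e1).symm
    rw [Functor.map_comp, e2]
    exact (adj.homEquiv_counit (g := adj.homEquiv _ _ (χ.app n))).symm.trans
      (Equiv.symm_apply_apply _ _)

/-- Essential surjectivity. -/
theorem exists_pullback_iso [Flat f] (h : IsIsoAlong f I)
    (hf : f ≫ (X ↘ Spec (CommRingCat.of A)) = X' ↘ Spec (CommRingCat.of A))
    {G : ℕᵒᵖ ⥤ X'.Modules} (hG : IsFormal I G) :
    Nonempty ((G ⋙ Scheme.Modules.pushforward f) ⋙ Scheme.Modules.pullback f ≅ G) := by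
  let adj := Scheme.Modules.pullbackPushforwardAdjunction f
  let θ : (G ⋙ Scheme.Modules.pushforward f) ⋙ Scheme.Modules.pullback f ⟶ G :=
    { app := fun n => adj.counit.app (G.obj n)
      naturality := fun n m i => adj.counit.naturality (G.map i) }
  have : ∀ n, IsIso (θ.app n) := fun n => isIso_counit h hf (hG.killed n.unop)
  have : IsIso θ := NatIso.isIso_of_isIso_app θ
  exact ⟨asIso θ⟩

end Groth.Agent.FormalB.PushCoh
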