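import Groth.Agent.FormalB.MilnorSheaf
import Groth.Agent.FormalB.ToSheafLimits
import Groth.Agent.CohqA.AffineVanish
import Groth.Agent.PerfA.QCohEpi

/-!
# Quasi-coherent formal systems, as towers of abelian sheaves: acyclic and surjective on affine opens
-/

set_option autoImplicit false
universe u

open CategoryTheory CategoryTheory.Limits CategoryTheory.Abelian AlgebraicGeometry Opposite
  TopologicalSpace

namespace Groth.Agent.FormalB.QCohTower

open Groth.Agent.FormalB.MilnorSheaf Groth.Agent.FormalB.SectHom Groth.Agent.FormalB.Milnor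

/-- The affine opens of a scheme. -/
def affs (X : Scheme.{u}) : Set (Opens X.toTopCat) := {U | IsAffineOpen (X := X) U}

theorem isBasis_affs (X : Scheme.{u}) : Opens.IsBasis (affs X) := X.isBasis_affineOpens

variable {A : Type u} [CommRing A] {I : Ideal A} {X : Scheme.{u}} [X.Over (Spec (CommRingCat.of A))]
  {G : ℕᵒᵖ ⥤ X.Modules}

theorem epi_of_isQCohFormal (hG : Formal2.IsQCohFormal I G) (n : ℕ) :
    Epi (G.map (homOfLE (Nat.le_succ n)).op) := by
  obtain ⟨h, hiso⟩ := hG.2.2 n
  have := cokernel.π_desc _ _ h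
  rw [← this]
  exact epi_comp _ _

theorem surjective_of_isQCohFormal (hG : Formal2.IsQCohFormal I G) (n : ℕ) (U : X.Opens)
    (hU : IsAffineOpen U) :
    Function.Surjective ((G.map (homOfLE (Nat.le_succ n)).op).app U) := by
  have := epi_of_isQCohFormal hG n
  have h1 : Coh.IsQCoh (G.obj (op (n + 1))) := hG.1 (n + 1)
  have h2 : Coh.IsQCoh (G.obj (op n)) := hG.1 n
  exact PerfA.QCohEpi.app_surjective_of_epi _ hU

/-- Maps out of free sheaves on affine opens lift along the transition maps. -/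
theorem exists_lift_tr (hG : Formal2.IsQCohFormal I G) (n : ℕ)
    (Z : Sheaf (Opens.grothendieckTopology X) AddCommGrpCat.{u})
    (hZ : freeOn (X := X.toTopCat) (affs X) Z)
    (z : Z ⟶ (G ⋙ SheafOfModules.toSheaf X.ringCatSheaf).obj (op n)) :
    ∃ y : Z ⟶ (G ⋙ SheafOfModules.toSheaf X.ringCatSheaf).obj (op (n + 1)),
      y ≫ tr (G ⋙ SheafOfModules.toSheaf X.ringCatSheaf) n = z := by
  obtain ⟨U, hU, rfl⟩ := hZ
  exact exists_lift_of_surjective (X := X.toTopCat) _ U (surjective_of_isQCohFormal hG n U hU) z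

theorem subsingleton_ext_tower (hG : Formal2.IsQCohFormal I G) (n : ℕ)
    (Z : Sheaf (Opens.grothendieckTopology X) AddCommGrpCat.{u})
    (hZ : freeOn (X := X.toTopCat) (affs X) Z) (p : ℕ) :
    Subsingleton (Ext Z ((G ⋙ SheafOfModules.toSheaf X.ringCatSheaf).obj (op n)) (p + 1)) := by
  obtain ⟨U, hU, rfl⟩ := hZ
  have h2 : Coh.IsQCoh (G.obj (op n)) := hG.1 n
  exact CohqA.AffineVanish.HU_subsingleton (G.obj (op n)) (p + 1) p.succ_pos U hU

theorem separating_affs (X : Scheme.{u}) {K W : Sheaf (Opens.grothendieckTopology X) AddCommGrpCat.{u}}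
    (h : K ⟶ W) (hh : ∀ Z, freeOn (X := X.toTopCat) (affs X) Z → ∀ z : Z ⟶ K, z ≫ h = 0) : h = 0 :=
  separating_of_isBasis (X := X.toTopCat) (affs X) (isBasis_affs X) h hh

end Groth.Agent.FormalB.QCohTower
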