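import Mathlib.Algebra.Homology.QuasiIso
import Mathlib.Algebra.Homology.HomologySequence
import Mathlib.Algebra.Category.ModuleCat.Abelian
import Mathlib.Algebra.Homology.ShortComplex.ModuleCat
import Mathlib.Algebra.Homology.ConcreteCategory

/-!
Elementwise consequences of a quasi-isomorphism of complexes of modules.
-/

set_option autoImplicit false
universe v u

open CategoryTheory CategoryTheory.Limits

namespace Groth.Agent.FormalB.QisoElt851

variable {A : Type u} [Ring A] {ι : Type*} {c : ComplexShape ι}
  {C D : HomologicalComplex (ModuleCat.{v} A) c} (φ : C ⟶ D)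

theorem exists_cycle (D : HomologicalComplex (ModuleCat.{v} A) c) {i : ι} (t : D.X i)
    (ht : ∀ j, D.d i j t = 0) : ∃ z : D.cycles i, D.iCycles i z = t := by
  let S : ShortComplex (ModuleCat.{v} A) := ShortComplex.mk (D.iCycles i) (D.d i (c.next i))
    (D.iCycles_d _ _)
  have hS : S.Exact := ShortComplex.exact_of_f_is_kernel _ (D.cyclesIsKernel i (c.next i) rfl)
  rw [ShortComplex.moduleCat_exact_iff] at hS
  exact hS t (ht _)

theorem d_iCycles (D : HomologicalComplex (ModuleCat.{v} A) c) {i : ι} (z : D.cycles i) (j : ι) :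
    D.d i j (D.iCycles i z) = 0 := by
  have h : D.iCycles i ≫ D.d i j = 0 := D.iCycles_d i j
  exact congr(($h) z)

theorem homologyπ_surjective (D : HomologicalComplex (ModuleCat.{v} A) c) (i : ι) :
    Function.Surjective (D.homologyπ i) := by
  rw [← ModuleCat.epi_iff_surjective]
  infer_instance

/-- An element of `Zⁱ` whose class vanishes is a boundary. -/
theorem exists_bd (D : HomologicalComplex (ModuleCat.{v} A) c) {i : ι} (z : D.cycles i)
    (hz : D.homologyπ i z = 0) : ∃ (j : ι) (w : D.X j), D.d j i w = D.iCycles i z := by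
  let S : ShortComplex (ModuleCat.{v} A) := ShortComplex.mk (D.toCycles (c.prev i) i)
    (D.homologyπ i) (D.toCycles_comp_homologyπ _ _)
  have hS : S.Exact :=
    ShortComplex.exact_of_g_is_cokernel _ (D.homologyIsCokernel (c.prev i) i rfl)
  rw [ShortComplex.moduleCat_exact_iff] at hS
  obtain ⟨w, hw⟩ := hS z hz
  refine ⟨c.prev i, w, ?_⟩
  rw [← hw]
  have h := D.toCycles_i (c.prev i) i
  exact congr(($h) w).symm

theorem homologyπ_eq_zero (D : HomologicalComplex (ModuleCat.{v} A) c) {i : ι} (z : D.cycles i)
    (hz : ∃ (j : ι) (w : D.X j), D.d j i w = D.iCycles i z) : D.homologyπ i z = 0 := by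
  obtain ⟨j, w, hw⟩ := hz
  have h1 : D.toCycles j i w = z := by
    have hinj : Function.Injective (D.iCycles i) := by
      rw [← ModuleCat.mono_iff_injective]
      infer_instance
    apply hinj
    rw [← hw]
    have h := D.toCycles_i j i
    exact congr(($h) w)
  rw [← h1]
  have h := D.toCycles_comp_homologyπ j i
  exact congr(($h) w)

theorem exists_of_quasiIso [QuasiIso φ] {i : ι} (t : D.X i) (ht : ∀ j, D.d i j t = 0) :
    ∃ s : C.X i, (∀ j, C.d i j s = 0) ∧ ∃ (j : ι) (w : D.X j), D.d j i w = t - φ.f i s := by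
  have hbij : Function.Surjective (HomologicalComplex.homologyMap φ i) := by
    rw [← ModuleCat.epi_iff_surjective]
    infer_instance
  obtain ⟨z, hz⟩ := exists_cycle D t ht
  obtain ⟨σ, hσ⟩ := hbij (D.homologyπ i z)
  obtain ⟨z', rfl⟩ := homologyπ_surjective C i σ
  refine ⟨C.iCycles i z', d_iCycles C z', ?_⟩
  have e1 : HomologicalComplex.homologyMap φ i (C.homologyπ i z') =
      D.homologyπ i (HomologicalComplex.cyclesMap φ i z') := by
    have h := HomologicalComplex.homologyπ_naturality φ i
    exact congr(($h) z')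
  have e2 : D.iCycles i (HomologicalComplex.cyclesMap φ i z') = φ.f i (C.iCycles i z') := by
    have h := HomologicalComplex.cyclesMap_i φ i
    exact congr(($h) z')
  have e3 : D.homologyπ i (z - HomologicalComplex.cyclesMap φ i z') = 0 := by
    rw [map_sub, ← hσ, e1, sub_self]
  obtain ⟨j, w, hw⟩ := exists_bd D _ e3
  exact ⟨j, w, by rw [hw, map_sub, hz, e2]⟩

theorem bd_of_quasiIso [QuasiIso φ] {i : ι} (s : C.X i) (hs : ∀ j, C.d i j s = 0)
    (h : ∃ (j : ι) (w : D.X j), D.d j i w = φ.f i s) :
    ∃ (j : ι) (y : C.X j), C.d j i y = s := by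
  have hinj : Function.Injective (HomologicalComplex.homologyMap φ i) := by
    rw [← ModuleCat.mono_iff_injective]
    infer_instance
  obtain ⟨z, hz⟩ := exists_cycle C s hs
  have e1 : HomologicalComplex.homologyMap φ i (C.homologyπ i z) =
      D.homologyπ i (HomologicalComplex.cyclesMap φ i z) := by
    have h := HomologicalComplex.homologyπ_naturality φ i
    exact congr(($h) z)
  have e2 : D.iCycles i (HomologicalComplex.cyclesMap φ i z) = φ.f i (C.iCycles i z) := by
    have h := HomologicalComplex.cyclesMap_i φ i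
    exact congr(($h) z)
  have e3 : D.homologyπ i (HomologicalComplex.cyclesMap φ i z) = 0 := by
    apply homologyπ_eq_zero
    rw [e2, hz]
    exact h
  have e4 : C.homologyπ i z = 0 := by
    apply hinj
    rw [e1, e3, map_zero]
  obtain ⟨j, y, hy⟩ := exists_bd C z e4
  exact ⟨j, y, hy.trans hz⟩

end Groth.Agent.FormalB.QisoElt851
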