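import Groth.Agent.FormalB.Milnor2

/-!
# Degree zero lifting to limits of towers, and the abstract induction for S0842
-/

set_option autoImplicit false
universe w v u

open CategoryTheory CategoryTheory.Limits CategoryTheory.Abelian Opposite

namespace Groth.Agent.FormalB.SplitH

open Groth.Agent.FormalB.Milnor

section Zero

variable {C : Type u} [Category.{v} C] [Abelian C] [HasExt.{w} C]

/-- Compatible families of classes in degree `0` lift to the limit. -/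
theorem exists_lift_ext_zero {G : ℕᵒᵖ ⥤ C} {c : Cone G} (hc : IsLimit c) (Z : C)
    (x : ∀ n, Ext Z (G.obj (op n)) 0)
    (hx : ∀ n, (Ext.mk₀ (tr G n)).postcomp Z (add_zero 0) (x (n + 1)) = x n) :
    ∃ y : Ext Z c.pt 0, ∀ n, (Ext.mk₀ (c.π.app (op n))).postcomp Z (add_zero 0) y = x n := by
  have h1 : ∀ n, ∃ z : Z ⟶ G.obj (op n), Ext.mk₀ z = x n := fun n => (Ext.mk₀_bijective Z _).surjective (x n)
  choose z hz using h1
  have hz2 : ∀ n, z (n + 1) ≫ tr G n = z n := by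
    intro n
    apply (Ext.mk₀_bijective Z _).injective
    rw [hz n, ← hx n, ← hz (n + 1), ← Ext.mk₀_comp_mk₀]
    rfl
  obtain ⟨y, hy⟩ := exists_lift_tower hc z hz2
  refine ⟨Ext.mk₀ y, fun n => ?_⟩
  rw [← hz n, ← hy n, ← Ext.mk₀_comp_mk₀]
  rfl

end Zero

section Ind

variable {A : Type u} [CommRing A] {r : ℕ} (f : Fin r → A) {H : Type v} [AddCommGroup H] [Module A H]

/-- The abstract induction on the power of the ideal. -/
theorem exists_bound_pow (P : ℕ → H → Prop)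
    (hP : ∀ k, ∃ c, ∀ x, P c x → ∃ y : Fin r → H, x = ∑ j, f j • y j ∧ ∀ j, P k (y j)) (m : ℕ) :
    ∃ c, ∀ x, P c x → ∃ (k : ℕ) (a : Fin k → A) (y : Fin k → H),
      (∀ i, a i ∈ Ideal.span (Set.range f) ^ m) ∧ x = ∑ i, a i • y i := by
  induction m with
  | zero => exact ⟨0, fun x _ => ⟨1, fun _ => 1, fun _ => x, by simp, by simp⟩⟩
  | succ m ih =>
    obtain ⟨k, hk⟩ := ih
    obtain ⟨c, hc⟩ := hP k
    refine ⟨c, fun x hx => ?_⟩
    obtain ⟨y, rfl, hy⟩ := hc x hx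
    choose s a z ha hz using fun j => hk (y j) (hy j)
    -- reindex the sigma type
    let e := Fintype.equivFin (Σ j : Fin r, Fin (s j))
    refine ⟨_, fun i => f (e.symm i).1 * a (e.symm i).1 (e.symm i).2,
      fun i => z (e.symm i).1 (e.symm i).2, fun i => ?_, ?_⟩
    · rw [pow_succ']
      exact Ideal.mul_mem_mul (Ideal.subset_span ⟨_, rfl⟩) (ha _ _)
    · rw [e.symm.sum_comp (fun p : Σ j : Fin r, Fin (s j) => (f p.1 * a p.1 p.2) • z p.1 p.2),
        Fintype.sum_sigma]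
      refine Finset.sum_congr rfl fun j _ => ?_
      conv_lhs => rw [hz j]
      rw [Finset.smul_sum]
      exact Finset.sum_congr rfl fun i _ => (mul_smul _ _ _).symm

/-- Transfer to compatible families. -/
theorem exists_bound_families {I : Ideal A} (m : ℕ) {Hn : ℕ → Type v} [∀ n, AddCommGroup (Hn n)] [∀ n, Module A (Hn n)]
    (t : ∀ n, Hn (n + 1) →+ Hn n) (ρ : ∀ n, H →+ Hn n) (hρ : ∀ n x, t n (ρ (n + 1) x) = ρ n x)
    (hs : ∀ n (a : A) x, ρ n (a • x) = a • ρ n x)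
    (hlift : ∀ x : ∀ n, Hn n, (∀ n, t n (x (n + 1)) = x n) → ∃ x', ∀ n, ρ n x' = x n)
    (c : ℕ) (hc : ∀ x, ρ c x = 0 → ∃ (k : ℕ) (a : Fin k → A) (y : Fin k → H),
      (∀ i, a i ∈ I ^ m) ∧ x = ∑ i, a i • y i) :
    ∀ x : ∀ n, Hn n, (∀ n, t n (x (n + 1)) = x n) → x c = 0 →
      ∃ (k : ℕ) (a : Fin k → A) (y : Fin k → ∀ n, Hn n),
        (∀ i, a i ∈ I ^ m ∧ ∀ n, t n (y i (n + 1)) = y i n) ∧ x = ∑ i, a i • y i := by
  intro x hx hx0
  obtain ⟨x', hx'⟩ := hlift x hx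
  obtain ⟨k, a, y, ha, hy⟩ := hc x' (by rw [hx', hx0])
  refine ⟨k, a, fun i n => ρ n (y i), fun i => ⟨ha i, fun n => hρ n _⟩, ?_⟩
  funext n
  rw [← hx' n, hy, map_sum, Finset.sum_apply]
  exact Finset.sum_congr rfl fun i _ => by rw [hs]; rfl

end Ind

end Groth.Agent.FormalB.SplitH
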