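import Groth.Agent.FormalB.TorSys
import Groth.Agent.FormalB.FormalLoc
import Groth.Agent.FormalB.LimAff
import Groth.Agent.CohqA.HBiprod

/-!
# Splitting maps on the limit of a coherent formal system
-/

set_option autoImplicit false
universe u

open CategoryTheory CategoryTheory.Limits AlgebraicGeometry Opposite TopologicalSpace

namespace Groth.Agent.FormalB.SplitLim

open ModPow ModPowAff AdicSys FormalLoc

attribute [local instance] Abelian.hasFiniteBiproducts

variable {A : Type u} [CommRing A] {X : Scheme.{u}} [X.Over (Spec (CommRingCat.of A))]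

section Local

variable {r : ℕ} (f : Fin r → A) (G : ℕᵒᵖ ⥤ X.Modules)

/-- Bound for the relations over a single open. -/
def Bd (U : X.Opens) (d : ℕ) : Prop :=
  ∀ (c n : ℕ) (_ : c + d ≤ n) (φ : ↥(Ideal.span (Set.range f) ^ c) →ₗ[A] A) (s : ℕ)
    (a : Fin s → ↥(Ideal.span (Set.range f) ^ c)) (_ : ∀ i, (a i : A) ∈ Ideal.span (Set.range f) ^ n)
    (N : ℕ) (_ : n ≤ N) (x : Fin s → Γ(G.obj (op N), U)) (_ : ∑ i, toΓ A X U (a i) • x i = 0)
    (q : ℕ) (hq : q + c ≤ N),
    ∑ i, toΓ A X U (φ (a i)) • (G.map (homOfLE (le_trans (Nat.le_add_right q c) hq)).op).app U (x i) = 0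

theorem exists_bd [IsLocallyNoetherian X] (hG : Formal.IsCohFormal (Ideal.span (Set.range f)) G) {U : X.Opens}
    (hU : IsAffineOpen U) : ∃ d, Bd f G U d := by
  let _ : Algebra A Γ(X, U) := (toΓ A X U).toAlgebra
  have : IsNoetherianRing Γ(X, U) := isNoetherianRing_sections hU
  obtain ⟨d, hd⟩ := TorSys.exists_bound (A := A) (B := Γ(X, U)) f (M := fun n => Γ(G.obj (op n), U))
    (t := secT G U) (isAdicSys_sections hG hU)
  refine ⟨d, fun c n hcn φ s a ha N hN x hx q hq => ?_⟩
  have h1 := hd c n hcn φ a ha N hN x hx q hq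
  rw [← h1]
  refine Finset.sum_congr rfl fun i _ => ?_
  rw [trans_secT]
  rfl

theorem exists_uniform_bd [IsNoetherian X] (hG : Formal.IsCohFormal (Ideal.span (Set.range f)) G) :
    ∃ d, ∀ x : X, ∃ U : X.Opens, x ∈ U ∧ IsAffineOpen U ∧ Bd f G U d :=
  exists_uniform_cover (fun U d => Bd f G U d)
    (fun U m n hmn h c n' hc => h c n' (by omega)) (fun U hU => exists_bd f G hG hU)

end Local

section Hom

variable {r : ℕ} {f : Fin r → A} {G : ℕᵒᵖ ⥤ X.Modules}

theorem smulMod_app_toΓ (M : X.Modules) (a : A) (U : X.Opens) (m : Γ(M, U)) :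
    (Formal.smulMod A M a).app U m = toΓ A X U a • m := rfl

/-- Maps `y i : Z ⟶ G_N` with `∑ aᵢ yᵢ = 0` satisfy `∑ φ(aᵢ) yᵢ = 0` after composition with `G_N ⟶ G_q`. -/
theorem rel_hom [IsNoetherian X] (hG : Formal.IsCohFormal (Ideal.span (Set.range f)) G) {d : ℕ}
    (hd : ∀ x : X, ∃ U : X.Opens, x ∈ U ∧ IsAffineOpen U ∧ Bd f G U d)
    {c n : ℕ} (hcn : c + d ≤ n) (φ : ↥(Ideal.span (Set.range f) ^ c) →ₗ[A] A) {s : ℕ}
    (a : Fin s → ↥(Ideal.span (Set.range f) ^ c)) (ha : ∀ i, (a i : A) ∈ Ideal.span (Set.range f) ^ n)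
    {N : ℕ} (hN : n ≤ N) {q : ℕ} (hq : q + c ≤ N) {Z : X.Modules} (y : Fin s → (Z ⟶ G.obj (op N)))
    (hy : ∑ i, y i ≫ Formal.smulMod A _ (a i : A) = 0) :
    ∑ i, y i ≫ Formal.smulMod A _ (φ (a i)) ≫
      G.map (homOfLE (le_trans (Nat.le_add_right q c) hq)).op = 0 := by
  classical
  let F : Fin s → X.Modules := fun _ => G.obj (op N)
  let e : (⨁ F) ⟶ G.obj (op N) := ∑ i, biproduct.π F i ≫ Formal.smulMod A _ (a i : A)
  have hF : Coh.IsQCoh (⨁ F) := CohqA.HBiprod.isQCoh_biproduct F fun _ => (hG.1 N).1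
  have hK : Coh.IsQCoh (kernel e) := PerfA.QCohSerre.isQCoh_kernel e hF (hG.1 N).1
  have key : kernel.ι e ≫ (∑ i, biproduct.π F i ≫ Formal.smulMod A _ (φ (a i)) ≫
      G.map (homOfLE (le_trans (Nat.le_add_right q c) hq)).op) = 0 := by
    refine eq_zero_of_cover hK (hG.1 q).1 _ fun x => ?_
    obtain ⟨U, hx, hU, hb⟩ := hd x
    refine ⟨U, hx, hU, fun m => ?_⟩
    have h1 := hb c n hcn φ s a ha N hN (fun i => (biproduct.π F i).app U ((kernel.ι e).app U m)) (by
      have h2 : (kernel.ι e ≫ e).app U m = 0 := by rw [kernel.condition]; rfl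
      change e.app U ((kernel.ι e).app U m) = 0 at h2
      rw [CohqA.HBiprod.app_sum] at h2
      exact h2) q hq
    change (∑ i, biproduct.π F i ≫ Formal.smulMod A _ (φ (a i)) ≫
      G.map (homOfLE (le_trans (Nat.le_add_right q c) hq)).op).app U ((kernel.ι e).app U m) = 0
    rw [CohqA.HBiprod.app_sum, ← h1]
    refine Finset.sum_congr rfl fun i _ => ?_
    change (G.map (homOfLE (le_trans (Nat.le_add_right q c) hq)).op).app U (toΓ A X U (φ (a i)) •
      (biproduct.π F i).app U ((kernel.ι e).app U m)) = _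
    rw [Scheme.Modules.Hom.app_smul]
  have h3 : biproduct.lift y ≫ e = 0 := by
    rw [← hy, Preadditive.comp_sum]
    exact Finset.sum_congr rfl fun i _ => by rw [biproduct.lift_π_assoc]
  have h4 := congrArg (fun t => kernel.lift e (biproduct.lift y) h3 ≫ t) key
  simp only [comp_zero, kernel.lift_ι_assoc, Preadditive.comp_sum, biproduct.lift_π_assoc] at h4
  exact h4

/-- The same on the limit of the system. -/
theorem rel_hom_limit [IsNoetherian X] (hG : Formal.IsCohFormal (Ideal.span (Set.range f)) G) {d : ℕ}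
    (hd : ∀ x : X, ∃ U : X.Opens, x ∈ U ∧ IsAffineOpen U ∧ Bd f G U d)
    {c n : ℕ} (hcn : c + d ≤ n) (φ : ↥(Ideal.span (Set.range f) ^ c) →ₗ[A] A) {s : ℕ}
    (a : Fin s → ↥(Ideal.span (Set.range f) ^ c)) (ha : ∀ i, (a i : A) ∈ Ideal.span (Set.range f) ^ n)
    {Z : X.Modules} (y : Fin s → (Z ⟶ limit G)) (hy : ∑ i, y i ≫ Formal.smulMod A _ (a i : A) = 0) :
    ∑ i, y i ≫ Formal.smulMod A _ (φ (a i)) = 0 := by
  apply limit.hom_ext
  rintro ⟨q⟩
  rw [zero_comp, Preadditive.sum_comp]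
  have h1 := rel_hom hG hd hcn φ a ha (N := n + c + q) (by omega) (q := q) (by omega)
    (fun i => y i ≫ limit.π G (op (n + c + q))) (by
      have h2 := congrArg (fun t => t ≫ limit.π G (op (n + c + q))) hy
      simp only [Preadditive.sum_comp, zero_comp, Category.assoc] at h2
      rw [← h2]
      refine Finset.sum_congr rfl fun i _ => ?_
      rw [Category.assoc, smulMod_naturality])
  rw [← h1]
  refine Finset.sum_congr rfl fun i _ => ?_
  rw [Category.assoc, Category.assoc, smulMod_naturality, smulMod_naturality, limit.w_assoc]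

theorem smulMod_sum (M : X.Modules) {ι : Type*} (t : Finset ι) (b : ι → A) :
    Formal.smulMod A M (∑ i ∈ t, b i) = ∑ i ∈ t, Formal.smulMod A M (b i) := by
  classical
  induction t using Finset.induction_on with
  | empty => rw [Finset.sum_empty, Finset.sum_empty, smulMod_zero]
  | insert i t hi ih => rw [Finset.sum_insert hi, Finset.sum_insert hi, smulMod_add, ih]

/-- Elements of `(K B) • L` with `K` generated by `a i`. -/
theorem exists_coeffs_of_mem {B : Type u} [CommRing B] (g : A →+* B) {L : Type u} [AddCommGroup L] [Module B L]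
    {s : ℕ} (a : Fin s → A) (z : L)
    (hz : z ∈ ((Ideal.span (Set.range a)).map g) • (⊤ : Submodule B L)) :
    ∃ y : Fin s → L, z = ∑ i, g (a i) • y i := by
  rw [Ideal.map_span, ← Set.range_comp] at hz
  induction hz using Submodule.smul_induction_on' with
  | smul b hb m hm =>
    obtain ⟨w, rfl⟩ := (Ideal.mem_span_range_iff_exists_fun).1 hb
    refine ⟨fun i => w i • m, ?_⟩
    rw [Finset.sum_smul]
    exact Finset.sum_congr rfl fun i _ => by rw [Function.comp_apply, mul_comm, mul_smul]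
  | add z1 _ z2 _ h1 h2 =>
    obtain ⟨y1, rfl⟩ := h1
    obtain ⟨y2, rfl⟩ := h2
    refine ⟨y1 + y2, ?_⟩
    rw [← Finset.sum_add_distrib]
    exact Finset.sum_congr rfl fun i _ => by rw [Pi.add_apply, smul_add]

theorem gens_comp_π_eq_zero (hG : Formal.IsCohFormal (Ideal.span (Set.range f)) G) {n : ℕ} {s : ℕ} (a : Fin s → A)
    (ha : ∀ i, a i ∈ Ideal.span (Set.range f) ^ (n + 1)) :
    (∑ i, biproduct.π (fun _ : Fin s => limit G) i ≫ Formal.smulMod A _ (a i)) ≫ limit.π G (op n) = 0 := by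
  rw [Preadditive.sum_comp]
  refine Finset.sum_eq_zero fun i _ => ?_
  rw [Category.assoc, smulMod_naturality, hG.2.1 n (a i) (ha i), comp_zero, comp_zero]

/-- `∐ lim G ⟶ ker (lim G ⟶ G_n)`, given by generators of `I^(n+1)`. -/
noncomputable def gens (hG : Formal.IsCohFormal (Ideal.span (Set.range f)) G) {n : ℕ} {s : ℕ} (a : Fin s → A)
    (ha : ∀ i, a i ∈ Ideal.span (Set.range f) ^ (n + 1)) :
    (⨁ fun _ : Fin s => limit G) ⟶ kernel (limit.π G (op n)) :=
  kernel.lift _ (∑ i, biproduct.π (fun _ : Fin s => limit G) i ≫ Formal.smulMod A _ (a i))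
    (gens_comp_π_eq_zero hG a ha)

theorem gens_ι (hG : Formal.IsCohFormal (Ideal.span (Set.range f)) G) {n : ℕ} {s : ℕ} (a : Fin s → A)
    (ha : ∀ i, a i ∈ Ideal.span (Set.range f) ^ (n + 1)) :
    gens hG a ha ≫ kernel.ι _ =
      ∑ i, biproduct.π (fun _ : Fin s => limit G) i ≫ Formal.smulMod A _ (a i) :=
  kernel.lift_ι _ _ _

theorem epi_gens [IsLocallyNoetherian X] (hG : Formal.IsCohFormal (Ideal.span (Set.range f)) G) {n : ℕ} {s : ℕ}
    (a : Fin s → A) (ha : ∀ i, a i ∈ Ideal.span (Set.range f) ^ (n + 1))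
    (hspan : Ideal.span (Set.range a) = Ideal.span (Set.range f) ^ (n + 1)) : Epi (gens hG a ha) := by
  refine SysSect.epi_of_affine _ fun U hU => ?_
  intro k
  have h0 : (limit.π G (op n)).app U ((kernel.ι (limit.π G (op n))).app U k) = 0 := by
    have := congr(($(kernel.condition (limit.π G (op n)))).app U k)
    exact this
  rw [LimAff.π_app_eq_zero_iff (LimAff.isQCohFormal_of_isCohFormal hG) hU
    (LimAff.fg_of_isLocallyNoetherian _ U hU), ← Ideal.map_pow, ← hspan] at h0
  obtain ⟨y, hy⟩ := exists_coeffs_of_mem (toΓ A X U) a _ h0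
  refine ⟨∑ i, (biproduct.ι (fun _ : Fin s => limit G) i).app U (y i), ?_⟩
  apply CohqB.QC4.app_injective_of_mono (kernel.ι (limit.π G (op n))) U
  rw [hy]
  have h1 := congr(($(gens_ι hG a ha)).app U (∑ i, (biproduct.ι (fun _ : Fin s => limit G) i).app U (y i)))
  refine Eq.trans h1 ?_
  rw [CohqA.HBiprod.app_sum]
  refine Finset.sum_congr rfl fun i _ => ?_
  change toΓ A X U (a i) • (biproduct.π (fun _ : Fin s => limit G) i).app U
    (∑ j, (biproduct.ι (fun _ : Fin s => limit G) j).app U (y j)) = _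
  congr 1
  rw [map_sum, Finset.sum_eq_single i]
  · have h2 := congr(($(biproduct.ι_π_self (fun _ : Fin s => limit G) i)).app U (y i))
    exact h2
  · intro j _ hj
    have h2 := congr(($(biproduct.ι_π_ne (fun _ : Fin s => limit G) hj)).app U (y j))
    exact h2
  · intro h; exact absurd (Finset.mem_univ i) h

/-- The splitting maps: for `n` large, the inclusion `ι` of `K = ker (lim G ⟶ G_n)` into `lim G` is `∑ f_j Ψ_j` with
`Ψ_j : K ⟶ lim G` vanishing modulo `I^(n+1-c)`. -/
theorem exists_splitting [IsNoetherian X] (hI : (Ideal.span (Set.range f)).FG)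
    (hG : Formal.IsCohFormal (Ideal.span (Set.range f)) G) (c : ℕ)
    (φ : Fin r → (↥(Ideal.span (Set.range f) ^ c) →ₗ[A] A))
    (hφ : ∀ x : ↥(Ideal.span (Set.range f) ^ c), (x : A) = ∑ j, f j * φ j x) :
    ∃ d, ∀ n, c + d ≤ n → ∃ Ψ : Fin r → (kernel (limit.π G (op n)) ⟶ limit G),
      (∑ j, Ψ j ≫ Formal.smulMod A _ (f j) = kernel.ι _) ∧
      ∀ j q, q + c ≤ n → Ψ j ≫ limit.π G (op q) = 0 := by
  obtain ⟨d, hd⟩ := exists_uniform_bd f G hG
  refine ⟨d, fun n hn => ?_⟩
  have hFG : (Ideal.span (Set.range f) ^ (n + 1)).FG := hI.pow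
  obtain ⟨s, a, hspan⟩ := Submodule.fg_iff_exists_fin_generating_family.1 hFG
  have hspan' : Ideal.span (Set.range a) = Ideal.span (Set.range f) ^ (n + 1) := hspan
  have ha : ∀ i, a i ∈ Ideal.span (Set.range f) ^ (n + 1) := fun i => by
    rw [← hspan']; exact Ideal.subset_span ⟨i, rfl⟩
  have hac : ∀ i, a i ∈ Ideal.span (Set.range f) ^ c := fun i =>
    Ideal.pow_le_pow_right (by omega) (ha i)
  have hepi : Epi (gens hG a ha) := epi_gens hG a ha hspan'
  let τ : Fin r → ((⨁ fun _ : Fin s => limit G) ⟶ limit G) := fun j =>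
    ∑ i, biproduct.π (fun _ : Fin s => limit G) i ≫ Formal.smulMod A _ (φ j ⟨a i, hac i⟩)
  have hτ : ∀ j, kernel.ι (gens hG a ha) ≫ τ j = 0 := by
    intro j
    have h1 := rel_hom_limit hG hd (c := c) (n := n + 1) (by omega) (φ j) (fun i => ⟨a i, hac i⟩) ha
      (fun i => kernel.ι (gens hG a ha) ≫ biproduct.π (fun _ : Fin s => limit G) i) (by
        have h2 : kernel.ι (gens hG a ha) ≫ gens hG a ha ≫ kernel.ι _ = 0 := by
          rw [kernel.condition_assoc, zero_comp]
        rw [gens_ι, Preadditive.comp_sum] at h2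
        rw [← h2]
        exact Finset.sum_congr rfl fun i _ => Category.assoc _ _ _)
    rw [← h1, Preadditive.comp_sum]
    exact Finset.sum_congr rfl fun i _ => (Category.assoc _ _ _).symm
  refine ⟨fun j => Abelian.epiDesc (gens hG a ha) (τ j) (hτ j), ?_, fun j q hq => ?_⟩
  · rw [← cancel_epi (gens hG a ha), Preadditive.comp_sum, gens_ι]
    simp only [Abelian.comp_epiDesc_assoc, τ, Preadditive.sum_comp, Category.assoc]
    rw [Finset.sum_comm]
    refine Finset.sum_congr rfl fun i _ => ?_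
    rw [← Preadditive.comp_sum]
    congr 1
    have h3 := hφ ⟨a i, hac i⟩
    change a i = _ at h3
    conv_rhs => rw [h3]
    rw [smulMod_sum]
    exact Finset.sum_congr rfl fun j _ => (smulMod_mul _ _ _).symm
  · rw [← cancel_epi (gens hG a ha), comp_zero, Abelian.comp_epiDesc_assoc, Preadditive.sum_comp]
    refine Finset.sum_eq_zero fun i _ => ?_
    rw [Category.assoc, smulMod_naturality, hG.2.1 q _ (Ideal.pow_le_pow_right (by omega)
      (TorSys.map_mem _ (show c ≤ n + 1 by omega) (φ j) ⟨a i, hac i⟩ (ha i))), comp_zero, comp_zero]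

end Hom

end Groth.Agent.FormalB.SplitLim
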