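import Groth.Agent.FormalB.TwistFrac

set_option autoImplicit false
set_option linter.unusedSectionVars false

universe u

open CategoryTheory CategoryTheory.Limits AlgebraicGeometry TopologicalSpace Opposite TopCat

namespace Groth.Agent.FormalB.TildeHom

open Groth.Agent.FormalB.GrTildeSect Groth.Agent.FormalB.GlueHom Groth.Agent.FormalB.TwistFrac

variable {R A : Type u} [CommRing R] [CommRing A] [Algebra R A] {𝒜 : ℕ → Submodule R A} [GradedAlgebra 𝒜]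
variable {M : Type u} [AddCommGroup M] [Module R M] [Module A M] {ℳ : ℕ → Submodule R M}
variable [SetLike.GradedSMul 𝒜 ℳ] [DirectSum.Decomposition ℳ]

/-- If two fractions agree on `U`, then near each point of `U` they agree after multiplying numerator and
denominator by a homogeneous element. -/
theorem exists_of_gfrac_eq {n : ℤ} {U : (Proj 𝒜).Opens} {j j' : ℕ} {s s' : A} {hs : s ∈ 𝒜 j} {hU : NV U s} {m m' : M}
    {hm : m ∈ zdeg ℳ (j + n)} {hs' : s' ∈ 𝒜 j'} {hU' : NV U s'} {hm' : m' ∈ zdeg ℳ (j' + n)}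
    (h : gfrac n U hs hU hm = gfrac n U hs' hU' hm') (x : ProjectiveSpectrum 𝒜) (hx : x ∈ U) :
    ∃ (i : ℕ) (a : A), a ∈ 𝒜 i ∧ a ∉ x.asHomogeneousIdeal ∧ (a * s') • m = (a * s) • m' := by
  have h1 : gval (gfrac n U hs hU hm) ⟨x, hx⟩ = gval (gfrac n U hs' hU' hm') ⟨x, hx⟩ := by rw [h]
  rw [gval_gfrac, gval_gfrac] at h1
  obtain ⟨a, hax, ha⟩ := exists_of_mk_eq h1
  obtain ⟨i, hi⟩ := exists_decompose_notMem 𝒜 x hax
  refine ⟨i, _, SetLike.coe_mem _, hi, ?_⟩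
  have hw : s' • m - s • m' ∈ zdeg ℳ ((j : ℤ) + j' + n) :=
    sub_mem (smul_mem_zdeg_of_eq 𝒜 hs' hm (by ring)) (smul_mem_zdeg_of_eq 𝒜 hs hm' (by ring))
  have h2 : (DirectSum.decompose 𝒜 a i : A) • (s' • m - s • m') = 0 := by
    rcases mem_zdeg_iff.mp hw with ⟨k, -, hk⟩ | h0
    · exact proj_smul_eq_zero 𝒜 hk ha i
    · rw [h0, smul_zero]
  rw [smul_sub, sub_eq_zero] at h2
  rw [mul_smul, mul_smul]
  exact h2

/-- To give a morphism out of `M(n)~`, it is enough to give a compatible family of values on fractions. -/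
theorem exists_hom_of_frac (n : ℤ) (F : (Proj 𝒜).Modules)
    (ev : ∀ (U : (Proj 𝒜).Opens) (j : ℕ) (s : A) (_ : s ∈ 𝒜 j) (_ : NV U s) (m : M) (_ : m ∈ zdeg ℳ (j + n)),
      Γ(F, U))
    (ev_res : ∀ (U V : (Proj 𝒜).Opens) (h : V ≤ U) (j : ℕ) (s : A) (hs : s ∈ 𝒜 j) (hU : NV U s) (m : M)
      (hm : m ∈ zdeg ℳ (j + n)), res F h (ev U j s hs hU m hm) = ev V j s hs (hU.mono h) m hm)
    (ev_add : ∀ (U : (Proj 𝒜).Opens) (j : ℕ) (s : A) (hs : s ∈ 𝒜 j) (hU : NV U s) (m m' : M)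
      (hm : m ∈ zdeg ℳ (j + n)) (hm' : m' ∈ zdeg ℳ (j + n)),
      ev U j s hs hU (m + m') (add_mem hm hm') = ev U j s hs hU m hm + ev U j s hs hU m' hm')
    (ev_cancel : ∀ (U : (Proj 𝒜).Opens) (i j : ℕ) (b s : A) (hb : b ∈ 𝒜 i) (hbU : NV U b) (hs : s ∈ 𝒜 j)
      (hU : NV U s) (m : M) (hm : m ∈ zdeg ℳ (j + n)),
      ev U (i + j) (b * s) (SetLike.mul_mem_graded hb hs) (hbU.mul hU) (b • m)
        (smul_mem_zdeg_of_eq 𝒜 hb hm (by push_cast; ring)) = ev U j s hs hU m hm)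
    (ev_smul : ∀ (U : (Proj 𝒜).Opens) (i j : ℕ) (a b s : A) (ha : a ∈ 𝒜 i) (hb : b ∈ 𝒜 i) (hbU : NV U b)
      (hs : s ∈ 𝒜 j) (hU : NV U s) (m : M) (hm : m ∈ zdeg ℳ (j + n)),
      ofrac U ha hb hbU • ev U j s hs hU m hm =
      ev U (i + j) (b * s) (SetLike.mul_mem_graded hb hs) (hbU.mul hU) (a • m)
        (smul_mem_zdeg_of_eq 𝒜 ha hm (by push_cast; ring))) :
    ∃ φ : GrTilde.tilde 𝒜 ℳ n ⟶ F, ∀ (U : (Proj 𝒜).Opens) (j : ℕ) (s : A) (hs : s ∈ 𝒜 j) (hU : NV U s) (m : M)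
      (hm : m ∈ zdeg ℳ (j + n)), φ.app U (gfrac n U hs hU hm) = ev U j s hs hU m hm := by
  have ev_congr : ∀ (U : (Proj 𝒜).Opens) (j j' : ℕ) (s s' : A) (hs : s ∈ 𝒜 j) (hs' : s' ∈ 𝒜 j') (hU : NV U s)
      (hU' : NV U s') (m m' : M) (hm : m ∈ zdeg ℳ (j + n)) (hm' : m' ∈ zdeg ℳ (j' + n)), j = j' → s = s' →
      m = m' → ev U j s hs hU m hm = ev U j' s' hs' hU' m' hm' := by
    rintro U j j' s s' hs hs' hU hU' m m' hm hm' rfl rfl rfl
    rfl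
  have main := exists_hom_of_rel (GrTilde.tilde 𝒜 ℳ n) F
    (fun U t y => ∃ (j : ℕ) (s : A) (hs : s ∈ 𝒜 j) (hU : NV U s) (m : M) (hm : m ∈ zdeg ℳ (j + n)),
      t = gfrac n U hs hU hm ∧ y = ev U j s hs hU m hm) ?_ ?_ ?_ ?_ ?_
  · obtain ⟨φ, hφ⟩ := main
    exact ⟨φ, fun U j s hs hU m hm => hφ U _ _ ⟨j, s, hs, hU, m, hm, rfl, rfl⟩⟩
  · intro U t x hx
    obtain ⟨V, h, e, g, m, hg, hV, hm, -, hxV, -, heq⟩ := exists_gfrac t x hx
    exact ⟨V, h, ev V e g hg hV m hm, hxV, e, g, hg, hV, m, hm, heq, rfl⟩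
  · rintro U t y y' ⟨j, s, hs, hU, m, hm, rfl, rfl⟩ ⟨j', s', hs', hU', m', hm', heq, rfl⟩
    refine eq_of_local F fun x hx => ?_
    obtain ⟨i, a, ha, hax, h⟩ := exists_of_gfrac_eq heq x hx
    let V : (Proj 𝒜).Opens := U ⊓ Proj.basicOpen 𝒜 a
    have hVU : V ≤ U := inf_le_left
    have hVa : NV V a := NV.of_le inf_le_right
    refine ⟨V, hVU, ⟨hx, hax⟩, ?_⟩
    rw [ev_res, ev_res]
    have e1 := ev_cancel V (i + j') j (a * s') s (SetLike.mul_mem_graded ha hs') (hVa.mul (hU'.mono hVU)) hs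
      (hU.mono hVU) m hm
    have e2 := ev_cancel V (i + j) j' (a * s) s' (SetLike.mul_mem_graded ha hs) (hVa.mul (hU.mono hVU)) hs'
      (hU'.mono hVU) m' hm'
    rw [← e1, ← e2]
    exact ev_congr _ _ _ _ _ _ _ _ _ _ _ _ _ (by ring) (by ring) h
  · rintro U V h t y ⟨j, s, hs, hU, m, hm, rfl, rfl⟩
    exact ⟨j, s, hs, hU.mono h, m, hm, res_gfrac _ _ _ _ _, ev_res _ _ _ _ _ _ _ _ _⟩
  · rintro U t t' y y' ⟨j, s, hs, hU, m, hm, rfl, rfl⟩ ⟨j', s', hs', hU', m', hm', rfl, rfl⟩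
    have hm2 : s' • m ∈ zdeg ℳ (((j' + j : ℕ) : ℤ) + n) := smul_mem_zdeg_of_eq 𝒜 hs' hm (by push_cast; ring)
    have hm2' : s • m' ∈ zdeg ℳ (((j' + j : ℕ) : ℤ) + n) := smul_mem_zdeg_of_eq 𝒜 hs hm' (by push_cast; ring)
    refine ⟨j' + j, s' * s, SetLike.mul_mem_graded hs' hs, hU'.mul hU, s' • m + s • m', add_mem hm2 hm2', ?_, ?_⟩
    · rw [← gfrac_add _ _ _ _ hm2 hm2']
      congr 1
      · exact gfrac_congr (by rw [mul_comm, mul_smul])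
      · exact gfrac_congr (by rw [mul_smul])
    · rw [ev_add _ _ _ _ _ _ _ hm2 hm2', ev_cancel U j' j s' s hs' hU' hs hU m hm]
      congr 1
      rw [← ev_cancel U j j' s s' hs hU hs' hU' m' hm']
      exact ev_congr _ _ _ _ _ _ _ _ _ _ _ _ _ (by ring) (by ring) rfl
  · rintro U c t y ⟨j, s, hs, hU, m, hm, rfl, rfl⟩ x hx
    obtain ⟨V, hVU, i, a, b, ha, hb, hV, hxV, hc⟩ := exists_ofrac c x hx
    refine ⟨V, hVU, hxV, i + j, b * s, SetLike.mul_mem_graded hb hs, hV.mul (hU.mono hVU), a • m,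
      smul_mem_zdeg_of_eq 𝒜 ha hm (by push_cast; ring), ?_, ?_⟩
    · rw [res_smul, hc, res_gfrac, ofrac_smul_gfrac]
    · rw [res_smul, hc, ev_res, ev_smul]

/-- Two morphisms out of `M(n)~` agreeing on fractions are equal. -/
theorem hom_ext_frac {n : ℤ} {F : (Proj 𝒜).Modules} {φ ψ : GrTilde.tilde 𝒜 ℳ n ⟶ F}
    (h : ∀ (U : (Proj 𝒜).Opens) (j : ℕ) (s : A) (hs : s ∈ 𝒜 j) (hU : NV U s) (m : M)
      (hm : m ∈ zdeg ℳ (j + n)), φ.app U (gfrac n U hs hU hm) = ψ.app U (gfrac n U hs hU hm)) : φ = ψ := by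
  apply Scheme.Modules.hom_ext
  intro U
  ext t
  refine eq_of_local F fun x hx => ?_
  obtain ⟨V, hVU, e, g, m, hg, hV, hm, -, hxV, -, heq⟩ := exists_gfrac t x hx
  refine ⟨V, hVU, hxV, ?_⟩
  rw [← app_res, ← app_res, heq]
  exact h _ _ _ _ _ _ _

end Groth.Agent.FormalB.TildeHom
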