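import Groth.Agent.FormalB.TildeOfPres

set_option autoImplicit false
set_option linter.unusedSectionVars false

universe u

open CategoryTheory CategoryTheory.Limits AlgebraicGeometry TopologicalSpace Opposite TopCat

namespace Groth.Agent.FormalB.TildeIso

open Groth.Agent.FormalB.GrTildeSect Groth.Agent.FormalB.GlueHom Groth.Agent.FormalB.TwistFrac
open Groth.Agent.FormalB.TildeHom Groth.Agent.FormalB.GradedQuot Groth.Agent.FormalB.TildeOfPres

variable {R A : Type u} [CommRing R] [CommRing A] [Algebra R A] {𝒜 : ℕ → Submodule R A} [GradedAlgebra 𝒜]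

theorem mem_pow {i : ℕ} {a : A} (ha : a ∈ 𝒜 i) (k : ℕ) : a ^ k ∈ 𝒜 (k * i) := by
  simpa [smul_eq_mul] using SetLike.pow_mem_graded k ha

theorem oval_pow {U : (Proj 𝒜).Opens} (c : Γ(Proj 𝒜, U)) (k : ℕ) (x : U) : oval (c ^ k) x = oval c x ^ k := by
  induction k with
  | zero => rw [pow_zero, pow_zero]; exact oval_one x
  | succ k ih => rw [pow_succ, pow_succ, oval_mul, ih]

theorem ofrac_pow {U : (Proj 𝒜).Opens} {i : ℕ} {a b : A} (ha : a ∈ 𝒜 i) (hb : b ∈ 𝒜 i) (hU : NV U b) (k : ℕ) :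
    ofrac U ha hb hU ^ k = ofrac U (mem_pow ha k) (mem_pow hb k) (hU.pow k) := by
  apply oval_ext
  intro x
  rw [oval_pow, oval_ofrac, oval_ofrac, Localization.mk_pow]
  rfl

section Main

variable {J : Type} [Fintype J] (e : J → ℕ) {F : (Proj 𝒜).Modules} (φ : ∀ j, Twist.twist 𝒜 (-(e j : ℤ)) ⟶ F)

variable {ι : Type} [Fintype ι] {c : ℕ} (hc : 0 < c) {f : ι → A} (hf : ∀ i, f i ∈ 𝒜 c)
  (hcov : ∀ x : ProjectiveSpectrum 𝒜, ∃ i, f i ∉ x.asHomogeneousIdeal)

include hc hf hcov in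
/-- If the evaluation of `v / g` vanishes on `D_+(g)` then some `g ^ m v` is killed by the evaluation map. -/
theorem exists_null (hF : SheafOfModules.IsQuasicoherent (R := (Proj 𝒜).ringCatSheaf) F) {n : ℕ} {g : A} (hg : g ∈ 𝒜 n)
    {U : (Proj 𝒜).Opens} (hUg : U = Proj.basicOpen 𝒜 g) (hU : NV U g)
    {v : J → A} (hv : v ∈ shiftPart 𝒜 e n) (h0 : ev e φ U hg hU hv = 0) :
    ∃ m l : ℕ, Null e φ l (g ^ m • v) := by
  obtain ⟨c', rfl⟩ : ∃ c', c = c' + 1 := ⟨c - 1, by omega⟩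
  have hv1 : g ^ c' • v ∈ shiftPart 𝒜 e (n * (c' + 1)) := by
    have := smul_mem_shiftPart 𝒜 e (mem_pow hg c') hv
    have h2 : c' * n + n = n * (c' + 1) := by ring
    rwa [h2] at this
  have hgc : g ^ (c' + 1) ∈ 𝒜 (n * (c' + 1)) := by
    have := mem_pow hg (c' + 1)
    rwa [mul_comm] at this
  have hloc : ∀ i, ∃ N : ℕ, ∀ k, N ≤ k → ofrac (Proj.basicOpen 𝒜 (f i)) (mem_pow hgc k) (mem_pow (mem_pow (hf i) n) k)
      (((NV.basicOpen (f i)).pow n).pow k) •
        ev e φ (Proj.basicOpen 𝒜 (f i)) (mem_pow (hf i) n) ((NV.basicOpen (f i)).pow n) hv1 = 0 := by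
    intro i
    have hloc := CohqB.QC2.loc_of_isQuasicoherent F (Proj.isAffineOpen_basicOpen 𝒜 (f i) (hf i) hc)
    set h := ofrac (Proj.basicOpen 𝒜 (f i)) hgc (mem_pow (hf i) n) ((NV.basicOpen (f i)).pow n) with hh
    set y := ev e φ (Proj.basicOpen 𝒜 (f i)) (mem_pow (hf i) n) ((NV.basicOpen (f i)).pow n) hv1 with hy
    have hle : (Proj 𝒜).basicOpen h ≤ Proj.basicOpen 𝒜 (g ^ (c' + 1)) := basicOpen_ofrac_le hgc _ _
    have hNVg : NV ((Proj 𝒜).basicOpen h) g := fun x hx hgx => hle hx (by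
      rw [pow_succ]; exact Ideal.mul_mem_left _ _ hgx)
    have hres : GlueHom.res F ((Proj 𝒜).basicOpen_le h) y = 0 := by
      rw [hy, res_ev]
      have h1 : ev e φ ((Proj 𝒜).basicOpen h) hg hNVg hv = 0 := by
        have hle' : (Proj 𝒜).basicOpen h ≤ U := by
          rw [hUg]
          exact fun x hx => hNVg x hx
        rw [← res_ev e φ hle' hg hU hv, h0, GlueHom.res_zero]
      have h2 := ev_smul e φ ((Proj 𝒜).basicOpen h) hgc (mem_pow (hf i) n)
        (((NV.basicOpen (f i)).pow n).mono ((Proj 𝒜).basicOpen_le h)) hg hNVg hv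
      rw [h1, smul_zero] at h2
      rw [h2]
      exact ev_congr e φ (by rw [smul_smul, smul_smul]; congr 1; ring)
    obtain ⟨N, hN⟩ := hloc.eq_zero h y hres
    refine ⟨N, fun k hk => ?_⟩
    obtain ⟨l, rfl⟩ := Nat.exists_eq_add_of_le hk
    rw [← ofrac_pow hgc (mem_pow (hf i) n) ((NV.basicOpen (f i)).pow n), ← hh, add_comm, pow_add, mul_smul, hN,
      smul_zero]
  choose N₀ hN₀ using hloc
  let N := Finset.univ.sup N₀
  have hN : ∀ i, ofrac (Proj.basicOpen 𝒜 (f i)) (mem_pow hgc N) (mem_pow (mem_pow (hf i) n) N)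
      (((NV.basicOpen (f i)).pow n).pow N) •
        ev e φ (Proj.basicOpen 𝒜 (f i)) (mem_pow (hf i) n) ((NV.basicOpen (f i)).pow n) hv1 = 0 :=
    fun i => hN₀ i N (Finset.le_sup (Finset.mem_univ i))
  refine ⟨(c' + 1) * N + c', N * (n * (c' + 1)) + n * (c' + 1), ?_⟩
  have hw : g ^ ((c' + 1) * N + c') • v ∈ shiftPart 𝒜 e (N * (n * (c' + 1)) + n * (c' + 1)) := by
    have := smul_mem_shiftPart 𝒜 e (mem_pow hg ((c' + 1) * N + c')) hv
    have h2 : ((c' + 1) * N + c') * n + n = N * (n * (c' + 1)) + n * (c' + 1) := by ring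
    rwa [h2] at this
  refine ⟨hw, fun k a ha W s hs hW => ?_⟩
  refine eq_of_local F fun x hx => ?_
  obtain ⟨i, hi⟩ := hcov x
  have hxV : x ∈ W ⊓ Proj.basicOpen 𝒜 (f i) := ⟨hx, hi⟩
  refine ⟨W ⊓ Proj.basicOpen 𝒜 (f i), inf_le_left, hxV, ?_⟩
  rw [res_ev, GlueHom.res_zero]
  have hP : (f i ^ n) ^ N * f i ^ n ∈ 𝒜 (N * (n * (c' + 1)) + n * (c' + 1)) :=
    SetLike.mul_mem_graded (mem_pow (mem_pow (hf i) n) N) (mem_pow (hf i) n)
  have hPU : NV (Proj.basicOpen 𝒜 (f i)) ((f i ^ n) ^ N * f i ^ n) :=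
    (((NV.basicOpen (f i)).pow n).pow N).mul ((NV.basicOpen (f i)).pow n)
  have h1 : ev e φ (Proj.basicOpen 𝒜 (f i)) hP hPU hw = 0 := by
    rw [← hN i, ev_smul]
    exact ev_congr e φ (by rw [smul_smul, smul_smul, smul_smul]; congr 1; ring)
  have h2 : ev e φ (W ⊓ Proj.basicOpen 𝒜 (f i)) hP (hPU.mono inf_le_right) hw = 0 := by
    rw [← res_ev e φ (inf_le_right : W ⊓ Proj.basicOpen 𝒜 (f i) ≤ _) hP hPU hw, h1, GlueHom.res_zero]
  have h3 := ev_smul e φ (W ⊓ Proj.basicOpen 𝒜 (f i)) (SetLike.mul_mem_graded ha hP) hs (hW.mono inf_le_left) hP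
    (hPU.mono inf_le_right) hw
  rw [h2, smul_zero] at h3
  rw [h3]
  exact ev_congr e φ (by simp only [smul_smul]; congr 1; ring)

include hc hf hcov in
/-- The comparison map is an isomorphism as soon as the `φ_j` are jointly locally surjective. -/
theorem exists_iso (hF : SheafOfModules.IsQuasicoherent (R := (Proj 𝒜).ringCatSheaf) F)
    (hLS : ∀ (U : (Proj 𝒜).Opens) (y : Γ(F, U)), ∀ x ∈ U, ∃ (V : (Proj 𝒜).Opens) (h : V ≤ U)
      (t : ∀ j, Γ(Twist.twist 𝒜 (-(e j : ℤ)), V)), x ∈ V ∧ GlueHom.res F h y = ∑ j, (φ j).app V (t j)) :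
    Nonempty (GrTilde.tilde 𝒜 (qpart e φ) 0 ≅ F) := by
  classical
  have hD : DirectSum.Decomposition (qpart e φ) := qdecomp e φ
  obtain ⟨Ψ, hΨ⟩ := exists_map e φ
  have : IsIso Ψ := by
    apply isIso_of_local
    · intro U t ht x hx
      obtain ⟨V, h, n, g, m, hg, hV, hm, -, hxV, hVg, heq⟩ := exists_gfrac t x hx
      obtain ⟨v, hv, rfl⟩ := exists_lift_of_mem e φ hm
      refine ⟨V, h, hxV, ?_⟩
      have h1 : ev e φ V hg hV hv = 0 := by
        rw [← hΨ V n g hg hV v hv, ← heq, GlueHom.app_res, ht, GlueHom.res_zero]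
      obtain ⟨k, l, hkl⟩ := exists_null e φ hc hf hcov hF hg hVg hV hv h1
      rw [heq]
      have h2 : (ker e φ).mkQ (g ^ k • v) = 0 := by
        rw [Submodule.mkQ_apply, Submodule.Quotient.mk_eq_zero]
        exact mem_ker_of_null e φ hkl
      apply gval_ext
      intro y
      rw [gval_gfrac, gval_zero]
      have h3 : (LocalizedModule.mk ((ker e φ).mkQ v) ⟨g, hV y.1 y.2⟩ : GrTilde.LocMod 𝒜 y.1) =
          LocalizedModule.mk 0 ⟨g, hV y.1 y.2⟩ := by
        apply mk_eq_of_smul_eq (g ^ k) (pow_notMem (hV y.1 y.2) k)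
        rw [smul_zero, smul_zero, smul_comm, ← map_smul, h2, smul_zero]
      rw [h3, LocalizedModule.zero_mk]
    · intro U y x hx
      obtain ⟨V, h, t, hxV, ht⟩ := hLS U y x hx
      choose W hWV d g a hg hW ha hxW hWt using fun j => exists_tfrac (t j) x hxV
      let W₀ : (Proj 𝒜).Opens := V ⊓ Finset.univ.inf W
      have hW₀ : ∀ j, W₀ ≤ W j := fun j => inf_le_right.trans (Finset.inf_le (Finset.mem_univ j))
      have hxW₀ : x ∈ W₀ := by
        refine ⟨hxV, ?_⟩
        have : ∀ s : Finset J, x ∈ s.inf W := by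
          intro s
          induction s using Finset.induction_on with
          | empty => trivial
          | insert b s _ ih => rw [Finset.inf_insert]; exact ⟨hxW b, ih⟩
        exact this _
      have hs : (∏ j, g j) ∈ 𝒜 (∑ j, d j) := SetLike.prod_mem_graded 𝒜 d g fun j _ => hg j
      have hsW : NV W₀ (∏ j, g j) := by
        have : ∀ s : Finset J, NV W₀ (∏ j ∈ s, g j) := by
          intro s
          induction s using Finset.induction_on with
          | empty => simpa using NV.one W₀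
          | insert b s hb ih => rw [Finset.prod_insert hb]; exact ((hW b).mono (hW₀ b)).mul ih
        exact this _
      let v : J → A := fun j => (∏ l ∈ Finset.univ.erase j, g l) * a j
      have hv : v ∈ shiftPart 𝒜 e (∑ j, d j) := by
        intro j
        refine smul_mem_zdeg_of_eq 𝒜 (SetLike.prod_mem_graded 𝒜 d g fun j _ => hg j) (ha j) ?_
        rw [← Finset.add_sum_erase Finset.univ d (Finset.mem_univ j)]
        push_cast
        ring
      refine ⟨W₀, inf_le_left.trans h, gfrac 0 W₀ hs hsW (mkQ_mem_zdeg e φ hv), hxW₀, ?_⟩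
      rw [hΨ _ _ _ hs hsW v hv]
      have h1 : GlueHom.res F (inf_le_left.trans h : W₀ ≤ U) y =
          ∑ j, (φ j).app W₀ (GlueHom.res _ (inf_le_left : W₀ ≤ V) (t j)) := by
        rw [← GlueHom.res_res F h inf_le_left, ht, GlueHom.res_sum]
        exact Finset.sum_congr rfl fun j _ => (GlueHom.app_res _ _ _).symm
      rw [h1, ev]
      refine Finset.sum_congr rfl fun j _ => ?_
      congr 1
      rw [← GlueHom.res_res _ (hWV j) (hW₀ j), hWt, res_tfrac]
      refine tfrac_congr ?_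
      change g j * ((∏ l ∈ Finset.univ.erase j, g l) * a j) = _
      rw [← mul_assoc, Finset.mul_prod_erase _ _ (Finset.mem_univ j)]
  exact ⟨asIso Ψ⟩

end Main

end Groth.Agent.FormalB.TildeIso
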