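import Groth.Agent.FormalB.TildeIso
import Groth.Agent.FormalB.ProjCover
import Groth.Agent.VarietyB.TwistMul
import Groth.Agent.Dcoh.Restrict

set_option autoImplicit false
set_option linter.unusedSectionVars false

universe u

open CategoryTheory CategoryTheory.Limits AlgebraicGeometry TopologicalSpace Opposite TopCat

namespace Groth.Agent.FormalB.TildeMain

open Groth.Agent.FormalB.GrTildeSect Groth.Agent.FormalB.GlueHom Groth.Agent.FormalB.TwistFrac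
open Groth.Agent.FormalB.TildeHom Groth.Agent.FormalB.GradedQuot Groth.Agent.FormalB.TildeOfPres
open Groth.Agent.FormalB.TildeIso

/-- Sections of a finite coproduct are sums of sections of the summands. -/
theorem exists_sum_coprod {X : Scheme.{u}} {r : ℕ} (M : Fin r → X.Modules) {U : X.Opens} (z : Γ(∐ M, U)) :
    ∃ t : ∀ j, Γ(M j, U), z = ∑ j, (Sigma.ι M j).app U (t j) := by
  classical
  have key : (∑ j : Fin r, (Sigma.desc (fun j' => if h : j' = j then eqToHom (by rw [h]) else 0) : ∐ M ⟶ M j) ≫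
      Sigma.ι M j) = 𝟙 (∐ M) := by
    apply Sigma.hom_ext
    intro j'
    rw [Preadditive.comp_sum, Finset.sum_eq_single j']
    · simp
    · intro j _ hj
      simp [hj.symm]
    · intro h
      exact absurd (Finset.mem_univ _) h
  refine ⟨fun j => (Sigma.desc (fun j' => if h : j' = j then eqToHom (by rw [h]) else 0) : ∐ M ⟶ M j).app U z, ?_⟩
  have h2 : ∀ (s : Finset (Fin r)) (ψ : Fin r → (∐ M ⟶ ∐ M)), (∑ j ∈ s, ψ j).app U z = ∑ j ∈ s, (ψ j).app U z := by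
    intro s ψ
    induction s using Finset.induction_on with
    | empty => rw [Finset.sum_empty, Finset.sum_empty]; rfl
    | insert b s hb ih => rw [Finset.sum_insert hb, Finset.sum_insert hb, ← ih]; rfl
  have h3 := congrArg (fun ψ => Scheme.Modules.Hom.app ψ U z) key
  simp only [h2] at h3
  exact h3.symm

variable {R A : Type u} [CommRing R] [CommRing A] [Algebra R A] {𝒜 : ℕ → Submodule R A} [GradedAlgebra 𝒜]

theorem exists_of_epi [IsNoetherianRing A] {F : (Proj 𝒜).Modules}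
    (hF : SheafOfModules.IsQuasicoherent (R := (Proj 𝒜).ringCatSheaf) F) {r : ℕ} (d : Fin r → ℤ)
    (φ : (∐ fun j : Fin r => Twist.twist 𝒜 (d j)) ⟶ F) (hφ : Epi φ) :
    ∃ (J : Type) (_ : Fintype J) (e : J → ℕ) (ψ : ∀ j, Twist.twist 𝒜 (-(e j : ℤ)) ⟶ F),
      Nonempty (GrTilde.tilde 𝒜 (qpart e ψ) 0 ≅ F) := by
  classical
  obtain ⟨n, f, c, hc, hf, hcov⟩ := ProjCover.exists_cover 𝒜
  let N : Fin r → ℕ := fun j => (d j).natAbs
  have hN : ∀ j, 0 ≤ (N j : ℤ) * c - d j := by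
    intro j
    have h1 : d j ≤ (N j : ℤ) := Int.le_natAbs
    have h2 : (N j : ℤ) ≤ (N j : ℤ) * c := by
      have : (1 : ℤ) ≤ c := by exact_mod_cast hc
      nlinarith [Int.natCast_nonneg (N j)]
    linarith
  let e : Fin r × Fin n → ℕ := fun p => ((N p.1 : ℤ) * c - d p.1).toNat
  have he : ∀ p, -(e p : ℤ) + ((N p.1 * c : ℕ) : ℤ) = d p.1 := by
    intro p
    simp only [e]
    rw [Int.toNat_of_nonneg (hN p.1)]
    push_cast
    ring
  let μ : ∀ p : Fin r × Fin n, Twist.twist 𝒜 (-(e p : ℤ)) ⟶ Twist.twist 𝒜 (d p.1) := fun p =>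
    VarietyB.TwistMul.mulMap (⟨f p.2 ^ N p.1, mem_pow (hf p.2) (N p.1)⟩ : 𝒜 (N p.1 * c)) (he p)
  let ψ : ∀ p : Fin r × Fin n, Twist.twist 𝒜 (-(e p : ℤ)) ⟶ F := fun p =>
    μ p ≫ Sigma.ι (fun j : Fin r => Twist.twist 𝒜 (d j)) p.1 ≫ φ
  refine ⟨Fin r × Fin n, inferInstance, e, ψ, exists_iso e ψ hc hf hcov hF ?_⟩
  intro U y x hx
  obtain ⟨V, hVU, z, hxV, hz⟩ := Dcoh.Restrict.exists_local_preimage φ U y x hx
  obtain ⟨i, hi⟩ := hcov x
  obtain ⟨t, rfl⟩ := exists_sum_coprod _ z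
  have hi' : ∀ j : Fin r, V ⊓ Proj.basicOpen 𝒜 (f i) ≤ Proj.basicOpen 𝒜 (f i ^ N j) := fun j y hy =>
    pow_notMem hy.2 _
  choose t' ht' using fun j : Fin r => (VarietyB.TwistMul.mulMap_app_bijective
    (⟨f i ^ N j, mem_pow (hf i) (N j)⟩ : 𝒜 (N j * c)) (he (j, i)) (V ⊓ Proj.basicOpen 𝒜 (f i)) (hi' j)).2
      (GlueHom.res _ (inf_le_left : V ⊓ Proj.basicOpen 𝒜 (f i) ≤ V) (t j))
  obtain ⟨t'', ht1, ht2⟩ : ∃ t'' : ∀ p : Fin r × Fin n, Γ(Twist.twist 𝒜 (-(e p : ℤ)), V ⊓ Proj.basicOpen 𝒜 (f i)),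
      (∀ j, t'' (j, i) = t' j) ∧ ∀ j l, l ≠ i → t'' (j, l) = 0 := by
    refine ⟨fun p => if h : i = p.2 then Eq.rec (motive := fun l _ =>
      Γ(Twist.twist 𝒜 (-(e (p.1, l) : ℤ)), V ⊓ Proj.basicOpen 𝒜 (f i))) (t' p.1) h else 0, fun j => ?_,
      fun j l hl => ?_⟩
    · exact dif_pos (c := i = i) rfl
    · exact dif_neg (c := i = l) hl.symm
  refine ⟨V ⊓ Proj.basicOpen 𝒜 (f i), inf_le_left.trans hVU, t'', ⟨hxV, hi⟩, ?_⟩
  rw [Fintype.sum_prod_type]
  have h1 : GlueHom.res F (inf_le_left.trans hVU : V ⊓ Proj.basicOpen 𝒜 (f i) ≤ U) y =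
      ∑ j, (ψ (j, i)).app (V ⊓ Proj.basicOpen 𝒜 (f i)) (t' j) := by
    rw [← GlueHom.res_res F hVU inf_le_left]
    have : GlueHom.res F hVU y = φ.app V (∑ j, (Sigma.ι (fun j : Fin r => Twist.twist 𝒜 (d j)) j).app V (t j)) := hz.symm
    rw [this, map_sum, GlueHom.res_sum]
    refine Finset.sum_congr rfl fun j _ => ?_
    rw [← GlueHom.app_res, ← GlueHom.app_res, ← ht' j]
    rfl
  rw [h1]
  refine Finset.sum_congr rfl fun j _ => ?_
  rw [Finset.sum_eq_single i]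
  · rw [ht1]
  · intro l _ hl
    rw [ht2 j l hl, map_zero]
  · intro h
    exact absurd (Finset.mem_univ _) h

end Groth.Agent.FormalB.TildeMain
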