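import Groth.Agent.FormalB.TildeHom
import Groth.Agent.FormalB.GradedQuot
import Groth.Agent.CohqB.QC2

set_option autoImplicit false
set_option linter.unusedSectionVars false

universe u

open CategoryTheory CategoryTheory.Limits AlgebraicGeometry TopologicalSpace Opposite TopCat

namespace Groth.Agent.FormalB.TildeOfPres

open Groth.Agent.FormalB.GrTildeSect Groth.Agent.FormalB.GlueHom Groth.Agent.FormalB.TwistFrac
open Groth.Agent.FormalB.TildeHom Groth.Agent.FormalB.GradedQuot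

variable {R A : Type u} [CommRing R] [CommRing A] [Algebra R A] {𝒜 : ℕ → Submodule R A} [GradedAlgebra 𝒜]

theorem oval_mul {U : (Proj 𝒜).Opens} (c d : Γ(Proj 𝒜, U)) (x : U) : oval (c * d) x = oval c x * oval d x :=
  HomogeneousLocalization.val_mul _ _

theorem oval_one {U : (Proj 𝒜).Opens} (x : U) : oval (1 : Γ(Proj 𝒜, U)) x = 1 :=
  HomogeneousLocalization.val_one

/-- If the fraction `a / b` is invertible at a point, then `a` does not vanish there. -/
theorem basicOpen_ofrac_le {U : (Proj 𝒜).Opens} {i : ℕ} {a b : A} (ha : a ∈ 𝒜 i) (hb : b ∈ 𝒜 i)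
    (hU : NV U b) : (Proj 𝒜).basicOpen (ofrac U ha hb hU) ≤ Proj.basicOpen 𝒜 a := by
  intro x hx hax
  have h1 : IsUnit ((Proj 𝒜).presheaf.map (homOfLE ((Proj 𝒜).basicOpen_le (ofrac U ha hb hU))).op
      (ofrac U ha hb hU)) :=
    RingedSpace.isUnit_res_basicOpen (Proj 𝒜).toRingedSpace (ofrac U ha hb hU)
  obtain ⟨c, hc⟩ := h1.exists_right_inv
  rw [map_ofrac] at hc
  have h2 : oval (ofrac ((Proj 𝒜).basicOpen (ofrac U ha hb hU)) ha hb (hU.mono ((Proj 𝒜).basicOpen_le _)) * c)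
      ⟨x, hx⟩ = 1 := by rw [hc, oval_one]
  rw [oval_mul, oval_ofrac] at h2
  obtain ⟨d, t, hd⟩ : ∃ (d : A) (t : x.asHomogeneousIdeal.toIdeal.primeCompl),
      Localization.mk d t = oval c ⟨x, hx⟩ := by
    generalize oval c ⟨x, hx⟩ = q
    induction q using Localization.induction_on with
    | H y => exact ⟨y.1, y.2, rfl⟩
  rw [← hd, Localization.mk_mul, ← Localization.mk_one, Localization.mk_eq_mk_iff, Localization.r_iff_exists] at h2
  obtain ⟨w, hw⟩ := h2
  have h3 : (w : A) * (b * (t : A)) ∈ x.asHomogeneousIdeal.toIdeal := by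
    have : (w : A) * (b * (t : A)) = w * (a * d) := by simpa using hw.symm
    rw [this]
    exact Ideal.mul_mem_left _ _ (Ideal.mul_mem_right _ _ hax)
  exact mul_notMem w.2 (mul_notMem (hU x ((Proj 𝒜).basicOpen_le _ hx)) t.2) h3

section Ev

variable {J : Type} [Fintype J] (e : J → ℕ) {F : (Proj 𝒜).Modules} (φ : ∀ j, Twist.twist 𝒜 (-(e j : ℤ)) ⟶ F)

/-- The section `∑ φ_j (v_j / s)` of `F`. -/
noncomputable def ev (U : (Proj 𝒜).Opens) {n : ℕ} {s : A} (hs : s ∈ 𝒜 n) (hU : NV U s) {v : J → A}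
    (hv : v ∈ shiftPart 𝒜 e n) : Γ(F, U) :=
  ∑ j, (φ j).app U (tfrac (-(e j : ℤ)) U hs hU (hv j))

theorem ev_congr {U : (Proj 𝒜).Opens} {n n' : ℕ} {s s' : A} {hs : s ∈ 𝒜 n} {hs' : s' ∈ 𝒜 n'} {hU : NV U s}
    {hU' : NV U s'} {v v' : J → A} {hv : v ∈ shiftPart 𝒜 e n} {hv' : v' ∈ shiftPart 𝒜 e n'}
    (h : s' • v = s • v') : ev e φ U hs hU hv = ev e φ U hs' hU' hv' := by
  refine Finset.sum_congr rfl fun j _ => ?_
  congr 1
  exact tfrac_congr (congrFun h j)

theorem res_ev {U V : (Proj 𝒜).Opens} (h : V ≤ U) {n : ℕ} {s : A} (hs : s ∈ 𝒜 n) (hU : NV U s) {v : J → A}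
    (hv : v ∈ shiftPart 𝒜 e n) : res F h (ev e φ U hs hU hv) = ev e φ V hs (hU.mono h) hv := by
  rw [ev, res_sum, ev]
  refine Finset.sum_congr rfl fun j _ => ?_
  rw [← app_res, res_tfrac]

theorem ev_add (U : (Proj 𝒜).Opens) {n : ℕ} {s : A} (hs : s ∈ 𝒜 n) (hU : NV U s) {v w : J → A}
    (hv : v ∈ shiftPart 𝒜 e n) (hw : w ∈ shiftPart 𝒜 e n) :
    ev e φ U hs hU (add_mem hv hw) = ev e φ U hs hU hv + ev e φ U hs hU hw := by
  simp only [ev]
  rw [← Finset.sum_add_distrib]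
  refine Finset.sum_congr rfl fun j _ => ?_
  rw [← map_add, tfrac_add]

theorem ev_smul (U : (Proj 𝒜).Opens) {i n : ℕ} {a b s : A} (ha : a ∈ 𝒜 i) (hb : b ∈ 𝒜 i) (hbU : NV U b)
    (hs : s ∈ 𝒜 n) (hU : NV U s) {v : J → A} (hv : v ∈ shiftPart 𝒜 e n) :
    ofrac U ha hb hbU • ev e φ U hs hU hv =
      ev e φ U (SetLike.mul_mem_graded hb hs) (hbU.mul hU) (smul_mem_shiftPart 𝒜 e ha hv) := by
  simp only [ev]
  rw [Finset.smul_sum]
  refine Finset.sum_congr rfl fun j _ => ?_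
  rw [← Scheme.Modules.Hom.app_smul, ofrac_smul_tfrac]

/-- `w`, homogeneous of degree `n`, is killed by the evaluation map. -/
def Null (n : ℕ) (w : J → A) : Prop :=
  ∃ hw : w ∈ shiftPart 𝒜 e n, ∀ (i : ℕ) (a : A) (ha : a ∈ 𝒜 i) (U : (Proj 𝒜).Opens) (s : A) (hs : s ∈ 𝒜 (i + n))
    (hU : NV U s), ev e φ U hs hU (smul_mem_shiftPart 𝒜 e ha hw) = 0

theorem Null.zero (n : ℕ) : Null e φ n 0 := by
  refine ⟨zero_mem _, fun i a ha U s hs hU => ?_⟩
  rw [ev]
  refine Finset.sum_eq_zero fun j _ => ?_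
  have : tfrac (𝒜 := 𝒜) (-(e j : ℤ)) U hs hU
      (smul_mem_shiftPart 𝒜 e ha (zero_mem (shiftPart 𝒜 e n)) j) = 0 := by
    rw [← tfrac_zero (-(e j : ℤ)) U hs hU]
    exact tfrac_congr (by simp)
  rw [this, map_zero]

theorem Null.add {n : ℕ} {w w' : J → A} (h : Null e φ n w) (h' : Null e φ n w') : Null e φ n (w + w') := by
  obtain ⟨hw, h⟩ := h
  obtain ⟨hw', h'⟩ := h'
  refine ⟨add_mem hw hw', fun i a ha U s hs hU => ?_⟩
  have := ev_add e φ U hs hU (smul_mem_shiftPart 𝒜 e ha hw) (smul_mem_shiftPart 𝒜 e ha hw')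
  rw [h _ _ ha, h' _ _ ha, add_zero] at this
  rw [← this]
  exact ev_congr e φ (by rw [smul_add])

theorem Null.smul {i n : ℕ} {a : A} (ha : a ∈ 𝒜 i) {w : J → A} (h : Null e φ n w) : Null e φ (i + n) (a • w) := by
  obtain ⟨hw, h⟩ := h
  refine ⟨smul_mem_shiftPart 𝒜 e ha hw, fun i' a' ha' U s hs hU => ?_⟩
  rw [← h (i' + i) (a' * a) (SetLike.mul_mem_graded ha' ha) U s (by rwa [add_assoc]) hU]
  exact ev_congr e φ (by rw [mul_smul])

theorem Null.neg {n : ℕ} {w : J → A} (h : Null e φ n w) : Null e φ n (-w) := by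
  have h1 : (-1 : A) ∈ 𝒜 0 := neg_mem SetLike.GradedOne.one_mem
  have := Null.smul e φ h1 h
  rwa [neg_one_smul, zero_add] at this

/-- The homogeneous submodule of vectors killed by the evaluation map. -/
noncomputable def ker : Submodule A (J → A) where
  carrier := AddSubgroup.closure {w | ∃ n, Null e φ n w}
  add_mem' := fun h h' => add_mem h h'
  zero_mem' := zero_mem (AddSubgroup.closure {w | ∃ n, Null e φ n w})
  smul_mem' := by
    classical
    intro a w hw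
    induction hw using AddSubgroup.closure_induction with
    | mem w hw =>
      obtain ⟨n, hn⟩ := hw
      rw [← DirectSum.sum_support_decompose 𝒜 a, Finset.sum_smul]
      exact sum_mem fun k _ => AddSubgroup.subset_closure ⟨k + n, Null.smul e φ (SetLike.coe_mem _) hn⟩
    | zero => rw [smul_zero]; exact zero_mem (AddSubgroup.closure {w | ∃ n, Null e φ n w})
    | add x y _ _ hx hy => rw [smul_add]; exact add_mem hx hy
    | neg x _ hx => rw [smul_neg]; exact neg_mem hx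

theorem null_comp_of_mem_ker {w : J → A} (hw : w ∈ ker e φ) (n : ℕ) : Null e φ n (comp 𝒜 e n w) := by
  change w ∈ AddSubgroup.closure {w | ∃ n, Null e φ n w} at hw
  induction hw using AddSubgroup.closure_induction with
  | mem w hw =>
    obtain ⟨m, hm⟩ := hw
    by_cases h : n = m
    · subst h
      rwa [comp_of_mem 𝒜 e hm.choose]
    · rw [comp_of_mem_ne 𝒜 e h hm.choose]
      exact Null.zero e φ n
  | zero => rw [GradedQuot.comp_zero]; exact Null.zero e φ n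
  | add x y _ _ hx hy => rw [comp_add]; exact Null.add e φ hx hy
  | neg x _ hx =>
    have : comp 𝒜 e n (-x) = - comp 𝒜 e n x := by
      rw [eq_neg_iff_add_eq_zero, ← comp_add, neg_add_cancel, GradedQuot.comp_zero]
    rw [this]
    exact Null.neg e φ hx

theorem mem_ker_of_null {n : ℕ} {w : J → A} (h : Null e φ n w) : w ∈ ker e φ :=
  AddSubgroup.subset_closure ⟨n, h⟩

theorem comp_mem_ker {w : J → A} (hw : w ∈ ker e φ) (n : ℕ) : comp 𝒜 e n w ∈ ker e φ :=
  mem_ker_of_null e φ (null_comp_of_mem_ker e φ hw n)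

theorem null_of_mem_ker {n : ℕ} {w : J → A} (hw : w ∈ ker e φ) (h : w ∈ shiftPart 𝒜 e n) : Null e φ n w := by
  have := null_comp_of_mem_ker e φ hw n
  rwa [comp_of_mem 𝒜 e h] at this

theorem ev_eq_of_sub_mem_ker {U : (Proj 𝒜).Opens} {n : ℕ} {s : A} {hs : s ∈ 𝒜 n} {hU : NV U s} {v w : J → A}
    {hv : v ∈ shiftPart 𝒜 e n} {hw : w ∈ shiftPart 𝒜 e n} (h : v - w ∈ ker e φ) :
    ev e φ U hs hU hv = ev e φ U hs hU hw := by
  obtain ⟨h1, h2⟩ := null_of_mem_ker e φ h (sub_mem hv hw)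
  have h3 := h2 0 1 SetLike.GradedOne.one_mem U s (by rwa [zero_add]) hU
  have h4 := ev_add e φ U hs hU h1 hw
  have h5 : ev e φ U hs hU h1 = 0 := by
    rw [← h3]
    exact ev_congr e φ (by rw [one_smul])
  rw [h5, zero_add] at h4
  rw [← h4]
  exact ev_congr e φ (by rw [sub_add_cancel])

/-- The grading on the quotient. -/
noncomputable abbrev qpart : ℕ → Submodule R ((J → A) ⧸ ker e φ) := quotPart 𝒜 e (ker e φ)

/-- The quotient by the kernel of the evaluation map is a graded module. -/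
@[instance_reducible]
noncomputable def qdecomp : DirectSum.Decomposition (qpart e φ) :=
  (isInternal_quotPart 𝒜 e (ker e φ) (fun _ hv n => comp_mem_ker e φ hv n)).chooseDecomposition

theorem mkQ_mem_zdeg {n : ℕ} {v : J → A} (hv : v ∈ shiftPart 𝒜 e n) :
    (ker e φ).mkQ v ∈ zdeg (qpart e φ) ((n : ℤ) + 0) :=
  mem_zdeg_of_eq (i := n) (by simp) ⟨v, hv, rfl⟩

theorem exists_lift_of_mem {n : ℕ} {x : (J → A) ⧸ ker e φ} (hx : x ∈ zdeg (qpart e φ) ((n : ℤ) + 0)) :
    ∃ v ∈ shiftPart 𝒜 e n, (ker e φ).mkQ v = x :=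
  mem_zdeg_quotPart 𝒜 e (ker e φ) hx

/-- The comparison morphism `((⊕ A(-e_j)) / ker)~ ⟶ F`. -/
theorem exists_map : ∃ Ψ : GrTilde.tilde 𝒜 (qpart e φ) 0 ⟶ F,
    ∀ (U : (Proj 𝒜).Opens) (n : ℕ) (s : A) (hs : s ∈ 𝒜 n) (hU : NV U s) (v : J → A) (hv : v ∈ shiftPart 𝒜 e n),
      Ψ.app U (gfrac 0 U hs hU (mkQ_mem_zdeg e φ hv)) = ev e φ U hs hU hv := by
  have hD : DirectSum.Decomposition (qpart e φ) := qdecomp e φ
  have hev : ∀ {n : ℕ} {x : (J → A) ⧸ ker e φ} (hx : x ∈ zdeg (qpart e φ) ((n : ℤ) + 0)) {v : J → A}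
      (hv : v ∈ shiftPart 𝒜 e n) (h : (ker e φ).mkQ v = x) (U : (Proj 𝒜).Opens) {s : A} (hs : s ∈ 𝒜 n)
      (hU : NV U s), ev e φ U hs hU (exists_lift_of_mem e φ hx).choose_spec.1 = ev e φ U hs hU hv := by
    intro n x hx v hv h U s hs hU
    apply ev_eq_of_sub_mem_ker
    rw [← Submodule.Quotient.mk_eq_zero, ← Submodule.mkQ_apply, map_sub, h,
      (exists_lift_of_mem e φ hx).choose_spec.2, sub_self]
  have main := exists_hom_of_frac (𝒜 := 𝒜) (ℳ := qpart e φ) 0 F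
    (fun U n s hs hU x hx => ev e φ U hs hU (exists_lift_of_mem e φ hx).choose_spec.1) ?_ ?_ ?_ ?_
  · obtain ⟨Ψ, hΨ⟩ := main
    refine ⟨Ψ, fun U n s hs hU v hv => ?_⟩
    rw [hΨ]
    exact hev (mkQ_mem_zdeg e φ hv) hv rfl _ _ _
  · intro U V h n s hs hU x hx
    exact res_ev e φ h _ _ _
  · intro U n s hs hU x x' hx hx'
    rw [← ev_add]
    refine hev (add_mem hx hx') _ ?_ _ _ _
    rw [map_add, (exists_lift_of_mem e φ hx).choose_spec.2, (exists_lift_of_mem e φ hx').choose_spec.2]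
  · intro U i n b s hb hbU hs hU x hx
    have h1 : b • (exists_lift_of_mem e φ hx).choose ∈ shiftPart 𝒜 e (i + n) :=
      smul_mem_shiftPart 𝒜 e hb (exists_lift_of_mem e φ hx).choose_spec.1
    rw [hev (smul_mem_zdeg_of_eq 𝒜 hb hx (by push_cast; ring)) h1
      (by rw [map_smul, (exists_lift_of_mem e φ hx).choose_spec.2])]
    exact ev_congr e φ (by rw [smul_smul, mul_comm])
  · intro U i n a b s ha hb hbU hs hU x hx
    rw [ev_smul]
    refine (hev (smul_mem_zdeg_of_eq 𝒜 ha hx (by push_cast; ring)) _ ?_ _ _ _).symm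
    rw [map_smul, (exists_lift_of_mem e φ hx).choose_spec.2]

end Ev

end Groth.Agent.FormalB.TildeOfPres
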