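import Groth.Agent.FormalB.ArtinReesAlg
import Mathlib.RingTheory.MvPolynomial.Ideal
import Mathlib.RingTheory.MvPolynomial.Homogeneous
import Mathlib.RingTheory.MvPolynomial.Tower
import Mathlib.RingTheory.Polynomial.Basic

/-!
# Relations `∑ aᵢ xᵢ = 0` with `aᵢ ∈ I^n` die under linear maps `φ : I^c → A` for large `n`

`A` a ring, `I = (f₁, …, f_r)`, `S` a Noetherian `A`-algebra, `L` a finite `S`-module. There is `d` such that for all
`c` and all `n ≥ c + d`: if `aᵢ ∈ I^n`, `xᵢ ∈ L` satisfy `∑ aᵢ xᵢ = 0`, then `∑ φ(aᵢ) xᵢ = 0` for every `A`-linear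
`φ : I^c → A`.  (In other words: the kernel of `I^n ⊗_A L → L` dies in `I^c ⊗_A L`.)
-/

set_option autoImplicit false
universe u v w z

namespace Groth.Agent.FormalB.TorAR

open MvPolynomial

section Eps

variable {A : Type u} [CommRing A] {S : Type v} [CommRing S] [Algebra A S] {r : ℕ} (f : Fin r → A)
  (c : ℕ) (φ : ↥(Ideal.span (Set.range f) ^ c) →ₗ[A] A)

/-- The monomial `f^α`. -/
noncomputable def mon (α : Fin r →₀ ℕ) : A := α.prod fun i k => f i ^ k

theorem mon_add (α β : Fin r →₀ ℕ) : mon f (α + β) = mon f α * mon f β :=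
  Finsupp.prod_add_index' (fun _ => pow_zero _) (fun _ _ _ => pow_add _ _ _)

theorem mon_mem {α : Fin r →₀ ℕ} {n : ℕ} (h : n ≤ α.degree) :
    mon f α ∈ Ideal.span (Set.range f) ^ n := by
  refine Ideal.pow_le_pow_right h ?_
  change α.prod (fun i k => f i ^ k) ∈ Ideal.span (Set.range f) ^ (∑ i ∈ α.support, α i)
  rw [Finsupp.prod, ← Finset.prod_pow_eq_pow_sum]
  exact Ideal.prod_mem_prod fun i _ => Ideal.pow_mem_pow (Ideal.subset_span (Set.mem_range_self i)) _

open Classical in
/-- The `S`-linear functional on polynomials sending `T^α` to `φ (f^α)` for `|α| ≥ c`, and to `0` otherwise. -/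
noncomputable def eps : MvPolynomial (Fin r) S →ₗ[S] S :=
  (basisMonomials (Fin r) S).constr S fun α =>
    if h : c ≤ α.degree then algebraMap A S (φ ⟨mon f α, mon_mem f h⟩) else 0

theorem eps_monomial {α : Fin r →₀ ℕ} (h : c ≤ α.degree) (b : S) :
    eps f c φ (monomial α b) = b * algebraMap A S (φ ⟨mon f α, mon_mem f h⟩) := by
  have h1 : monomial α b = b • basisMonomials (Fin r) S α := by
    rw [coe_basisMonomials, smul_monomial, smul_eq_mul, mul_one]
  rw [h1, map_smul, eps, Module.Basis.constr_basis, dif_pos h, smul_eq_mul]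

theorem eps_monomial_mul {α : Fin r →₀ ℕ} (h : c ≤ α.degree) (b : S) (g : MvPolynomial (Fin r) S) :
    eps f c φ (monomial α b * g) = eps f c φ (monomial α b) * aeval (fun i => algebraMap A S (f i)) g := by
  induction g using MvPolynomial.induction_on' with
  | monomial γ b' =>
    have h' : c ≤ (α + γ).degree := by
      rw [map_add]; exact h.trans (Nat.le_add_right _ _)
    rw [monomial_mul, eps_monomial f c φ h', eps_monomial f c φ h, aeval_monomial]
    have h2 : (⟨mon f (α + γ), mon_mem f h'⟩ : ↥(Ideal.span (Set.range f) ^ c)) =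
        mon f γ • ⟨mon f α, mon_mem f h⟩ := by
      apply Subtype.ext
      change mon f (α + γ) = mon f γ * mon f α
      rw [mon_add, mul_comm]
    have h3 : (γ.prod fun i k => (algebraMap A S (f i)) ^ k) = algebraMap A S (mon f γ) := by
      rw [mon, Finsupp.prod, Finsupp.prod, map_prod]
      simp only [map_pow]
    rw [h2, map_smul, smul_eq_mul, map_mul, h3, Algebra.algebraMap_self_apply]
    ring
  | add p q hp hq => rw [mul_add, map_add, hp, hq, map_add, mul_add]

theorem eps_mul {Q : MvPolynomial (Fin r) S} (hQ : Q ∈ idealOfVars (Fin r) S ^ c)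
    (g : MvPolynomial (Fin r) S) :
    eps f c φ (Q * g) = eps f c φ Q * aeval (fun i => algebraMap A S (f i)) g := by
  rw [mem_pow_idealOfVars_iff] at hQ
  rw [Q.as_sum, Finset.sum_mul, map_sum, map_sum, Finset.sum_mul]
  exact Finset.sum_congr rfl fun α hα => eps_monomial_mul f c φ (hQ α hα) _ _

/-- `eps` on polynomials with coefficients in `A` is `φ` of the value. -/
theorem eps_map (p : MvPolynomial (Fin r) A) (hp : ∀ α ∈ p.support, c ≤ α.degree)
    (a : ↥(Ideal.span (Set.range f) ^ c)) (ha : p.eval f = a) :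
    eps f c φ (MvPolynomial.map (algebraMap A S) p) = algebraMap A S (φ a) := by
  have h1 : a = ∑ α ∈ p.support.attach, p.coeff α.1 • (⟨mon f α.1, mon_mem f (hp α.1 α.2)⟩ :
      ↥(Ideal.span (Set.range f) ^ c)) := by
    apply Subtype.ext
    rw [← ha, eval_eq, AddSubmonoidClass.coe_finsetSum, ← Finset.sum_attach]
    rfl
  have h2 : MvPolynomial.map (algebraMap A S) p = ∑ α ∈ p.support.attach,
      monomial α.1 (algebraMap A S (p.coeff α.1)) := by
    conv_lhs => rw [p.as_sum]
    rw [map_sum, ← Finset.sum_attach]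
    exact Finset.sum_congr rfl fun α _ => by rw [map_monomial]
  rw [h2, h1, map_sum, map_sum, map_sum]
  refine Finset.sum_congr rfl fun α _ => ?_
  rw [eps_monomial f c φ (hp α.1 α.2), map_smul, smul_eq_mul, map_mul]

end Eps

section Main

/-- Main algebraic lemma: relations with coefficients deep in the `I`-adic filtration die under linear maps
`I^c → A`. -/
theorem exists_bound {A : Type u} [CommRing A] (S : Type v) [CommRing S] [Algebra A S] [IsNoetherianRing S]
    (L : Type w) [AddCommGroup L] [Module S L] [Module A L] [IsScalarTower A S L] [Module.Finite S L]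
    {r : ℕ} (f : Fin r → A) : ∃ d : ℕ, ∀ (c n : ℕ) (_ : c + d ≤ n)
    (φ : ↥(Ideal.span (Set.range f) ^ c) →ₗ[A] A) {ι : Type z} [Fintype ι]
    (a : ι → ↥(Ideal.span (Set.range f) ^ c))
    (_ : ∀ i, (a i : A) ∈ Ideal.span (Set.range f) ^ n) (x : ι → L)
    (_ : ∑ i, (a i : A) • x i = 0), ∑ i, φ (a i) • x i = 0 := by
  obtain ⟨k, e, he⟩ := Module.Finite.exists_fin (R := S) (M := L)
  let ev : MvPolynomial (Fin r) S →ₐ[S] S := aeval (fun i => algebraMap A S (f i))
  let K : Submodule (MvPolynomial (Fin r) S) (Fin k → MvPolynomial (Fin r) S) :=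
    { carrier := {P | ∑ l, ev (P l) • e l = 0}
      zero_mem' := by simp
      add_mem' := by
        intro P Q hP hQ
        simp only [Set.mem_ofPred_eq, Pi.add_apply, map_add, add_smul, Finset.sum_add_distrib] at *
        rw [hP, hQ, add_zero]
      smul_mem' := by
        intro q P hP
        simp only [Set.mem_ofPred_eq, Pi.smul_apply, smul_eq_mul, map_mul, mul_smul] at *
        rw [← Finset.smul_sum, hP, smul_zero] }
  obtain ⟨d, hd⟩ := Ideal.exists_pow_inf_eq_pow_smul (idealOfVars (Fin r) S) K
  refine ⟨d, fun c n hcn φ ι _ a ha x hx => ?_⟩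
  -- polynomials with `p i (f) = a i`, homogeneous of degree `n`
  have hp : ∀ i, ∃ p : MvPolynomial (Fin r) A, p.IsHomogeneous n ∧ p.eval f = a i := fun i =>
    (Ideal.mem_span_pow_iff_exists_isHomogeneous f _).1 (ha i)
  choose p hp hpa using hp
  have hdeg : ∀ i, ∀ α ∈ (p i).support, n ≤ α.degree := by
    intro i α hα
    by_contra h
    exact (mem_support_iff.1 hα) ((hp i).coeff_eq_zero (by omega))
  -- coordinates of `x i`
  have hc : ∀ i, ∃ γ : Fin k → S, ∑ l, γ l • e l = x i := fun i => by
    have : x i ∈ Submodule.span S (Set.range e) := by rw [he]; trivial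
    exact (Submodule.mem_span_range_iff_exists_fun S).1 this
  choose γ hγ using hc
  let P : Fin k → MvPolynomial (Fin r) S := fun l =>
    ∑ i, MvPolynomial.C (γ i l) * MvPolynomial.map (algebraMap A S) (p i)
  have hPK : P ∈ K := by
    change ∑ l, ev (P l) • e l = 0
    have h1 : ∀ l, ev (P l) = ∑ i, γ i l * algebraMap A S (a i) := by
      intro l
      simp only [P, map_sum, map_mul]
      refine Finset.sum_congr rfl fun i _ => ?_
      have h2 : ev (MvPolynomial.map (algebraMap A S) (p i)) = algebraMap A S (a i) := by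
        have h3 : ev (MvPolynomial.map (algebraMap A S) (p i)) =
            aeval (fun i => algebraMap A S (f i)) (p i) := aeval_map_algebraMap S _ (p i)
        rw [h3, ← hpa i]
        exact aeval_algebraMap_apply (B := S) f (p i)
      rw [h2]
      simp [ev]
    simp only [h1, Finset.sum_smul]
    rw [Finset.sum_comm, ← hx]
    refine Finset.sum_congr rfl fun i _ => ?_
    rw [← hγ i, Finset.smul_sum]
    refine Finset.sum_congr rfl fun l _ => ?_
    rw [mul_comm, mul_smul, algebraMap_smul]
  have hPn : P ∈ idealOfVars (Fin r) S ^ n • (⊤ : Submodule (MvPolynomial (Fin r) S) (Fin k → MvPolynomial (Fin r) S)) := by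
    refine ArtinReesAlg.mem_smul_pi _ _ fun l => ?_
    rw [smul_eq_mul, Ideal.mul_top]
    refine Ideal.sum_mem _ fun i _ => Ideal.mul_mem_left _ _ ?_
    rw [mem_pow_idealOfVars_iff]
    intro α hα
    exact hdeg i α (support_map_subset _ _ hα)
  have hP2 : P ∈ idealOfVars (Fin r) S ^ c • K := by
    have h1 : P ∈ idealOfVars (Fin r) S ^ n • (⊤ : Submodule (MvPolynomial (Fin r) S) _) ⊓ K :=
      ⟨hPn, hPK⟩
    rw [hd n (by omega)] at h1
    exact Submodule.smul_mono (Ideal.pow_le_pow_right (by omega)) inf_le_right h1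
  have key : ∀ Q ∈ idealOfVars (Fin r) S ^ c • K, ∑ l, eps f c φ (Q l) • e l = 0 := by
    intro Q hQ
    induction hQ using Submodule.smul_induction_on' with
    | smul q hq g hg =>
      have hg' : ∑ l, ev (g l) • e l = 0 := hg
      have h2 : ∀ l, eps f c φ ((q • g) l) • e l = eps f c φ q • (ev (g l) • e l) := by
        intro l
        rw [Pi.smul_apply, smul_eq_mul, eps_mul f c φ hq, mul_smul]
      simp only [h2]
      rw [← Finset.smul_sum, hg', smul_zero]
    | add Q1 _ Q2 _ h1 h2 =>
      simp only [Pi.add_apply, map_add, add_smul, Finset.sum_add_distrib, h1, h2, add_zero]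
  have h1 := key P hP2
  rw [← h1]
  have h2 : ∀ l, eps f c φ (P l) = ∑ i, γ i l * algebraMap A S (φ (a i)) := by
    intro l
    simp only [P, map_sum]
    refine Finset.sum_congr rfl fun i _ => ?_
    rw [MvPolynomial.C_mul', map_smul, smul_eq_mul,
      eps_map f c φ (p i) (fun α hα => le_trans (by omega) (hdeg i α hα)) (a i) (hpa i)]
  simp only [h2, Finset.sum_smul]
  rw [Finset.sum_comm]
  refine Finset.sum_congr rfl fun i _ => ?_
  rw [← hγ i, Finset.smul_sum]
  refine Finset.sum_congr rfl fun l _ => ?_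
  rw [mul_comm, mul_smul, algebraMap_smul]

end Main

end Groth.Agent.FormalB.TorAR
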