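import Groth.Agent.FormalB.TorAR
import Groth.Agent.FormalB.AdicSys
import Groth.Agent.FormalB.AdicNoeth

/-!
# Relations in adic systems die under linear maps `φ : I^c → A`
-/

set_option autoImplicit false
universe u v w z

namespace Groth.Agent.FormalB.TorSys

open AdicSys

variable {A : Type u} [CommRing A] {B : Type v} [CommRing B] [Algebra A B]

/-- Elements of `(K B) • L` as finite sums `∑ k_i • y_i` with `k_i ∈ K`. -/
theorem exists_sum_of_mem {L : Type w} [AddCommGroup L] [Module B L] [Module A L] [IsScalarTower A B L]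
    (K : Ideal A) (z : L) (hz : z ∈ (K.map (algebraMap A B)) • (⊤ : Submodule B L)) :
    ∃ (s : ℕ) (b : Fin s → A) (y : Fin s → L), (∀ i, b i ∈ K) ∧ z = ∑ i, b i • y i := by
  have h1 : z ∈ K • (⊤ : Submodule A L) := by
    have h2 := Ideal.smul_restrictScalars K (⊤ : Submodule B L)
    rw [Submodule.restrictScalars_top] at h2
    have h3 : z ∈ Submodule.restrictScalars A ((K.map (algebraMap A B)) • (⊤ : Submodule B L)) := hz
    rw [h2] at h3
    exact h3
  clear hz
  induction h1 using Submodule.smul_induction_on' with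
  | smul q hq g hg => exact ⟨1, fun _ => q, fun _ => g, fun _ => hq, by simp⟩
  | add z1 hz1 z2 hz2 h1 h2 =>
    obtain ⟨s, b, y, hb, rfl⟩ := h1
    obtain ⟨s', b', y', hb', rfl⟩ := h2
    refine ⟨s + s', Fin.append b b', Fin.append y y', fun i => ?_, ?_⟩
    · refine Fin.addCases (fun i => ?_) (fun i => ?_) i
      · rw [Fin.append_left]; exact hb i
      · rw [Fin.append_right]; exact hb' i
    · rw [Fin.sum_univ_add]
      simp only [Fin.append_left, Fin.append_right]

/-- A linear map `φ : I^c → A` maps `I^n` into `I^(n - c)`. -/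
theorem map_mem (I : Ideal A) {c n : ℕ} (hcn : c ≤ n) (φ : ↥(I ^ c) →ₗ[A] A) (a : ↥(I ^ c))
    (ha : (a : A) ∈ I ^ n) : φ a ∈ I ^ (n - c) := by
  have h1 : a ∈ (I ^ (n - c)) • (⊤ : Submodule A ↥(I ^ c)) := by
    have h2 : I ^ n = I ^ (n - c) * I ^ c := by rw [← pow_add]; congr 1; omega
    rw [h2] at ha
    have h3 : Submodule.map (I ^ c).subtype ((I ^ (n - c)) • (⊤ : Submodule A ↥(I ^ c))) =
        I ^ (n - c) * I ^ c := by
      rw [Submodule.map_smul'', Submodule.map_top, Submodule.range_subtype]; rfl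
    rw [← h3] at ha
    obtain ⟨b, hb, hab⟩ := ha
    have : b = a := Subtype.ext hab
    rwa [← this]
  have h2 : φ a ∈ Submodule.map φ ((I ^ (n - c)) • (⊤ : Submodule A ↥(I ^ c))) := ⟨a, h1, rfl⟩
  rw [Submodule.map_smul''] at h2
  have h3 : φ a ∈ (I ^ (n - c)) • (⊤ : Submodule A A) := Submodule.smul_mono le_rfl le_top h2
  rwa [smul_eq_mul, Ideal.mul_top] at h3

/-- Relations `∑ aᵢ xᵢ = 0` in the terms of an adic system, with `aᵢ ∈ I^n`, `n` large, die under linear maps
`φ : I^c → A`. -/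
theorem exists_bound [IsNoetherianRing B] {r : ℕ} (f : Fin r → A)
    {M : ℕ → Type w} [∀ n, AddCommGroup (M n)] [∀ n, Module B (M n)] {t : ∀ n, M (n + 1) →ₗ[B] M n}
    (h : IsAdicSys ((Ideal.span (Set.range f)).map (algebraMap A B)) t) :
    ∃ d : ℕ, ∀ (c n : ℕ) (_ : c + d ≤ n)
      (φ : ↥(Ideal.span (Set.range f) ^ c) →ₗ[A] A) {ι : Type} [Fintype ι]
      (a : ι → ↥(Ideal.span (Set.range f) ^ c))
      (_ : ∀ i, (a i : A) ∈ Ideal.span (Set.range f) ^ n) (N : ℕ) (_ : n ≤ N) (x : ι → M N)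
      (_ : ∑ i, algebraMap A B (a i) • x i = 0) (q : ℕ) (hq : q + c ≤ N),
      ∑ i, algebraMap A B (φ (a i)) • trans t (le_trans (Nat.le_add_right q c) hq) (x i) = 0 := by
  set I := Ideal.span (Set.range f) with hI
  set J := I.map (algebraMap A B) with hJ
  have hJfg : J.FG := IsNoetherian.noetherian J
  let _ := h.limModule
  have tow1 : IsScalarTower B (AdicCompletion J B) (Lim t) := h.limModule_tower
  have fin : Module.Finite (AdicCompletion J B) (Lim t) := h.limModule_finite
  have noe : IsNoetherianRing (AdicCompletion J B) := AdicNoeth.isNoetherianRing_adicCompletion J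
  let _ : Module A (Lim t) := Module.compHom (Lim t) (algebraMap A B)
  have tow2 : IsScalarTower A B (Lim t) := ⟨fun a b x => by
    rw [Algebra.smul_def, mul_smul]; rfl⟩
  have tow3 : IsScalarTower A B (AdicCompletion J B) := inferInstance
  have tow4 : IsScalarTower A (AdicCompletion J B) (Lim t) := ⟨fun a s x => by
    rw [← algebraMap_smul B a s, smul_assoc]; rfl⟩
  obtain ⟨d, hd⟩ := TorAR.exists_bound.{u, v, w, 0} (A := A) (AdicCompletion J B) (Lim t) f
  refine ⟨d, fun c n hcn φ ι _ a ha N hN x hx q hq => ?_⟩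
  have hcn' : c ≤ n := by omega
  -- lift the `x i` to the limit
  have hl : ∀ i, ∃ y : Lim t, y.1 N = x i := fun i => Lim.proj_surjective h.surj N (x i)
  choose y hy using hl
  have hz : (∑ i, (a i : A) • y i : Lim t).1 N = 0 := by
    have h1 : (∑ i, (a i : A) • y i : Lim t).1 N = ∑ i, algebraMap A B (a i) • x i := by
      change Lim.proj t N (∑ i, (a i : A) • y i) = _
      rw [map_sum]
      refine Finset.sum_congr rfl fun i _ => ?_
      rw [← algebraMap_smul B (a i : A) (y i), map_smul, Lim.proj_apply, hy]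
    rw [h1, hx]
  have hz2 : (∑ i, (a i : A) • y i : Lim t) ∈ ((I ^ (N + 1)).map (algebraMap A B)) • (⊤ : Submodule B (Lim t)) := by
    rw [Ideal.map_pow]
    exact (h.mem_pow_smul_iff hJfg _ N).2 hz
  obtain ⟨s, b, w, hb, hbw⟩ := exists_sum_of_mem (I ^ (N + 1)) _ hz2
  have hbc : ∀ k, b k ∈ I ^ c := fun k => Ideal.pow_le_pow_right (by omega) (hb k)
  have hbn : ∀ k, b k ∈ I ^ n := fun k => Ideal.pow_le_pow_right (by omega) (hb k)
  have key := hd c n hcn φ (ι := ι ⊕ Fin s) (Sum.elim a fun k => -⟨b k, hbc k⟩)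
    (by
      rintro (i | k)
      · exact ha i
      · exact neg_mem (hbn k))
    (Sum.elim y w) (by
      rw [Fintype.sum_sum_type]
      simp only [Sum.elim_inl, Sum.elim_inr]
      rw [hbw, ← Finset.sum_add_distrib]
      refine Finset.sum_eq_zero fun k _ => ?_
      change b k • w k + (-(b k)) • w k = 0
      rw [neg_smul, add_neg_cancel])
  rw [Fintype.sum_sum_type] at key
  simp only [Sum.elim_inl, Sum.elim_inr] at key
  have key2 := congrArg (Lim.proj t q) key
  rw [map_add, map_sum, map_sum, map_zero] at key2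
  have h3 : ∀ k, Lim.proj t q (φ (-⟨b k, hbc k⟩) • w k) = 0 := by
    intro k
    rw [← algebraMap_smul B, map_smul, Lim.proj_apply]
    refine h.kill q _ ?_ _
    have h4 : φ (-⟨b k, hbc k⟩) ∈ I ^ (q + 1) :=
      Ideal.pow_le_pow_right (by omega) (map_mem I (show c ≤ N + 1 by omega) φ (-⟨b k, hbc k⟩) (neg_mem (hb k)))
    rw [hJ, ← Ideal.map_pow]
    exact Ideal.mem_map_of_mem _ h4
  rw [Finset.sum_eq_zero (fun k _ => h3 k), add_zero] at key2
  rw [← key2]
  refine Finset.sum_congr rfl fun i _ => ?_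
  rw [← hy i, Lim.trans_compat, ← algebraMap_smul B (φ (a i)) (y i), map_smul, Lim.proj_apply]

end Groth.Agent.FormalB.TorSys
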