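import Groth.Agent.FormalB.GrTildeSect
import Groth.Agent.FormalB.GlueHom

set_option autoImplicit false
set_option linter.unusedSectionVars false

universe u

open CategoryTheory CategoryTheory.Limits AlgebraicGeometry TopologicalSpace Opposite TopCat

namespace Groth.Agent.FormalB.TwistFrac

open Groth.Agent.FormalB.GrTildeSect Groth.Agent.FormalB.GlueHom

variable {R A : Type u} [CommRing R] [CommRing A] [Algebra R A] {𝒜 : ℕ → Submodule R A} [GradedAlgebra 𝒜]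
variable {M : Type u} [AddCommGroup M] [Module R M] [Module A M] {ℳ : ℕ → Submodule R M}

/-- `s` vanishes nowhere on the open `U` of `Proj 𝒜`. -/
def NV (U : (Proj 𝒜).Opens) (s : A) : Prop := ∀ x : ProjectiveSpectrum 𝒜, x ∈ U → s ∉ x.asHomogeneousIdeal

theorem NV.mono {U V : (Proj 𝒜).Opens} {s : A} (h : NV U s) (hV : V ≤ U) : NV V s := fun x hx => h x (hV hx)

theorem NV.mul {U : (Proj 𝒜).Opens} {s t : A} (hs : NV U s) (ht : NV U t) : NV U (s * t) :=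
  fun x hx => mul_notMem (hs x hx) (ht x hx)

theorem NV.pow {U : (Proj 𝒜).Opens} {s : A} (hs : NV U s) (k : ℕ) : NV U (s ^ k) :=
  fun x hx => pow_notMem (hs x hx) k

theorem NV.one (U : (Proj 𝒜).Opens) : NV U (1 : A) := fun x _ => one_notMem x

theorem NV.basicOpen (s : A) : NV (Proj.basicOpen 𝒜 s) s := fun _ hx => hx

theorem NV.of_le {U : (Proj 𝒜).Opens} {s : A} (h : U ≤ Proj.basicOpen 𝒜 s) : NV U s := fun _ hx => h hx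

/-! ### Fractions as sections of the structure sheaf -/

/-- The function `a / b` on `U`. -/
def ofrac (U : (Proj 𝒜).Opens) {i : ℕ} {a b : A} (ha : a ∈ 𝒜 i) (hb : b ∈ 𝒜 i) (hU : NV U b) :
    Γ(Proj 𝒜, U) :=
  show (ProjectiveSpectrum.Proj.structureSheaf 𝒜).1.obj (op U) from
  ⟨fun x => HomogeneousLocalization.mk ⟨i, ⟨a, ha⟩, ⟨b, hb⟩, hU x.1 x.2⟩,
    fun x => ⟨U, x.2, 𝟙 _, i, ⟨a, ha⟩, ⟨b, hb⟩, fun y => hU y.1 y.2, fun _ => rfl⟩⟩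

/-- Value of a function at a point, in the localization. -/
def oval {U : (Proj 𝒜).Opens} (c : Γ(Proj 𝒜, U)) (x : U) : Twist.Loc 𝒜 x.1 :=
  HomogeneousLocalization.val ((show (ProjectiveSpectrum.Proj.structureSheaf 𝒜).1.obj (op U) from c).1 x)

theorem oval_ofrac (U : (Proj 𝒜).Opens) {i : ℕ} {a b : A} (ha : a ∈ 𝒜 i) (hb : b ∈ 𝒜 i) (hU : NV U b) (x : U) :
    oval (ofrac U ha hb hU) x = Localization.mk a ⟨b, hU x.1 x.2⟩ := rfl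

theorem oval_ext {U : (Proj 𝒜).Opens} {c d : Γ(Proj 𝒜, U)} (h : ∀ x : U, oval c x = oval d x) : c = d := by
  apply Subtype.ext
  funext x
  exact HomogeneousLocalization.val_injective _ (h x)

theorem map_ofrac {U V : (Proj 𝒜).Opens} (h : V ≤ U) {i : ℕ} {a b : A} (ha : a ∈ 𝒜 i) (hb : b ∈ 𝒜 i)
    (hU : NV U b) : (Proj 𝒜).presheaf.map (homOfLE h).op (ofrac U ha hb hU) = ofrac V ha hb (hU.mono h) := rfl

theorem exists_ofrac {U : (Proj 𝒜).Opens} (c : Γ(Proj 𝒜, U)) (x : ProjectiveSpectrum 𝒜) (hx : x ∈ U) :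
    ∃ (V : (Proj 𝒜).Opens) (h : V ≤ U) (i : ℕ) (a b : A) (ha : a ∈ 𝒜 i) (hb : b ∈ 𝒜 i) (hV : NV V b), x ∈ V ∧
      (Proj 𝒜).presheaf.map (homOfLE h).op c = ofrac V ha hb hV := by
  obtain ⟨V, hxV, iV, j, ⟨a, ha⟩, ⟨b, hb⟩, nin, w⟩ :=
    (show (ProjectiveSpectrum.Proj.structureSheaf 𝒜).1.obj (op U) from c).2 ⟨x, hx⟩
  refine ⟨V, iV.le, j, a, b, ha, hb, fun y hy => nin ⟨y, hy⟩, hxV, ?_⟩
  apply Subtype.ext
  funext y
  exact w y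

/-! ### Fractions as sections of `M(n)~` -/

section Mod

variable [SetLike.GradedSMul 𝒜 ℳ]

/-- The section `m / s` of `M(n)~`. -/
noncomputable def gfrac (n : ℤ) (U : (Proj 𝒜).Opens) {j : ℕ} {s : A} (hs : s ∈ 𝒜 j) (hU : NV U s) {m : M}
    (hm : m ∈ zdeg ℳ (j + n)) : Γ(GrTilde.tilde 𝒜 ℳ n, U) :=
  show GrTilde.sect 𝒜 ℳ n (op U) from frac n U hs hU hm

/-- Value of a section of `M(n)~` at a point. -/
noncomputable def gval {n : ℤ} {U : (Proj 𝒜).Opens} (t : Γ(GrTilde.tilde 𝒜 ℳ n, U)) (x : U) :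
    GrTilde.LocMod 𝒜 (M := M) x.1 :=
  ((show GrTilde.sect 𝒜 ℳ n (op U) from t).1 x).1

theorem gval_gfrac (n : ℤ) (U : (Proj 𝒜).Opens) {j : ℕ} {s : A} (hs : s ∈ 𝒜 j) (hU : NV U s) {m : M}
    (hm : m ∈ zdeg ℳ (j + n)) (x : U) :
    gval (gfrac n U hs hU hm) x = LocalizedModule.mk m ⟨s, hU x.1 x.2⟩ := rfl

theorem gval_ext {n : ℤ} {U : (Proj 𝒜).Opens} {s t : Γ(GrTilde.tilde 𝒜 ℳ n, U)} (h : ∀ x : U, gval s x = gval t x) :
    s = t := sect_ext h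

theorem gval_add {n : ℤ} {U : (Proj 𝒜).Opens} (s t : Γ(GrTilde.tilde 𝒜 ℳ n, U)) (x : U) :
    gval (s + t) x = gval s x + gval t x := rfl

theorem gval_zero {n : ℤ} {U : (Proj 𝒜).Opens} (x : U) :
    gval (0 : Γ(GrTilde.tilde 𝒜 ℳ n, U)) x = 0 := rfl

theorem gval_smul {n : ℤ} {U : (Proj 𝒜).Opens} (c : Γ(Proj 𝒜, U)) (t : Γ(GrTilde.tilde 𝒜 ℳ n, U)) (x : U) :
    gval (c • t) x = oval c x • gval t x := rfl

theorem gval_res {n : ℤ} {U V : (Proj 𝒜).Opens} (h : V ≤ U) (t : Γ(GrTilde.tilde 𝒜 ℳ n, U)) (x : V) :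
    gval (res _ h t) x = gval t ⟨x.1, h x.2⟩ := rfl

theorem res_gfrac (n : ℤ) {U V : (Proj 𝒜).Opens} (h : V ≤ U) {j : ℕ} {s : A} (hs : s ∈ 𝒜 j) (hU : NV U s) {m : M}
    (hm : m ∈ zdeg ℳ (j + n)) : res _ h (gfrac n U hs hU hm) = gfrac n V hs (hU.mono h) hm := rfl

theorem exists_gfrac {n : ℤ} {U : (Proj 𝒜).Opens} (t : Γ(GrTilde.tilde 𝒜 ℳ n, U)) (x : ProjectiveSpectrum 𝒜)
    (hx : x ∈ U) :
    ∃ (V : (Proj 𝒜).Opens) (h : V ≤ U) (e : ℕ) (g : A) (m : M) (hg : g ∈ 𝒜 e) (hV : NV V g)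
      (hm : m ∈ zdeg ℳ (e + n)), 0 < e ∧ x ∈ V ∧ V = Proj.basicOpen 𝒜 g ∧ res _ h t = gfrac n V hg hV hm := by
  obtain ⟨e, g, m, he, hg, hgx, hm, h⟩ :=
    exists_frac_at n (show GrTilde.sect 𝒜 ℳ n (op U) from t) ⟨x, hx⟩
  refine ⟨Proj.basicOpen 𝒜 g, fun y hy => (h y hy).choose, e, g, m, hg, NV.basicOpen g, hm, he, hgx, rfl,
    gval_ext fun y => ?_⟩
  obtain ⟨h1, h2⟩ := h y.1 y.2
  exact h2

theorem gfrac_congr {n : ℤ} {U : (Proj 𝒜).Opens} {j j' : ℕ} {s s' : A} {hs : s ∈ 𝒜 j} {hU : NV U s} {m m' : M}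
    {hm : m ∈ zdeg ℳ (j + n)} {hs' : s' ∈ 𝒜 j'} {hU' : NV U s'} {hm' : m' ∈ zdeg ℳ (j' + n)}
    (h : s' • m = s • m') : gfrac n U hs hU hm = gfrac n U hs' hU' hm' :=
  gval_ext fun x => mk_eq_of_smul_eq 1 (one_notMem x.1) (by rw [one_smul, one_smul]; exact h)

theorem gfrac_add (n : ℤ) (U : (Proj 𝒜).Opens) {j : ℕ} {s : A} (hs : s ∈ 𝒜 j) (hU : NV U s) {m m' : M}
    (hm : m ∈ zdeg ℳ (j + n)) (hm' : m' ∈ zdeg ℳ (j + n)) :
    gfrac n U hs hU hm + gfrac n U hs hU hm' = gfrac n U hs hU (add_mem hm hm') := by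
  apply gval_ext
  intro x
  rw [gval_add, gval_gfrac, gval_gfrac, gval_gfrac, LocalizedModule.mk_add_mk]
  exact mk_eq_of_smul_eq (x := x.1) (hg := mul_notMem (hU x.1 x.2) (hU x.1 x.2)) (hg' := hU x.1 x.2) 1 (one_notMem x.1) (by
    simp only [Submonoid.smul_def, smul_add, smul_smul])

theorem ofrac_smul_gfrac (n : ℤ) (U : (Proj 𝒜).Opens) {i j : ℕ} {a b : A} (ha : a ∈ 𝒜 i) (hb : b ∈ 𝒜 i)
    (hbU : NV U b) {s : A} (hs : s ∈ 𝒜 j) (hU : NV U s) {m : M} (hm : m ∈ zdeg ℳ (j + n)) :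
    ofrac U ha hb hbU • gfrac n U hs hU hm =
      gfrac n U (SetLike.mul_mem_graded hb hs) (hbU.mul hU)
        (smul_mem_zdeg_of_eq 𝒜 ha hm (by push_cast; ring)) := by
  apply gval_ext
  intro x
  rw [gval_smul, oval_ofrac, gval_gfrac, gval_gfrac]
  exact LocalizedModule.mk_smul_mk _ _ _ _

end Mod

/-! ### Fractions as sections of the twisting sheaves -/

/-- The section `a / s` of `O(n)`. -/
noncomputable def tfrac (n : ℤ) (U : (Proj 𝒜).Opens) {j : ℕ} {s : A} (hs : s ∈ 𝒜 j) (hU : NV U s) {a : A}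
    (ha : a ∈ zdeg 𝒜 (j + n)) : Γ(Twist.twist 𝒜 n, U) :=
  show Twist.sectN (𝒜 := 𝒜) n (op U) from
  ⟨fun x => ⟨Localization.mk a ⟨s, hU x.1 x.2⟩, by
    rcases mem_zdeg_iff.mp ha with ⟨i, h, hi⟩ | rfl
    · exact Submodule.subset_span ⟨i, j, ⟨a, hi⟩, ⟨s, hs⟩, hU x.1 x.2, h, rfl⟩
    · rw [Localization.mk_zero]; exact zero_mem _⟩, by
    intro x
    rcases mem_zdeg_iff.mp ha with ⟨i, h, hi⟩ | h0
    · exact ⟨U, x.2, 𝟙 _, i, j, ⟨a, hi⟩, ⟨s, hs⟩, fun y => hU y.1 y.2, Or.inl h, fun y => rfl⟩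
    · exact ⟨U, x.2, 𝟙 _, 0, j, ⟨a, by rw [h0]; exact zero_mem _⟩, ⟨s, hs⟩, fun y => hU y.1 y.2, Or.inr h0,
        fun y => rfl⟩⟩

/-- Value of a section of `O(n)` at a point. -/
noncomputable def tval {n : ℤ} {U : (Proj 𝒜).Opens} (t : Γ(Twist.twist 𝒜 n, U)) (x : U) : Twist.Loc 𝒜 x.1 :=
  ((show Twist.sectN (𝒜 := 𝒜) n (op U) from t).1 x).1

theorem tval_tfrac (n : ℤ) (U : (Proj 𝒜).Opens) {j : ℕ} {s : A} (hs : s ∈ 𝒜 j) (hU : NV U s) {a : A}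
    (ha : a ∈ zdeg 𝒜 (j + n)) (x : U) :
    tval (tfrac n U hs hU ha) x = Localization.mk a ⟨s, hU x.1 x.2⟩ := rfl

theorem tval_ext {n : ℤ} {U : (Proj 𝒜).Opens} {s t : Γ(Twist.twist 𝒜 n, U)} (h : ∀ x : U, tval s x = tval t x) :
    s = t :=
  Subtype.ext (funext fun x => Subtype.ext (h x))

theorem tval_add {n : ℤ} {U : (Proj 𝒜).Opens} (s t : Γ(Twist.twist 𝒜 n, U)) (x : U) :
    tval (s + t) x = tval s x + tval t x := rfl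

theorem tval_zero {n : ℤ} {U : (Proj 𝒜).Opens} (x : U) :
    tval (0 : Γ(Twist.twist 𝒜 n, U)) x = 0 := rfl

theorem tval_smul {n : ℤ} {U : (Proj 𝒜).Opens} (c : Γ(Proj 𝒜, U)) (t : Γ(Twist.twist 𝒜 n, U)) (x : U) :
    tval (c • t) x = oval c x * tval t x := Twist.coe_smul_val _ _ _ _

theorem tval_res {n : ℤ} {U V : (Proj 𝒜).Opens} (h : V ≤ U) (t : Γ(Twist.twist 𝒜 n, U)) (x : V) :
    tval (res _ h t) x = tval t ⟨x.1, h x.2⟩ := rfl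

theorem res_tfrac (n : ℤ) {U V : (Proj 𝒜).Opens} (h : V ≤ U) {j : ℕ} {s : A} (hs : s ∈ 𝒜 j) (hU : NV U s) {a : A}
    (ha : a ∈ zdeg 𝒜 (j + n)) : res _ h (tfrac n U hs hU ha) = tfrac n V hs (hU.mono h) ha := rfl

theorem exists_tfrac {n : ℤ} {U : (Proj 𝒜).Opens} (t : Γ(Twist.twist 𝒜 n, U)) (x : ProjectiveSpectrum 𝒜)
    (hx : x ∈ U) :
    ∃ (V : (Proj 𝒜).Opens) (h : V ≤ U) (e : ℕ) (g : A) (a : A) (hg : g ∈ 𝒜 e) (hV : NV V g)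
      (ha : a ∈ zdeg 𝒜 (e + n)), x ∈ V ∧ res _ h t = tfrac n V hg hV ha := by
  obtain ⟨V, hxV, iV, i, j, ⟨a, ha⟩, ⟨s, hs⟩, nin, h, w⟩ :=
    (show Twist.sectN (𝒜 := 𝒜) n (op U) from t).2 ⟨x, hx⟩
  refine ⟨V, iV.le, j, s, a, hs, fun y hy => nin ⟨y, hy⟩, ?_, hxV, tval_ext fun y => w y⟩
  rcases h with h | h
  · exact mem_zdeg_of_eq h ha
  · have : a = 0 := h
    rw [this]; exact zero_mem _

theorem tfrac_congr {n : ℤ} {U : (Proj 𝒜).Opens} {j j' : ℕ} {s s' : A} {hs : s ∈ 𝒜 j} {hU : NV U s} {a a' : A}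
    {ha : a ∈ zdeg 𝒜 (j + n)} {hs' : s' ∈ 𝒜 j'} {hU' : NV U s'} {ha' : a' ∈ zdeg 𝒜 (j' + n)}
    (h : s' * a = s * a') : tfrac n U hs hU ha = tfrac n U hs' hU' ha' :=
  tval_ext fun x => by
    rw [tval_tfrac, tval_tfrac, Localization.mk_eq_mk_iff, Localization.r_iff_exists]
    exact ⟨1, by simpa using h⟩

theorem tfrac_add (n : ℤ) (U : (Proj 𝒜).Opens) {j : ℕ} {s : A} (hs : s ∈ 𝒜 j) (hU : NV U s) {a a' : A}
    (ha : a ∈ zdeg 𝒜 (j + n)) (ha' : a' ∈ zdeg 𝒜 (j + n)) :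
    tfrac n U hs hU ha + tfrac n U hs hU ha' = tfrac n U hs hU (add_mem ha ha') := by
  apply tval_ext
  intro x
  rw [tval_add, tval_tfrac, tval_tfrac, tval_tfrac, Localization.add_mk_self]

theorem ofrac_smul_tfrac (n : ℤ) (U : (Proj 𝒜).Opens) {i j : ℕ} {a b : A} (ha : a ∈ 𝒜 i) (hb : b ∈ 𝒜 i)
    (hbU : NV U b) {s : A} (hs : s ∈ 𝒜 j) (hU : NV U s) {c : A} (hc : c ∈ zdeg 𝒜 (j + n)) :
    ofrac U ha hb hbU • tfrac n U hs hU hc =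
      tfrac n U (SetLike.mul_mem_graded hb hs) (hbU.mul hU)
        (smul_mem_zdeg_of_eq 𝒜 ha hc (by push_cast; ring) : a * c ∈ zdeg 𝒜 (((i + j : ℕ) : ℤ) + n)) := by
  apply tval_ext
  intro x
  rw [tval_smul, oval_ofrac, tval_tfrac, tval_tfrac, Localization.mk_mul]
  rfl

theorem tfrac_zero (n : ℤ) (U : (Proj 𝒜).Opens) {j : ℕ} {s : A} (hs : s ∈ 𝒜 j) (hU : NV U s) :
    tfrac n U hs hU (zero_mem (zdeg 𝒜 (j + n)) : (0 : A) ∈ zdeg 𝒜 (j + n)) = 0 := by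
  apply tval_ext
  intro x
  rw [tval_tfrac, tval_zero, Localization.mk_zero]

end Groth.Agent.FormalB.TwistFrac
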